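import Cfsg.Agent.H836.Bridge
import Cfsg.Agent.H834.Base

/-!
# Groups of type `M(22)` have a model (helper834)
-/

set_option autoImplicit false

namespace Cfsg.Agent.H834.Bridge

open Cfsg Cfsg.Agent.KFacts.FiTT

theorem model_of_iso {G : Type*} [Group G] {D : Set G} (e : G ≃* Spor.Fi22)
    (h : D = e.symm '' (conjugatesOf (Cfsg.Agent.Fischer.Fi22PtsRep.gen .a))) : Nonempty (Model G D) := by
  refine ⟨⟨e.symm, ?_⟩⟩
  intro x
  rw [h]
  constructor
  · rintro ⟨y, hy, rfl⟩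
    obtain ⟨c, rfl⟩ := isConj_iff.1 (show IsConj _ _ from hy)
    exact ⟨e.symm c, by rw [map_mul, map_mul, map_inv]⟩
  · rintro ⟨g, rfl⟩
    refine ⟨e g * Cfsg.Agent.Fischer.Fi22PtsRep.gen .a * (e g)⁻¹, ?_, ?_⟩
    · show IsConj _ _
      exact isConj_iff.2 ⟨e g, rfl⟩
    · rw [map_mul, map_mul, map_inv, e.symm_apply_apply]

theorem exists_model {G : Type*} [Group G] [Finite G] {D : Set G} (hD : Cfsg.IsThreeTranspositionGroup D)
    (hprim : Cfsg.IsPrimitiveUnderConj D) (h22 : Cfsg.IsOfTypeM22 G D) : Nonempty (Model G D) := by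
  obtain ⟨e, he⟩ := Cfsg.Agent.H836.Bridge.exists_iso hD hprim h22
  exact model_of_iso e he.symm

end Cfsg.Agent.H834.Bridge
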