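import Cfsg.Agent.H834.SpEndA
import Cfsg.Agent.H833.AutFinal
import Cfsg.Agent.H830.Con22
import Cfsg.Agent.OddHalf.D8.Fi22.KAll
import Cfsg.Agent.OddHalf.D8.Fi22.Row

/-!
# `SpSix`, the END: a finite group with `F* = Fi22` in which `A` has the normaliser `Sp_6(2)` is `Fi22` (helper834)

`eq_top` : `Sit th O K0` in `G`, `K ≤ G` normal with trivial centralizer, `K ≅ Fi22`, `A ≤ K`: then `K = G`.
-/

set_option autoImplicit false

namespace Cfsg.Agent.H834.SpEnd

open Cfsg Cfsg.Spor Subgroup Cfsg.Agent.H336.SpSix Cfsg.Agent.KFacts.FiTT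
open Cfsg.Agent.OddHalf.D8.Fi22 (KTrans kTrans all_of_iso)
open Cfsg.Agent.OddHalf.D8.Fi22.Row (card_cent)
open Cfsg.Agent.H833.AutPair Cfsg.Agent.H833.AutFinal

section

variable {K : Type*} [Group K]

/-- `|C_A(conj x)|` divides `2 |C_K(x)|` -/
theorem card_cent_dvd {T : Set K} (h : KTrans K T) {a b : K} {R : Subgroup K} (F : Facts K a b R) (x : K) :
    Nat.card (centralizer ({MulAut.conj x} : Set (MulAut K))) ∣ 2 * Nat.card (centralizer ({x} : Set K)) := by
  set I : Subgroup (MulAut K) := (MulAut.conj : K →* MulAut K).range with hI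
  have hIn : I.Normal := by
    constructor
    rintro _ ⟨x, rfl⟩ α
    rw [conj_aut]
    exact ⟨_, rfl⟩
  have hcard : Nat.card (I ⊓ centralizer ({MulAut.conj x} : Set (MulAut K)) : Subgroup (MulAut K)) =
      Nat.card (centralizer ({x} : Set K)) := by
    have hm : ∀ g : centralizer ({x} : Set K),
        MulAut.conj (g : K) ∈ centralizer ({MulAut.conj x} : Set (MulAut K)) := by
      intro g
      have hg : (g : K) * x = x * g := mem_centralizer_singleton_iff.1 g.2
      rw [mem_Cz F, MulAut.conj_apply, hg, mul_inv_cancel_right]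
    symm
    apply Nat.card_eq_of_bijective (fun g : centralizer ({x} : Set K) =>
      (⟨MulAut.conj (g : K), ⟨(g : K), rfl⟩, hm g⟩ :
        (I ⊓ centralizer ({MulAut.conj x} : Set (MulAut K)) : Subgroup (MulAut K))))
    constructor
    · intro y z hyz
      exact Subtype.ext (conj_inj F (congrArg Subtype.val hyz))
    · rintro ⟨α, ⟨y, hy⟩, hα⟩
      have hy' : MulAut.conj y = α := hy
      subst hy'
      have h1 := (mem_Cz F).1 hα
      rw [MulAut.conj_apply] at h1
      exact ⟨⟨y, mem_centralizer_singleton_iff.2 (mul_inv_eq_iff_eq_mul.1 h1)⟩, rfl⟩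
  rw [← card_mul_relIndex_inf I, hcard, mul_comm 2]
  apply Nat.mul_dvd_mul_left
  refine (relIndex_dvd_index_of_normal I _).trans ?_
  rcases Cfsg.Agent.OddHalf.D8.Fi22.OutIdx.MulOuter.index_le h.out with h6 | h6 <;> rw [← hI] at h6 <;> rw [h6]
  · exact one_dvd _

theorem card_centralizer_map {L : Type*} [Group L] (e : K ≃* L) (x : K) :
    Nat.card (centralizer ({x} : Set K)) = Nat.card (centralizer ({e x} : Set L)) := by
  apply Nat.card_eq_of_bijective (fun g : centralizer ({x} : Set K) =>
    (⟨e g, mem_centralizer_singleton_iff.2 (by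
      rw [← map_mul, mem_centralizer_singleton_iff.1 g.2, map_mul])⟩ : centralizer ({e x} : Set L)))
  constructor
  · intro y z hyz
    exact Subtype.ext (e.injective (congrArg Subtype.val hyz))
  · rintro ⟨y, hy⟩
    refine ⟨⟨e.symm y, mem_centralizer_singleton_iff.2 (e.injective ?_)⟩, Subtype.ext (e.apply_symm_apply y)⟩
    rw [map_mul, map_mul, e.apply_symm_apply]
    exact mem_centralizer_singleton_iff.1 hy

/-- an involution `x` of `Fi22` with `2 ^ 17 ∣ |C(x)|` is a product of two commuting transpositions -/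
theorem two_of_dvd (e : K ≃* Spor.Fi22) {x : K} (hxx : x * x = 1) (hx1 : x ≠ 1)
    (h17 : 2 ^ 17 ∣ Nat.card (centralizer ({x} : Set K))) :
    ∃ a ∈ TK e, ∃ b ∈ TK e, a ≠ b ∧ a * b = b * a ∧ x = a * b ∧ x ∉ TK e := by
  have kt : KTrans K (TK e) := kTrans e
  have hT : x ∉ TK e := by
    intro hx
    obtain ⟨a1, ha1, b1, hb1, n1, c1⟩ := kt.pair
    obtain ⟨g, rfl⟩ := kt.trans a1 ha1 x hx
    have hb2 := kt.conj g b1 hb1
    obtain ⟨R, hR⟩ := all_of_iso e hx hb2 (fun hh => n1 (mul_left_cancel (mul_right_cancel hh))) (by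
      calc g * a1 * g⁻¹ * (g * b1 * g⁻¹) = g * (a1 * b1) * g⁻¹ := by group
        _ = g * (b1 * a1) * g⁻¹ := by rw [c1]
        _ = _ := by group)
    have h1 := card_cent hR.facts
    rw [h1] at h17
    norm_num at h17
  rcases kt.inv x hxx with h1 | h1 | ⟨a, ha, b, hb, h1, h2, h3⟩ | ⟨a, ha, b, hb, c, hc, n1, n2, n3, c1, c2, c3, h1⟩
  · exact absurd h1 hx1
  · exact absurd h1 hT
  · exact ⟨a, ha, b, hb, h1, h2, h3, hT⟩
  · exfalso
    obtain ⟨a', ha', rfl⟩ := ha
    obtain ⟨b', hb', rfl⟩ := hb
    obtain ⟨c', hc', rfl⟩ := hc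
    have com : ∀ {y z : Spor.Fi22}, e.symm y * e.symm z = e.symm z * e.symm y → Commute y z := by
      intro y z hyz
      apply e.symm.injective
      rw [map_mul, map_mul, hyz]
    have h2 := Cfsg.Agent.H832.ThreeProd.card_cent_three Cfsg.Agent.H830.Con22.fgroup Cfsg.Agent.H830.Con22.isT6
      ha' hb' hc' (fun hh => n1 (congrArg _ hh)) (fun hh => n2 (congrArg _ hh)) (fun hh => n3 (congrArg _ hh))
      (com c1) (com c2) (com c3)
    have h3 : e x = a' * b' * c' := by
      rw [h1, map_mul, map_mul, e.apply_symm_apply, e.apply_symm_apply, e.apply_symm_apply]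
    rw [card_centralizer_map e x, h3, h2] at h17
    norm_num at h17

/-- **No situation in `Aut Fi22`.** -/
theorem aut_false (e : K ≃* Spor.Fi22) {th : V → MulAut K} {O K0 : Subgroup (MulAut K)} (h : Sit th O K0)
    (t : V → K) (ht : ∀ v, th v = MulAut.conj (t v)) : False := by
  have kt : KTrans K (TK e) := kTrans e
  obtain ⟨a1, ha1, b1, hb1, n1, c1⟩ := kt.pair
  obtain ⟨R1, Ψ1, -, S1, -⟩ := exists_all e ha1 hb1 n1 c1
  have F1 := S1.F
  have hcA := S1.card_aut (outFix e)
  have hK : Finite K := Nat.finite_of_card_ne_zero (by rw [F1.card]; norm_num)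
  have hfA : Finite (MulAut K) := Nat.finite_of_card_ne_zero (by rw [hcA]; norm_num)
  obtain ⟨a0, ha0⟩ : ∃ a0 : V, a0 ≠ 0 := exists_ne 0
  have hx1 : t a0 ≠ 1 := by
    intro hh
    apply ha0
    rw [← h.eq_one_iff, ht, hh, map_one]
  have hxx : t a0 * t a0 = 1 := by
    apply conj_inj F1
    rw [map_mul, ← ht, h.sq, map_one]
  have h18 : 2 ^ 18 ∣ Nat.card (centralizer ({MulAut.conj (t a0)} : Set (MulAut K))) := by
    have h1 := h.odd_index ha0
    rw [ht] at h1
    have h2 := (centralizer ({MulAut.conj (t a0)} : Set (MulAut K))).card_mul_index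
    rw [hcA] at h2
    have h3 : 2 ^ 18 ∣ Nat.card (centralizer ({MulAut.conj (t a0)} : Set (MulAut K))) *
        (centralizer ({MulAut.conj (t a0)} : Set (MulAut K))).index := by
      rw [h2]; norm_num
    refine Nat.Coprime.dvd_of_dvd_mul_right (Nat.Coprime.pow_left _ ?_) h3
    rw [Nat.coprime_two_left, ← Nat.not_even_iff_odd, even_iff_two_dvd]
    exact h1
  have h17 : 2 ^ 17 ∣ Nat.card (centralizer ({t a0} : Set K)) := by
    have h1 := h18.trans (card_cent_dvd kt F1 (t a0))
    rw [pow_succ, mul_comm (2 ^ 17)] at h1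
    exact Nat.dvd_of_mul_dvd_mul_left (by norm_num) h1
  obtain ⟨a, ha, b, hb, n, c, hab, hT⟩ := two_of_dvd e hxx hx1 h17
  obtain ⟨R, Ψ, hΨs, S, -⟩ := exists_all e ha hb n c
  set Q := Ψ.ker.map (centralizer ({MulAut.conj (a * b)} : Set (MulAut K))).subtype with hQ
  have hj : th a0 = MulAut.conj (a * b) := by rw [ht, hab]
  have hadj : MulAut.conj (a * b) = MulAut.conj a * MulAut.conj b := map_mul _ _ _
  have hbb : MulAut.conj b = MulAut.conj a * th a0 := by
    rw [hj, hadj, ← mul_assoc, ← map_mul, S.F.dd, map_one, one_mul]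
  have D : Dat h a0 Q (MulAut.conj a) :=
    { ha := ha0
      j_mem := by rw [hj]; exact S.j_mem
      comm := fun x hx y hy => by rw [hj]; exact S.act.comm x hx y hy
      sq := fun q hq => by rw [hj]; exact S.sq hq
      cent := fun g hg => by rw [hj]; exact S.cent hg
      normal := fun g hg q hq => by
        rw [hj] at hg
        exact S.normal (mem_centralizer_singleton_iff.2 hg) hq
      card := S.card
      cardC := by
        rw [hj, Ψ.ker.card_eq_card_quotient_mul_card_subgroup,
          Nat.card_congr (QuotientGroup.quotientKerEquivOfSurjective Ψ hΨs).toEquiv,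
          Cfsg.Agent.H833.CentQuot.card_mulAut]
        congr 1
        have h1 := S.card
        rwa [card_map_of_injective (subtype_injective _)] at h1
      d_mem := S.conj_mem S.F.d_mem
      dd := by rw [← map_mul, S.F.dd, map_one]
      dA := by
        rintro ⟨v, hv⟩
        have hv0 : v ≠ 0 := by
          rintro rfl
          rw [h.zero] at hv
          exact S.F.d_ne (conj_inj S.F (by rw [← hv, map_one]))
        obtain ⟨k, -, hk⟩ := h.exists_conj hv0 ha0
        rw [hv, hj, conj_aut] at hk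
        apply hT
        rw [hab, ← conj_inj S.F hk]
        exact kt.aut k a ha
      dj := fun g hg => by
        rw [hj] at hg
        have hg' : g (a * b) = a * b := (mem_Cz S.F).1 (mem_centralizer_singleton_iff.2 hg)
        rcases swap_or_fix kt ha hb S.F hg' with ⟨h1, -⟩ | ⟨h1, -⟩
        · left
          rw [conj_aut, h1]
        · right
          rw [conj_aut, h1, hbb] }
  exact D.false

end

/-- **The END for `Fi22`.** -/
theorem eq_top {G : Type*} [Group G] [Finite G] {th : V → G} {O K0 : Subgroup G} (h : Sit th O K0)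
    (K : Subgroup G) [K.Normal] (hC : centralizer (K : Set G) = ⊥) (hK : ∀ v, th v ∈ K)
    (hF : Spor.IsoFi22 K) : K = ⊤ := by
  obtain ⟨e⟩ := hF
  by_contra hne
  have kt : KTrans K (TK e) := kTrans e
  obtain ⟨a1, ha1, b1, hb1, n1, c1⟩ := kt.pair
  obtain ⟨R1, Ψ1, -, S1, -⟩ := exists_all e ha1 hb1 n1 c1
  have hcA := S1.card_aut (outFix e)
  have hfA : Finite (MulAut K) := Nat.finite_of_card_ne_zero (by rw [hcA]; norm_num)
  have hinj : Function.Injective (MulAut.conjNormal : G →* MulAut K) := by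
    rw [injective_iff_map_eq_one]
    intro g hg
    have h1 : g ∈ centralizer (K : Set G) := by
      rw [mem_centralizer_iff]
      intro y hy
      have h2 := congrArg (fun α : MulAut K => ((α ⟨y, hy⟩ : K) : G)) hg
      simp only [MulAut.conjNormal_apply, MulAut.one_apply] at h2
      exact (mul_inv_eq_iff_eq_mul.1 h2).symm
    rw [hC] at h1
    exact h1
  have hcard : Nat.card (MulAut K) ≤ Nat.card G := by
    have h1 := K.card_mul_index
    have h2 : K.index ≠ 1 := fun hh => hne (index_eq_one.1 hh)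
    have h3 : K.index ≠ 0 := index_ne_zero_of_finite
    rw [hcA, ← h1, kt.card, mul_comm]
    exact Nat.mul_le_mul_left _ (by omega)
  have hbij := hinj.bijective_of_nat_card_le hcard
  exact aut_false e (h.equiv (MulEquiv.ofBijective _ hbij)) (fun v => ⟨th v, hK v⟩) fun v => by
    show MulAut.conjNormal (th v) = _
    exact MulAut.conjNormal_val (h := ⟨th v, hK v⟩)

end Cfsg.Agent.H834.SpEnd
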