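import Cfsg.Agent.H834.AChk2

/-!
# The normalizer of the elementary abelian subgroup of order `3^5` of `Fi22` (helper834)
-/

set_option autoImplicit false
set_option maxRecDepth 100000
set_option exponentiation.threshold 5000
set_option linter.constructorNameAsVariable false

namespace Cfsg.Agent.H834

open Cfsg.Spor Cfsg.Spor.Fi22 Cfsg.Agent.Lib.PermNet Cfsg.Agent.Lib.PermNetOrbit Cfsg.Agent.Lib.PermNetFix
open Cfsg.Agent.Fischer Cfsg.Agent.Fischer.Fi22PtsRep
open Cfsg.Agent.Fischer.Fi22Order (nws nws_ok)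
open AC Matrix

/-- An isomorphism from a functional relation. -/
theorem iso_of_rel {N R : Type*} [Group N] [Group R] (A : Subgroup N) [A.Normal] (r : N → R → Prop)
    (ht : ∀ n, ∃ u, r n u) (hu : ∀ n u v, r n u → r n v → u = v)
    (hm : ∀ n k u v, r n u → r k v → r (n * k) (u * v)) (hs : ∀ u, ∃ n, r n u) (hk : ∀ n, r n 1 ↔ n ∈ A) :
    Nonempty (N ⧸ A ≃* R) := by
  choose f hf using ht
  let F : N →* R := MonoidHom.mk' f fun a b => hu _ _ _ (hf (a * b)) (hm _ _ _ _ (hf a) (hf b))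
  have hF : Function.Surjective F := by
    intro u
    obtain ⟨n, hn⟩ := hs u
    exact ⟨n, hu _ _ _ (hf n) hn⟩
  have hker : A = F.ker := by
    ext n
    rw [MonoidHom.mem_ker, ← hk]
    constructor
    · intro h; exact hu _ _ _ (hf n) h
    · intro h
      have : f n = 1 := h
      rw [← this]; exact hf n
  exact ⟨(QuotientGroup.quotientMulEquivOfEq hker).trans (QuotientGroup.quotientKerEquivOfSurjective F hF)⟩

theorem testBit_pat (l : List ((List Gen × Gen) × Bool)) (F p : ℕ) :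
    (pat l F).testBit p = true ↔ F.testBit p = true ∧ ∀ c ∈ l, (cmk c.1).testBit p = c.2 := by
  induction l generalizing F with
  | nil => simp [pat]
  | cons c l ih =>
    obtain ⟨c, b⟩ := c
    cases b with
    | true =>
      have e : pat ((c, true) :: l) F = pat l (F &&& cmk c) := by
        show seq (Nat.land F (cmk c)) (fun x => pat l x) = _
        rw [seq_eq]; rfl
      rw [e, ih, Nat.testBit_and, Bool.and_eq_true]
      simp only [List.mem_cons, forall_eq_or_imp]
      tauto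
    | false =>
      have e : pat ((c, false) :: l) F = pat l (F ^^^ (F &&& cmk c)) := by
        show seq (Nat.land F (cmk c)) (fun x => pat l (Nat.xor F x)) = _
        rw [seq_eq]; rfl
      rw [e, ih, Nat.testBit_xor, Nat.testBit_and]
      simp only [List.mem_cons, forall_eq_or_imp]
      cases F.testBit p <;> cases (cmk c).testBit p <;> simp

theorem FM_lt {p : ℕ} (hp : FM.testBit p = true) : p < 3510 := by
  by_contra h
  have h1 : FM < 2 ^ 3510 := by
    have h2 : Nat.beq (Nat.shiftRight FM 3510) 0 = true := by decide +kernel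
    have h3 : FM >>> 3510 = 0 := Nat.eq_of_beq_eq_true h2
    rw [Nat.shiftRight_eq_div_pow] at h3
    exact (Nat.div_eq_zero_iff_lt (by positivity)).1 h3
  have h2 : FM < 2 ^ p := lt_of_lt_of_le h1 (Nat.pow_le_pow_right (by norm_num) (not_lt.1 h))
  rw [Nat.testBit_lt_two_pow h2] at hp
  exact absurd hp (by simp)

namespace Model

variable {G : Type*} [Group G] {D : Set G} (m : Model G D)

include m in
/-- The elements commuting with a product of two noncommuting transpositions permute the three transpositions. -/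
theorem class_of_comm {x y k : G} (hx : x ∈ D) (hy : y ∈ D) (hxy : x * y ≠ y * x)
    (hk : k * (x * y) = x * y * k) : k * x * k⁻¹ = x ∨ k * x * k⁻¹ = x * y * x ∨ k * x * k⁻¹ = y := by
  obtain ⟨m', h0, h2⟩ := m.exists_modelN hx hy hxy
  have hD : ∀ g : G, ∀ d ∈ D, g * d * g⁻¹ ∈ D := by
    intro g d hd
    obtain ⟨p, hp, rfl⟩ := m.mem_iff.1 hd
    rw [m.conj_t g hp]
    exact m.t_mem (m.φ_lt g hp)
  have h1 : ∀ p < 3510, AD.F.testBit p = true → k * x * k⁻¹ * m'.t p = m'.t p * (k * x * k⁻¹) := by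
    intro p hp hpF
    have h3 := (m'.Fab_iff hp).1 hpF
    rw [h0, h2] at h3
    -- the conjugate of `m'.t p` by `k⁻¹`
    have h4 : x * y * (k⁻¹ * m'.t p * k) = k⁻¹ * m'.t p * k * (x * y) := by
      have h5 : k⁻¹ * (x * y) = x * y * k⁻¹ := by
        rw [inv_mul_eq_iff_eq_mul, ← mul_assoc, ← mul_assoc, mul_assoc k x y, hk]; group
      calc x * y * (k⁻¹ * m'.t p * k) = x * y * k⁻¹ * m'.t p * k := by group
        _ = k⁻¹ * (x * y) * m'.t p * k := by rw [h5]
        _ = k⁻¹ * (x * y * m'.t p) * k := by group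
        _ = k⁻¹ * (m'.t p * (x * y)) * k := by rw [h3]
        _ = k⁻¹ * m'.t p * (x * y * k) := by group
        _ = k⁻¹ * m'.t p * (k * (x * y)) := by rw [hk]
        _ = _ := by group
    have h6 : k⁻¹ * m'.t p * k ∈ D := by
      have := hD k⁻¹ _ (m'.t_mem hp)
      rwa [inv_inv] at this
    have h7 := ((m.comm_mul_iff hx hy h6 hxy).1 h4).1
    calc k * x * k⁻¹ * m'.t p = k * (x * (k⁻¹ * m'.t p * k)) * k⁻¹ := by group
      _ = k * (k⁻¹ * m'.t p * k * x) * k⁻¹ := by rw [h7]
      _ = _ := by group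
  have h8 := m'.cent_F (hD k x hx) h1
  rw [m'.t1, h0, h2] at h8
  exact h8

/-- The transpositions of the basis. -/
theorem x_eq (j : Fin 5) : m.x j = m.t (gp (bg.getD j .a)) * m.t (twp (bp.getD j ([], .a))) := by
  rw [x, xw, wd_cons, m.t_gp, m.t_tw]

theorem bp_twp (j : Fin 5) : twp (bp.getD j ([], .a)) = [248, 169, 167, 168, 166].getD j 0 := by
  have h1 : twp ([], .a) = 0 := rfl
  have h2 : (bp.map twp).getD j (twp ([], .a)) = twp (bp.getD j ([], .a)) := List.getD_map ..
  rw [← h2, chkbp, h1]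

theorem x_eq' (j : Fin 5) : m.x j = m.t ([2, 6, 16, 40, 43].getD j 0) * m.t ([248, 169, 167, 168, 166].getD j 0) := by
  rw [x_eq, bp_twp]
  congr 2
  revert j; decide

theorem p_lt (j : Fin 5) : [2, 6, 16, 40, 43].getD j 0 < 3510 := by revert j; decide
theorem r_lt (j : Fin 5) : [313, 211, 209, 210, 208].getD j 0 < 3510 := by revert j; decide
theorem q_lt (j : Fin 5) : [248, 169, 167, 168, 166].getD j 0 < 3510 := by revert j; decide

/-- the third point -/
theorem third (j : Fin 5) : m.φ (m.t ([2, 6, 16, 40, 43].getD j 0)) ([248, 169, 167, 168, 166].getD j 0) =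
    [313, 211, 209, 210, 208].getD j 0 := by
  fin_cases j
  · show m.φ (m.t 2) 248 = 313
    rw [show (2 : ℕ) = gp .b from rfl, m.t_gp, φ_wd_apply]; exact Nat.eq_of_beq_eq_true third_b
  · show m.φ (m.t 6) 169 = 211
    rw [show (6 : ℕ) = gp .c from rfl, m.t_gp, φ_wd_apply]; exact Nat.eq_of_beq_eq_true third_c
  · show m.φ (m.t 16) 167 = 209
    rw [show (16 : ℕ) = gp .d from rfl, m.t_gp, φ_wd_apply]; exact Nat.eq_of_beq_eq_true third_d
  · show m.φ (m.t 40) 168 = 210
    rw [show (40 : ℕ) = gp .e from rfl, m.t_gp, φ_wd_apply]; exact Nat.eq_of_beq_eq_true third_e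
  · show m.φ (m.t 43) 166 = 208
    rw [show (43 : ℕ) = gp .h from rfl, m.t_gp, φ_wd_apply]; exact Nat.eq_of_beq_eq_true third_h

theorem x_nc (j : Fin 5) : m.t ([2, 6, 16, 40, 43].getD j 0) * m.t ([248, 169, 167, 168, 166].getD j 0) ≠
    m.t ([248, 169, 167, 168, 166].getD j 0) * m.t ([2, 6, 16, 40, 43].getD j 0) := by
  rw [Ne, m.comm_iff _ (q_lt j), m.third j]
  revert j; decide

/-- The elements commuting with a basis element move its point inside the class. -/
theorem class_pt (j : Fin 5) {k : G} (hk : k * m.x j = m.x j * k) :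
    m.φ k ([2, 6, 16, 40, 43].getD j 0) = [2, 6, 16, 40, 43].getD j 0 ∨
    m.φ k ([2, 6, 16, 40, 43].getD j 0) = [313, 211, 209, 210, 208].getD j 0 ∨
    m.φ k ([2, 6, 16, 40, 43].getD j 0) = [248, 169, 167, 168, 166].getD j 0 := by
  rw [x_eq'] at hk
  have h := m.class_of_comm (m.t_mem (p_lt j)) (m.t_mem (q_lt j)) (m.x_nc j) hk
  rw [m.conj_t k (p_lt j)] at h
  have h3 : m.t ([2, 6, 16, 40, 43].getD j 0) * m.t ([248, 169, 167, 168, 166].getD j 0) *
      m.t ([2, 6, 16, 40, 43].getD j 0) = m.t ([313, 211, 209, 210, 208].getD j 0) := by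
    have := m.conj_t (m.t ([2, 6, 16, 40, 43].getD j 0)) (q_lt j)
    rw [m.t_inv (p_lt j), m.third j] at this
    exact this
  rw [h3] at h
  have hl := m.φ_lt k (p_lt j)
  rcases h with h | h | h
  · exact Or.inl (m.t_inj hl (p_lt j) h)
  · exact Or.inr (Or.inl (m.t_inj hl (r_lt j) h))
  · exact Or.inr (Or.inr (m.t_inj hl (q_lt j) h))

theorem M_FM {g : G} (hg : g ∈ m.M) (p : ℕ) : FM.testBit (m.φ g p) = FM.testBit p := by
  unfold M at hg
  induction hg using Subgroup.closure_induction generalizing p with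
  | mem y hy =>
    obtain ⟨w, hw, rfl⟩ := hy
    have h1 : ∀ ws : List (List Gen), stB FM ws = true → ∀ w ∈ ws, appWord (nw w) FM = FM := by
      intro ws
      induction ws with
      | nil => intro _ w hw; exact absurd hw (by simp)
      | cons v ws ih =>
        intro h w hw
        have h' : and (Nat.beq (appWord (nw v) FM) FM) (stB FM ws) = true := h
        rw [Bool.and_eq_true] at h'
        rcases List.mem_cons.1 hw with rfl | hw
        · exact Nat.eq_of_beq_eq_true h'.1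
        · exact ih h'.2 w hw
    have h2 := h1 mw stM w hw
    rw [φ_wd]
    conv_rhs => rw [← h2]
    rw [testBit_appWord (nw_ok w)]
  | one => rw [map_one]; rfl
  | mul x y hx hy ihx ihy => rw [map_mul, Equiv.Perm.mul_apply, ihx, ihy]
  | inv x hx ihx =>
    have := ihx (m.φ x⁻¹ p)
    rw [map_inv, ← Equiv.Perm.mul_apply, mul_inv_cancel, Equiv.Perm.one_apply] at this
    rw [map_inv, this]

theorem M_trans {p : ℕ} (hp : FM.testBit p = true) : ∃ g ∈ m.M, m.φ g 2 = p := by
  obtain ⟨g, hg, -, h⟩ := m.reach m.mw_mem rcM hp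
  exact ⟨g, hg, h⟩

/-- The elements normalizing `A` preserve the set `FM`. -/
theorem N_FM {n : G} (hn : n ∈ Subgroup.normalizer (m.A : Set G)) {p : ℕ} (hp : FM.testBit p = true) :
    FM.testBit (m.φ n p) = true := by
  obtain ⟨m1, hm1, rfl⟩ := m.M_trans hp
  have h1 : n * m1 * m.κ w1 * (n * m1)⁻¹ ∈ m.A := by
    have h2 := (Subgroup.mem_normalizer_iff.1 hn (m1 * m.κ w1 * m1⁻¹)).1 (m.M_norm hm1 (m.κ_mem _))
    have e : n * m1 * m.κ w1 * (n * m1)⁻¹ = n * (m1 * m.κ w1 * m1⁻¹) * n⁻¹ := by group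
    rw [e]; exact h2
  obtain ⟨v, hv⟩ := m.mem_A.1 h1
  have h3 : m.nfix (m.κ v) = 126 := by rw [← hv, nfix_conj, nfix_w1]
  have hv0 : v ≠ 0 := by
    intro h
    rw [h, κ_zero, mul_inv_eq_one, mul_eq_left, ← m.κ_zero] at hv
    have := m.κ_injective hv
    revert this; decide
  obtain ⟨r, hr, h4⟩ := m.of_nfix h3 hv0
  have h5 : r⁻¹ * (n * m1) * m.x 0 = m.x 0 * (r⁻¹ * (n * m1)) := by
    have e : m.x 0 = m.κ w1 := by rw [w1_eq, κ_e5]; rfl
    rw [e]
    rw [← hv] at h4
    calc r⁻¹ * (n * m1) * m.κ w1 = r⁻¹ * (n * m1 * m.κ w1 * (n * m1)⁻¹) * (n * m1) := by group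
      _ = r⁻¹ * (r * m.κ w1 * r⁻¹) * (n * m1) := by rw [h4]
      _ = _ := by group
  have h6 := m.class_pt 0 h5
  have h7 : m.φ n (m.φ m1 2) = m.φ r (m.φ (r⁻¹ * (n * m1)) 2) := by
    rw [← Equiv.Perm.mul_apply, ← Equiv.Perm.mul_apply, ← map_mul, ← map_mul, mul_inv_cancel_left]
  rw [h7, m.M_FM (m.W_le_M hr)]
  have b1 : Nat.testBit FM 2 = true := by decide +kernel
  have b2 : Nat.testBit FM 313 = true := by decide +kernel
  have b3 : Nat.testBit FM 248 = true := by decide +kernel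
  have h8 : m.φ (r⁻¹ * (n * m1)) 2 = 2 ∨ m.φ (r⁻¹ * (n * m1)) 2 = 313 ∨ m.φ (r⁻¹ * (n * m1)) 2 = 248 := h6
  rcases h8 with h | h | h <;> rw [h] <;> assumption

theorem cand {n : G} (hF : ∀ p, FM.testBit p = true → FM.testBit (m.φ n p) = true)
    {l : List ((List Gen × Gen) × Bool)} (hfix : ∀ c ∈ l, m.φ n (twp c.1) = twp c.1) {p : ℕ}
    (hp : (pat l FM).testBit p = true) : (pat l FM).testBit (m.φ n p) = true := by
  rw [testBit_pat] at hp ⊢
  refine ⟨hF p hp.1, ?_⟩
  intro c hc
  have hpl := FM_lt hp.1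
  rw [← hp.2 c hc]
  rw [Bool.eq_iff_iff, m.testBit_cmk hpl, m.testBit_cmk (m.φ_lt n hpl), m.fix_iff hpl, m.fix_iff (m.φ_lt n hpl)]
  have h1 := m.comm_map n (m.twp_lt c.1) hpl
  rw [hfix c hc] at h1
  exact h1

theorem mtw_mem {l : List (List Gen × Gen)} (h : inB FM l = true) : ∀ w ∈ l.map tw, m.wd w ∈ m.M := by
  intro w hw
  obtain ⟨c, hc, rfl⟩ := List.mem_map.1 hw
  rw [← m.t_tw]
  obtain ⟨g, hg, h1⟩ := m.M_trans (inB_spec h c hc)
  rw [← h1, ← m.conj_t g (by norm_num)]
  have h2 : m.t 2 = m.wd [.b] := m.t_gp .b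
  rw [h2]
  exact mul_mem (mul_mem hg (m.mw_mem [.b] (by decide))) (inv_mem hg)

theorem swp_mem : m.wd swp ∈ m.M := by
  have key : ∀ w : List Gen, (∀ g ∈ w, [g] ∈ mw) → m.wd w ∈ m.M := by
    intro w
    induction w with
    | nil => intro _; rw [wd_nil]; exact one_mem _
    | cons g w ih =>
      intro h
      rw [wd_cons]
      exact mul_mem (m.mw_mem _ (h g (by simp))) (ih fun x hx => h x (by simp [hx]))
  apply key
  decide

/-- **The normalizer of `A` is `M`.** -/
theorem N_le_M {n : G} (hn : n ∈ Subgroup.normalizer (m.A : Set G)) : n ∈ m.M := by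
  have hfin := m.finite
  -- one step
  have step : ∀ (qs : List ℕ) (ws : List (List Gen)) (p r C : ℕ), (∀ w ∈ ws, m.wd w ∈ m.M) →
      rcB qs ws p r C = true → ∀ n ∈ Subgroup.normalizer (m.A : Set G), (∀ q ∈ qs, m.φ n q = q) →
      C.testBit (m.φ n p) = true →
      (∀ k ∈ Subgroup.normalizer (m.A : Set G), (∀ q ∈ p :: qs, m.φ k q = q) → k ∈ m.M) → n ∈ m.M := by
    intro qs ws p r C hws hrc n hn hq hC hnext
    obtain ⟨g, hg, hgq, hgp⟩ := m.reach hws hrc hC
    have h1 : g⁻¹ * n ∈ m.M := by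
      apply hnext
      · exact mul_mem (inv_mem (m.M_le_N hg)) hn
      · intro q hq'
        rw [map_mul, Equiv.Perm.mul_apply, map_inv, Equiv.Perm.inv_eq_iff_eq]
        rcases List.mem_cons.1 hq' with rfl | hq'
        · exact hgp.symm
        · rw [hq q hq', hgq q hq']
    have h2 := mul_mem hg h1
    rwa [mul_inv_cancel_left] at h2
  have hb := b7p
  simp only [b7, List.map_cons, List.map_nil, List.cons.injEq, and_true] at hb
  obtain ⟨e2, e16, e6, e88, e92, e165, e170⟩ := hb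
  have lor_cases : ∀ (a q p : ℕ), (Nat.lor a (Nat.pow 2 q)).testBit p = true → p ≠ q → a.testBit p = true := by
    intro a q p h hne
    have h' : (a ||| 2 ^ q).testBit p = true := h
    rw [Nat.testBit_or, Nat.testBit_two_pow, Bool.or_eq_true] at h'
    rcases h' with h' | h'
    · exact h'
    · exact absurd (of_decide_eq_true h').symm hne
  have ne_of_fix : ∀ (n : G) (p q : ℕ), m.φ n q = q → p ≠ q → m.φ n p ≠ q := by
    intro n p q h hne h2
    exact hne ((m.φ n).injective (h2.trans h.symm))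
  refine step [] _ 2 _ _ (m.mtw_mem inm2) rcm2 n hn (by simp) ?_ ?_
  · exact m.N_FM hn (by decide +kernel)
  intro n hn hfix
  have f2 : m.φ n 2 = 2 := hfix 2 (by simp)
  refine step [2] _ 16 _ _ (m.mtw_mem inm16) rcm16 n hn hfix ?_ ?_
  · have h1 : (pat pt16 FM).testBit (m.φ n 16) = true := by
      apply m.cand (fun p hp => m.N_FM hn hp)
      · intro c hc
        simp only [pt16, List.mem_cons, List.not_mem_nil, or_false] at hc
        subst hc
        rw [e2]; exact f2
      · rw [Nat.eq_of_beq_eq_true chkD16]; decide +kernel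
    rw [Nat.eq_of_beq_eq_true chkD16] at h1
    exact lor_cases _ _ _ h1 (ne_of_fix n 16 2 f2 (by norm_num))
  intro n hn hfix
  have f2 : m.φ n 2 = 2 := hfix 2 (by simp)
  have f16 : m.φ n 16 = 16 := hfix 16 (by simp)
  refine step [16, 2] _ 6 _ _ (m.mtw_mem inm6) rcm6 n hn hfix ?_ ?_
  · have h1 : (pat pt6 FM).testBit (m.φ n 6) = true := by
      apply m.cand (fun p hp => m.N_FM hn hp)
      · intro c hc
        simp only [pt6, List.mem_cons, List.not_mem_nil, or_false] at hc
        rcases hc with rfl | rfl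
        · rw [e2]; exact f2
        · rw [e16]; exact f16
      · rw [Nat.eq_of_beq_eq_true chkD6]; decide +kernel
    rw [Nat.eq_of_beq_eq_true chkD6] at h1
    exact h1
  intro n hn hfix
  have f2 : m.φ n 2 = 2 := hfix 2 (by simp)
  have f16 : m.φ n 16 = 16 := hfix 16 (by simp)
  have f6 : m.φ n 6 = 6 := hfix 6 (by simp)
  refine step [6, 16, 2] _ 88 _ _ (?_ : ∀ w ∈ m88.map tw ++ [swp], m.wd w ∈ m.M) rcm88 n hn hfix ?_ ?_
  · intro w hw
    rcases List.mem_append.1 hw with hw | hw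
    · exact m.mtw_mem inm88 w hw
    · rw [List.mem_singleton.1 hw]; exact m.swp_mem
  · have h1 : (pat pt88 FM).testBit (m.φ n 88) = true := by
      apply m.cand (fun p hp => m.N_FM hn hp)
      · intro c hc
        simp only [pt88, List.mem_cons, List.not_mem_nil, or_false] at hc
        rcases hc with rfl | rfl | rfl
        · rw [e2]; exact f2
        · rw [e16]; exact f16
        · rw [e6]; exact f6
      · rw [Nat.eq_of_beq_eq_true chkD88]; decide +kernel
    rw [Nat.eq_of_beq_eq_true chkD88] at h1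
    exact h1
  intro n hn hfix
  have f2 : m.φ n 2 = 2 := hfix 2 (by simp)
  have f16 : m.φ n 16 = 16 := hfix 16 (by simp)
  have f6 : m.φ n 6 = 6 := hfix 6 (by simp)
  have f88 : m.φ n 88 = 88 := hfix 88 (by simp)
  refine step [88, 6, 16, 2] _ 92 _ _ (m.mtw_mem inm92) rcm92 n hn hfix ?_ ?_
  · have h1 : (pat pt92 FM).testBit (m.φ n 92) = true := by
      apply m.cand (fun p hp => m.N_FM hn hp)
      · intro c hc
        simp only [pt92, List.mem_cons, List.not_mem_nil, or_false] at hc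
        rcases hc with rfl | rfl | rfl | rfl
        · rw [e2]; exact f2
        · rw [e16]; exact f16
        · rw [e6]; exact f6
        · rw [e88]; exact f88
      · rw [Nat.eq_of_beq_eq_true chkD92]; decide +kernel
    rw [Nat.eq_of_beq_eq_true chkD92] at h1
    exact lor_cases _ _ _ h1 (ne_of_fix n 92 88 f88 (by norm_num))
  intro n hn hfix
  have f2 : m.φ n 2 = 2 := hfix 2 (by simp)
  have f16 : m.φ n 16 = 16 := hfix 16 (by simp)
  have f6 : m.φ n 6 = 6 := hfix 6 (by simp)
  have f88 : m.φ n 88 = 88 := hfix 88 (by simp)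
  have f92 : m.φ n 92 = 92 := hfix 92 (by simp)
  refine step [92, 88, 6, 16, 2] _ 165 _ _ (m.mtw_mem inm165) rcm165 n hn hfix ?_ ?_
  · have h1 : (pat pt165 FM).testBit (m.φ n 165) = true := by
      apply m.cand (fun p hp => m.N_FM hn hp)
      · intro c hc
        simp only [pt165, List.mem_cons, List.not_mem_nil, or_false] at hc
        rcases hc with rfl | rfl | rfl | rfl | rfl
        · rw [e2]; exact f2
        · rw [e16]; exact f16
        · rw [e6]; exact f6
        · rw [e88]; exact f88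
        · rw [e92]; exact f92
      · rw [Nat.eq_of_beq_eq_true chkD165]; decide +kernel
    rw [Nat.eq_of_beq_eq_true chkD165] at h1
    exact h1
  intro n hn hfix
  have f2 : m.φ n 2 = 2 := hfix 2 (by simp)
  have f16 : m.φ n 16 = 16 := hfix 16 (by simp)
  have f6 : m.φ n 6 = 6 := hfix 6 (by simp)
  have f88 : m.φ n 88 = 88 := hfix 88 (by simp)
  have f92 : m.φ n 92 = 92 := hfix 92 (by simp)
  have f165 : m.φ n 165 = 165 := hfix 165 (by simp)
  refine step [165, 92, 88, 6, 16, 2] _ 170 _ _ (m.mtw_mem inm170) rcm170 n hn hfix ?_ ?_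
  · have h1 : (pat pt170 FM).testBit (m.φ n 170) = true := by
      apply m.cand (fun p hp => m.N_FM hn hp)
      · intro c hc
        simp only [pt170, List.mem_cons, List.not_mem_nil, or_false] at hc
        rcases hc with rfl | rfl | rfl | rfl | rfl | rfl
        · rw [e2]; exact f2
        · rw [e16]; exact f16
        · rw [e6]; exact f6
        · rw [e88]; exact f88
        · rw [e92]; exact f92
        · rw [e165]; exact f165
      · rw [Nat.eq_of_beq_eq_true chkD170]; decide +kernel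
    rw [Nat.eq_of_beq_eq_true chkD170] at h1
    exact h1
  intro n hn hfix
  have h1 : Nat.card (stabL m.φ [170, 165, 92, 88, 6, 16, 2]) ≤ 1 := by
    have s1 := m.lv_le_top lvm2
    have s2 := m.lv_le_top lvm16
    have s3 := m.lv_le_top lvm6
    have s4 := m.lv_le_top lvm88
    have s5 := m.lv_le_top lvm92
    have s6 := m.lv_le_top lvm165
    have s7 := m.lv_le_top lvm170
    have s0 := m.card_stabL_nil
    omega
  have h2 : n ∈ stabL m.φ [170, 165, 92, 88, 6, 16, 2] := hfix
  rw [m.eq_one_of_card_le h1 h2]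
  exact one_mem _

theorem N_eq : Subgroup.normalizer (m.A : Set G) = m.M := le_antisymm (fun _ h => m.N_le_M h) m.M_le_N

/-- **The centralizer of `A` is `A`.** -/
theorem cent_A {g : G} (hg : ∀ a ∈ m.A, g * a = a * g) : g ∈ m.A := by
  have step : ∀ (qs : List ℕ) (l : List ℕ) (j : Fin 5) (r : ℕ),
      rcB qs [kwl l] ([2, 6, 16, 40, 43].getD j 0) r (Nat.lor (Nat.pow 2 ([2, 6, 16, 40, 43].getD j 0))
        (Nat.lor (Nat.pow 2 ([248, 169, 167, 168, 166].getD j 0)) (Nat.pow 2 ([313, 211, 209, 210, 208].getD j 0)))) = true →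
      ∀ g, (∀ a ∈ m.A, g * a = a * g) → (∀ q ∈ qs, m.φ g q = q) →
      (∀ k, (∀ a ∈ m.A, k * a = a * k) → (∀ q ∈ ([2, 6, 16, 40, 43].getD j 0) :: qs, m.φ k q = q) → k ∈ m.A) → g ∈ m.A := by
    intro qs l j r hrc g hg hq hnext
    have h1 := m.class_pt j (hg _ (m.x_mem j))
    have h2 : (Nat.lor (Nat.pow 2 ([2, 6, 16, 40, 43].getD j 0)) (Nat.lor (Nat.pow 2 ([248, 169, 167, 168, 166].getD j 0))
        (Nat.pow 2 ([313, 211, 209, 210, 208].getD j 0)))).testBit (m.φ g ([2, 6, 16, 40, 43].getD j 0)) = true := by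
      show (2 ^ ([2, 6, 16, 40, 43].getD j 0) ||| (2 ^ ([248, 169, 167, 168, 166].getD j 0) |||
        2 ^ ([313, 211, 209, 210, 208].getD j 0))).testBit _ = true
      rw [Nat.testBit_or, Nat.testBit_or, Nat.testBit_two_pow, Nat.testBit_two_pow, Nat.testBit_two_pow,
        Bool.or_eq_true, Bool.or_eq_true, decide_eq_true_eq, decide_eq_true_eq, decide_eq_true_eq]
      rcases h1 with h | h | h
      · exact Or.inl h.symm
      · exact Or.inr (Or.inr h.symm)
      · exact Or.inr (Or.inl h.symm)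
    obtain ⟨a, ha, haq, hap⟩ := m.reach (H := m.A) (ws := [kwl l]) (by
      intro w hw
      rw [List.mem_singleton.1 hw, κ_word]
      exact m.κ_mem _) hrc h2
    have h3 : a⁻¹ * g ∈ m.A := by
      apply hnext
      · intro b hb
        obtain ⟨u, rfl⟩ := m.mem_A.1 ha
        obtain ⟨v, rfl⟩ := m.mem_A.1 hb
        have h4 := hg _ hb
        calc (m.κ u)⁻¹ * g * m.κ v = (m.κ u)⁻¹ * (g * m.κ v) := by group
          _ = (m.κ u)⁻¹ * (m.κ v * g) := by rw [h4]
          _ = (m.κ u)⁻¹ * m.κ v * g := by group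
          _ = m.κ v * (m.κ u)⁻¹ * g := by rw [← κ_neg, m.κ_comm]
          _ = m.κ v * ((m.κ u)⁻¹ * g) := by group
      · intro q hq'
        rw [map_mul, Equiv.Perm.mul_apply, map_inv, Equiv.Perm.inv_eq_iff_eq]
        rcases List.mem_cons.1 hq' with rfl | hq'
        · exact hap.symm
        · rw [hq q hq', haq q hq']
    have h5 := mul_mem ha h3
    rwa [mul_inv_cancel_left] at h5
  refine step [] [1, 0, 0, 0, 0] 0 _ rcT2 g hg (by simp) ?_
  intro g hg hfix
  refine step _ [0, 0, 1, 0, 0] 1 _ rcT6 g hg hfix ?_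
  intro g hg hfix
  refine step _ [0, 0, 0, 1, 0] 2 _ rcT16 g hg hfix ?_
  intro g hg hfix
  refine step _ [0, 0, 0, 1, 2] 3 _ rcT40 g hg hfix ?_
  intro g hg hfix
  refine step _ [1, 2, 0, 0, 1] 4 _ rcT43 g hg hfix ?_
  intro g hg hfix
  have f43 : m.φ g 43 = 43 := hfix 43 (by simp)
  have h1 : m.φ g 166 = 166 := by
    have h2 := hg _ (m.x_mem 4)
    rw [x_eq'] at h2
    have h3 : g * m.t 43 = m.t 43 * g := (m.comm_iff g (by norm_num)).2 f43
    rw [← m.comm_iff g (by norm_num)]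
    have h4 : g * (m.t 43 * m.t 166) = m.t 43 * m.t 166 * g := h2
    have h5 : m.t 43 * (g * m.t 166) = m.t 43 * (m.t 166 * g) := by
      rw [← mul_assoc, ← h3, mul_assoc, h4, mul_assoc]
    exact mul_left_cancel h5
  have h208 : m.φ g 208 = 208 := by
    have h2 : m.φ (m.t 43) 166 = 208 := m.third 4
    have h3 : g * m.t 43 = m.t 43 * g := (m.comm_iff g (by norm_num)).2 f43
    rw [← h2, ← Equiv.Perm.mul_apply, ← map_mul, h3, map_mul, Equiv.Perm.mul_apply, h1]
  have h6 : Nat.card (stabL m.φ [208, 43, 40, 16, 6, 2]) ≤ 1 := by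
    have s1 := m.lv_le_top lvt2
    have s2 := m.lv_le_top lvt6
    have s3 := m.lv_le_top lvt16
    have s4 := m.lv_le_top lvt40
    have s5 := m.lv_le_top lvt43
    have s6 := m.lv_le_top lvt208
    have s0 := m.card_stabL_nil
    omega
  have h7 : g ∈ stabL m.φ [208, 43, 40, 16, 6, 2] := by
    intro q hq
    rcases List.mem_cons.1 hq with rfl | hq
    · exact h208
    · exact hfix q hq
  rw [m.eq_one_of_card_le h6 h7]
  exact one_mem _

/-- Every reflection of norm one comes from `M`. -/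
theorem refl_surj (u : Cfsg.reflectionSubgroup (⇑Qd) 1) : ∃ g ∈ m.M, m.Act g (mt u) := by
  obtain ⟨u, hu⟩ := u
  unfold Cfsg.reflectionSubgroup at hu
  induction hu using Subgroup.closure_induction with
  | mem u hu' =>
    obtain ⟨v, hv, huv⟩ := hu'
    have hv1 : qf v = 1 := hv
    have hv0 : v ≠ 0 := by
      rintro rfl
      revert hv1; decide
    obtain ⟨r, hr, h⟩ := m.trich hv0
    obtain ⟨s, hs⟩ := m.M_act (m.W_le_M hr)
    have key : ∀ w : V5, r * m.κ w * r⁻¹ = m.κ v → v = mt s *ᵥ w := by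
      intro w hw
      rw [hs] at hw
      exact (m.κ_injective hw).symm
    have h1 : v = mt s *ᵥ w1 := by
      rcases h with h | h | h
      · exact key _ h
      · exfalso
        have h2 := key _ h
        rw [h2, mt_isometry, qf_w2] at hv1
        revert hv1; decide
      · exfalso
        have h2 := key _ h
        rw [h2, mt_isometry, qf_w0] at hv1
        revert hv1; decide
    refine ⟨r * m.wd [.b] * r⁻¹, mul_mem (mul_mem (m.W_le_M hr) (m.mw_mem [.b] (by decide))) (inv_mem (m.W_le_M hr)), ?_⟩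
    have hw1 : Qd w1 ≠ 0 := by rw [Qd_apply, qf_w1]; decide
    have hsw1 : Qd (((((s : Cfsg.isometryGroup (ZMod 3) (⇑Qd)) : Matrix.GeneralLinearGroup (Fin 5) (ZMod 3)) :
        Matrix (Fin 5) (Fin 5) (ZMod 3))) *ᵥ w1) ≠ 0 := by
      have : qf (mt s *ᵥ w1) ≠ 0 := by rw [mt_isometry, qf_w1]; decide
      exact this
    have h2 := Cfsg.Agent.ClassicalGeometry.Reflection.conj_reflIso Qd w1 hw1 (s : Cfsg.isometryGroup (ZMod 3) (⇑Qd)) hsw1
    have h3 : mt s * Cfsg.reflectionMatrix (⇑Qd) w1 * mt s⁻¹ = Cfsg.reflectionMatrix (⇑Qd) v := by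
      rw [h1]
      exact congrArg (fun z : Cfsg.isometryGroup (ZMod 3) (⇑Qd) =>
        ((z : Matrix.GeneralLinearGroup (Fin 5) (ZMod 3)) : Matrix (Fin 5) (Fin 5) (ZMod 3))) h2
    have h4 : mt ⟨u, Subgroup.subset_closure ⟨v, hv, huv⟩⟩ = Cfsg.reflectionMatrix (⇑Qd) v := huv
    rw [h4, ← h3]
    have h5 : m.Act r⁻¹ (mt s⁻¹) := by
      intro x
      have h6 := hs (mt s⁻¹ *ᵥ x)
      have h7 : mt s * mt s⁻¹ = 1 := by rw [← mt_mul, mul_inv_cancel, mt_one]
      rw [Matrix.mulVec_mulVec, h7, Matrix.one_mulVec] at h6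
      rw [← h6]; group
    exact m.act_mul (m.act_mul hs (m.act_gen (by decide))) h5
  | one => exact ⟨1, one_mem _, m.act_one⟩
  | mul x y hx hy ihx ihy =>
    obtain ⟨g, hg, h⟩ := ihx
    obtain ⟨k, hk, h'⟩ := ihy
    exact ⟨g * k, mul_mem hg hk, m.act_mul h h'⟩
  | inv x hx ihx =>
    obtain ⟨g, hg, h⟩ := ihx
    refine ⟨g⁻¹, inv_mem hg, ?_⟩
    intro v
    have h1 := h (mt (⟨x, hx⟩⁻¹) *ᵥ v)
    have h2 : mt ⟨x, hx⟩ * mt (⟨x, hx⟩⁻¹) = 1 := by rw [← mt_mul, mul_inv_cancel, mt_one]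
    rw [Matrix.mulVec_mulVec, h2, Matrix.one_mulVec] at h1
    show g⁻¹ * m.κ v * g⁻¹⁻¹ = m.κ (mt (⟨x, hx⟩⁻¹) *ᵥ v)
    rw [← h1]
    group

theorem act_unique {g : G} {U V : Matrix (Fin 5) (Fin 5) (ZMod 3)} (h : m.Act g U) (h' : m.Act g V) : U = V := by
  apply Matrix.mulVec_injective
  funext v
  apply m.κ_injective
  rw [← h, ← h']

end Model

end Cfsg.Agent.H834
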