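import Cfsg.Agent.H834.XNorm
import Cfsg.Agent.S0287

/-!
# The normalizer of a subgroup of order `3` of class `3B` of `Fi22` (helper834)
-/

set_option autoImplicit false
set_option maxRecDepth 100000
set_option exponentiation.threshold 5000
set_option linter.constructorNameAsVariable false

namespace Cfsg.Agent.H834

open Cfsg.Spor Cfsg.Spor.Fi22 Cfsg.Agent.Lib.PermNet Cfsg.Agent.Lib.PermNetOrbit Cfsg.Agent.Lib.PermNetFix
open Cfsg.Agent.Fischer Cfsg.Agent.Fischer.Fi22PtsRep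
open Cfsg.Agent.Fischer.Fi22Order (nws nws_ok)
open AC XC Matrix

/-- An isomorphism from a functional relation and an order. -/
theorem iso_of_rel_card {N R : Type*} [Group N] [Group R] [Finite N] [Finite R] (A : Subgroup N) [A.Normal]
    (r : N → R → Prop)
    (ht : ∀ n, ∃ u, r n u) (hu : ∀ n u v, r n u → r n v → u = v)
    (hm : ∀ n k u v, r n u → r k v → r (n * k) (u * v)) (hs : Nat.card A * Nat.card R ≤ Nat.card N)
    (hk : ∀ n, r n 1 ↔ n ∈ A) :
    Nonempty (N ⧸ A ≃* R) := by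
  choose f hf using ht
  let F : N →* R := MonoidHom.mk' f fun a b => hu _ _ _ (hf (a * b)) (hm _ _ _ _ (hf a) (hf b))
  have hker : A = F.ker := by
    ext n
    rw [MonoidHom.mem_ker, ← hk]
    constructor
    · intro h; exact hu _ _ _ (hf n) h
    · intro h
      have : f n = 1 := h
      rw [← this]; exact hf n
  have hF : Function.Surjective F := by
    rw [← MonoidHom.range_eq_top]
    apply Subgroup.eq_top_of_le_card
    have h1 : Nat.card F.ker * Nat.card F.range = Nat.card N := by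
      rw [← Nat.card_congr (QuotientGroup.quotientKerEquivRange F).toEquiv, mul_comm]
      exact (Subgroup.card_eq_card_quotient_mul_card_subgroup _).symm
    rw [← hker] at h1
    rw [← h1] at hs
    exact Nat.le_of_mul_le_mul_left hs Nat.card_pos
  exact ⟨(QuotientGroup.quotientMulEquivOfEq hker).trans (QuotientGroup.quotientKerEquivOfSurjective F hF)⟩

/-- The vectors of dimension four. -/
abbrev V4 := Fin 2 ⊕ Fin 2 → ZMod 3

/-- the embedding of the hyperbolic space -/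
def Bm : Matrix (Fin 5) (Fin 2 ⊕ Fin 2) (ZMod 3) := Matrix.of fun i j =>
  Sum.elim (fun k : Fin 2 => (![![0, 1, 0, 2, 1], ![0, 1, 2, 0, 0]] : Fin 2 → Fin 5 → ZMod 3) k i)
    (fun k : Fin 2 => (![![2, 0, 0, 1, 1], ![2, 1, 0, 0, 0]] : Fin 2 → Fin 5 → ZMod 3) k i) j

/-- the projection onto the hyperbolic space -/
def Cm : Matrix (Fin 2 ⊕ Fin 2) (Fin 5) (ZMod 3) := Matrix.of fun j i =>
  Sum.elim (fun k : Fin 2 => (![![1, 1, 1, 2, 2], ![0, 0, 2, 0, 0]] : Fin 2 → Fin 5 → ZMod 3) k i)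
    (fun k : Fin 2 => (![![2, 2, 2, 1, 2], ![2, 0, 0, 1, 1]] : Fin 2 → Fin 5 → ZMod 3) k i) j

theorem CB : Cm * Bm = 1 := by decide

theorem mulVec_Bm (z : V4) : Bm *ᵥ z = ![2 * z (.inr 0) + 2 * z (.inr 1), z (.inl 0) + z (.inl 1) + z (.inr 1),
    2 * z (.inl 1), 2 * z (.inl 0) + z (.inr 0), z (.inl 0) + z (.inr 0)] := by
  funext i
  simp only [Matrix.mulVec, dotProduct, Fintype.sum_sum_type, Fin.sum_univ_two]
  fin_cases i <;> simp [Bm, Matrix.of_apply]

theorem mulVec_Cm (v : V5) : Cm *ᵥ v = Sum.elim ![v 0 + v 1 + v 2 + 2 * v 3 + 2 * v 4, 2 * v 2]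
    ![2 * v 0 + 2 * v 1 + 2 * v 2 + v 3 + 2 * v 4, 2 * v 0 + v 3 + v 4] := by
  funext i
  simp only [Matrix.mulVec, dotProduct, Fin.sum_univ_five]
  rcases i with i | i <;> fin_cases i <;> simp [Cm, Matrix.of_apply]

theorem BC_aux : ∀ a b c d e : ZMod 3, 2 * a + 2 * b + (2 * c + 2 * d) = 0 →
    a = 2 * (2 * a + 2 * b + 2 * c + d + 2 * e) + 2 * (2 * a + d + e) ∧
    b = (a + b + c + 2 * d + 2 * e) + (2 * c) + (2 * a + d + e) ∧
    c = 2 * (2 * c) ∧
    d = 2 * (a + b + c + 2 * d + 2 * e) + (2 * a + 2 * b + 2 * c + d + 2 * e) ∧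
    e = (a + b + c + 2 * d + 2 * e) + (2 * a + 2 * b + 2 * c + d + 2 * e) := by decide

theorem bf_w2 (v : V5) : bf v w2 = 2 * v 0 + 2 * v 1 + (2 * v 2 + 2 * v 3) := by
  simp [bf, w2]
  ring

theorem BC {v : V5} (hv : bf v w2 = 0) : Bm *ᵥ (Cm *ᵥ v) = v := by
  rw [bf_w2] at hv
  obtain ⟨h0, h1, h2, h3, h4⟩ := BC_aux _ _ _ _ (v 4) hv
  rw [mulVec_Bm, mulVec_Cm]
  funext i
  fin_cases i
  · exact h0.symm
  · exact h1.symm
  · exact h2.symm
  · exact h3.symm
  · exact h4.symm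

theorem bfB_aux : ∀ a b c d : ZMod 3, 2 * (2 * c + 2 * d) + 2 * (a + b + d) + (2 * (2 * b) + 2 * (2 * a + c)) = 0 := by
  decide

theorem bf_Bm (z : V4) : bf (Bm *ᵥ z) w2 = 0 := by
  rw [bf_w2, mulVec_Bm]
  exact bfB_aux _ _ _ _

theorem qf_vec (a b c d e : ZMod 3) : qf ![a, b, c, d, e] = a * a + 2 * (a * b) + b * b + 2 * (b * c) + c * c +
    2 * (c * d) + 2 * (c * e) + d * d + e * e := rfl

theorem qfB_aux : ∀ a b c d : ZMod 3, (2 * c + 2 * d) * (2 * c + 2 * d) + 2 * ((2 * c + 2 * d) * (a + b + d)) +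
    (a + b + d) * (a + b + d) + 2 * ((a + b + d) * (2 * b)) + (2 * b) * (2 * b) +
    2 * ((2 * b) * (2 * a + c)) + 2 * ((2 * b) * (a + c)) + (2 * a + c) * (2 * a + c) + (a + c) * (a + c) =
    a * c + b * d := by decide

theorem qf_Bm (z : V4) : qf (Bm *ᵥ z) = Cfsg.quadFormPlus 2 (ZMod 3) z := by
  rw [mulVec_Bm, qf_vec, qfB_aux]
  unfold Cfsg.quadFormPlus
  rw [Fin.sum_univ_two]

/-- The matrices preserving the orthogonal complement of `w2`. -/
theorem mt_pm (s : Cfsg.reflectionSubgroup (⇑Qd) 1) (h : mt s *ᵥ w2 = w2 ∨ mt s *ᵥ w2 = -w2) (z : V4) :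
    Bm *ᵥ (Cm *ᵥ (mt s *ᵥ (Bm *ᵥ z))) = mt s *ᵥ (Bm *ᵥ z) := by
  apply BC
  have h1 : bf (mt s *ᵥ (Bm *ᵥ z)) (mt s *ᵥ w2) = 0 := by
    have h2 := Cfsg.Agent.ClassicalGeometry.Reflection.polar_mulVec_of_isometry Qd (mt s) (mt_isometry s) (Bm *ᵥ z) w2
    rw [polar_Qd, polar_Qd] at h2
    rw [h2, bf_Bm]
  rcases h with h | h
  · rwa [h] at h1
  · rw [h, bf_symm] at h1
    have h2 : bf (-w2) (mt s *ᵥ (Bm *ᵥ z)) = - bf w2 (mt s *ᵥ (Bm *ᵥ z)) := by
      simp only [bf, Pi.neg_apply]; ring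
    rw [h2, neg_eq_zero] at h1
    rw [bf_symm]; exact h1

theorem mt_inv_pm (s : Cfsg.reflectionSubgroup (⇑Qd) 1) (h : mt s *ᵥ w2 = w2 ∨ mt s *ᵥ w2 = -w2) :
    mt s⁻¹ *ᵥ w2 = w2 ∨ mt s⁻¹ *ᵥ w2 = -w2 := by
  have h1 : mt s⁻¹ * mt s = 1 := by rw [← mt_mul, inv_mul_cancel, mt_one]
  rcases h with h | h
  · left
    conv_lhs => rw [← h]
    rw [Matrix.mulVec_mulVec, h1, Matrix.one_mulVec]
  · right
    have h2 : w2 = mt s *ᵥ (-w2) := by rw [Matrix.mulVec_neg, h, neg_neg]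
    conv_lhs => rw [h2]
    rw [Matrix.mulVec_mulVec, h1, Matrix.one_mulVec]

/-- The isometry of the hyperbolic space. -/
theorem exists_iso (s : Cfsg.reflectionSubgroup (⇑Qd) 1) (h : mt s *ᵥ w2 = w2 ∨ mt s *ᵥ w2 = -w2) :
    ∃ u : Cfsg.isometryGroup (ZMod 3) (Cfsg.quadFormPlus 2 (ZMod 3)), ∀ z : V4,
      mt s *ᵥ (Bm *ᵥ z) = Bm *ᵥ (((u : Matrix.GeneralLinearGroup (Fin 2 ⊕ Fin 2) (ZMod 3)) :
        Matrix (Fin 2 ⊕ Fin 2) (Fin 2 ⊕ Fin 2) (ZMod 3)) *ᵥ z) := by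
  have h' := mt_inv_pm s h
  have h1 : mt s⁻¹ * mt s = 1 := by rw [← mt_mul, inv_mul_cancel, mt_one]
  have h2 : mt s * mt s⁻¹ = 1 := by rw [← mt_mul, mul_inv_cancel, mt_one]
  have e1 : (Cm * (mt s * Bm)) * (Cm * (mt s⁻¹ * Bm)) = 1 := by
    apply Matrix.mulVec_injective
    funext z
    simp only [← Matrix.mulVec_mulVec]
    rw [mt_pm s⁻¹ h', Matrix.mulVec_mulVec (Bm *ᵥ z) (mt s), h2, Matrix.one_mulVec, Matrix.mulVec_mulVec, CB]
  have e2 : (Cm * (mt s⁻¹ * Bm)) * (Cm * (mt s * Bm)) = 1 := by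
    apply Matrix.mulVec_injective
    funext z
    simp only [← Matrix.mulVec_mulVec]
    rw [mt_pm s h, Matrix.mulVec_mulVec (Bm *ᵥ z) (mt s⁻¹), h1, Matrix.one_mulVec, Matrix.mulVec_mulVec, CB]
  refine ⟨⟨⟨Cm * (mt s * Bm), Cm * (mt s⁻¹ * Bm), e1, e2⟩, ?_⟩, ?_⟩
  · rw [Cfsg.Agent.ClassicalGeometry.Reflection.mem_isometryGroup_iff]
    intro z
    show Cfsg.quadFormPlus 2 (ZMod 3) ((Cm * (mt s * Bm)) *ᵥ z) = _
    rw [← qf_Bm, ← qf_Bm, ← Matrix.mulVec_mulVec, ← Matrix.mulVec_mulVec, mt_pm s h, mt_isometry]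
  · intro z
    show _ = Bm *ᵥ ((Cm * (mt s * Bm)) *ᵥ z)
    rw [← Matrix.mulVec_mulVec, ← Matrix.mulVec_mulVec, mt_pm s h]

theorem card_GO : Nat.card (Cfsg.isometryGroup (ZMod 3) (Cfsg.quadFormPlus 2 (ZMod 3))) = 1152 := by
  rw [Cfsg.Agent.S0287.result (F := ZMod 3) (q := 3) (by simp [ZMod.card]) 2 (by norm_num)]
  norm_num

namespace Model

variable {G : Type*} [Group G] {D : Set G} (m : Model G D)

/-- The order of `M` is at least `3^5 · |W(E6)|`. -/
theorem card_M_ge : 12597120 ≤ Nat.card m.M := by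
  have hfin := m.finite
  have s1 := m.lv_le m.M (m.mtw_mem inm2) lvM2
  have s2 := m.lv_le m.M (m.mtw_mem inm16) lvM16
  have s3 := m.lv_le m.M (m.mtw_mem inm6) lvM6
  have hm88 : ∀ w ∈ m88.map tw ++ [swp], m.wd w ∈ m.M := by
    intro w hw
    rcases List.mem_append.1 hw with hw | hw
    · exact m.mtw_mem inm88 w hw
    · rw [List.mem_singleton.1 hw]; exact m.swp_mem
  have s4 := m.lv_le m.M hm88 lvM88
  have s5 := m.lv_le m.M (m.mtw_mem inm92) lvM92
  have s6 := m.lv_le m.M (m.mtw_mem inm165) lvM165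
  have s7 := m.lv_le m.M (m.mtw_mem inm170) lvM170
  have s0 := m.card_stabL_nil_sub m.M
  have s8 : 0 < Nat.card (stabL (m.φ.comp m.M.subtype) [170, 165, 92, 88, 6, 16, 2]) := Nat.card_pos
  omega

/-- The conjugates of `κ w2` under `M`. -/
theorem conj_w2 {g : G} (hg : g ∈ m.M) : C2.testBit (m.φ (g * m.κ w2 * g⁻¹) 0) = true := by
  obtain ⟨v, hv⟩ := m.mem_A.1 (m.M_norm hg (m.κ_mem w2))
  have hn : m.nfix (m.κ v) = 36 := by rw [← hv, nfix_conj, nfix_w2]
  rw [hv]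
  show C2.testBit (m.pv v) = true
  have h1 := m.pv_mem v
  have h2 : (1 ||| (C1 ||| (C2 ||| C0))) = O1 := Nat.eq_of_beq_eq_true chkO1
  rw [← h2, Nat.testBit_or, Nat.testBit_or, Nat.testBit_or, Bool.or_eq_true, Bool.or_eq_true, Bool.or_eq_true] at h1
  have key : ∀ (l : List ℕ) (w : V5) (p r C : ℕ), lv5 l = w → Nat.beq (ptWord (nw (kwl l)) 0) p = true →
      rcB [0] ww p r C = true → C.testBit (m.pv v) = true → ∃ r ∈ m.W, r * m.κ w * r⁻¹ = m.κ v := by
    intro l w p r C hw hp hrc hC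
    obtain ⟨g, hg, -, h⟩ := m.reach m.ww_mem hrc hC
    refine ⟨g, hg, ?_⟩
    apply m.eq_of_pt (m.M_norm (m.W_le_M hg) (m.κ_mem _)) (m.κ_mem _)
    rw [m.conj_pt hg, ← hw, ← m.κ_word, φ_wd_apply, Nat.eq_of_beq_eq_true hp, h]
    rfl
  rcases h1 with h1 | h1 | h1 | h1
  · exfalso
    have h3 : Nat.testBit 1 (m.pv v) = decide (m.pv v = 0) := by
      have := Nat.testBit_two_pow (n := 0) (m := m.pv v)
      rw [pow_zero] at this
      rw [this]
      exact decide_eq_decide.2 eq_comm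
    rw [h3] at h1
    have h4 : v = 0 := by
      apply m.pv_injective
      rw [of_decide_eq_true h1, pv_zero]
    rw [h4, κ_zero, mul_inv_eq_one, mul_eq_left, ← m.κ_zero] at hv
    exact w2_ne (m.κ_injective hv)
  · obtain ⟨r, hr, h⟩ := key _ _ _ _ _ lv_w1 chkP1 rcC1 h1
    have h5 := m.nfix_w1
    rw [← h, nfix_conj] at hn
    omega
  · exact h1
  · obtain ⟨r, hr, h⟩ := key _ _ _ _ _ lv_w0 chkP0 rcC0 h1
    have h5 := m.nfix_w0
    rw [← h, nfix_conj] at hn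
    omega

theorem card_Hf_ge : 139968 ≤ Nat.card m.Hf := by
  have hfin := m.finite
  have h1 := card_le_mul_of_map m.M m.Hf (fun g => m.φ (g * m.κ w2 * g⁻¹) 0) {p | C2.testBit p = true}
    (finite_testBit ltC2) (fun g hg => m.conj_w2 hg) (by
      intro g hg h hh hgh
      have h2 := m.eq_of_pt (m.M_norm hg (m.κ_mem w2)) (m.M_norm hh (m.κ_mem w2)) hgh
      have h3 : g⁻¹ * h ∈ m.M := mul_mem (inv_mem hg) hh
      refine ⟨h3, ?_⟩
      apply Subgroup.mem_centralizer_singleton_iff.2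
      symm
      calc m.κ w2 * (g⁻¹ * h) = g⁻¹ * (g * m.κ w2 * g⁻¹) * h := by group
        _ = g⁻¹ * (h * m.κ w2 * h⁻¹) * h := by rw [h2]
        _ = g⁻¹ * h * m.κ w2 := by group)
  have h2 : {p : ℕ | C2.testBit p = true}.ncard = 90 := ncard_testBit ltC2 pcC2
  rw [h2] at h1
  have h3 := m.card_M_ge
  omega

/-- the element inverting `κ w2` -/
noncomputable def iv : G := m.wd [.b] * m.wd [.e]

theorem iv_mem : m.iv ∈ m.M := mul_mem (m.mw_mem [.b] (by decide)) (m.mw_mem [.e] (by decide))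

theorem iv_act : m.iv * m.κ w2 * m.iv⁻¹ = m.κ (-w2) := by
  have h1 := m.act_gen (g := .b) (by decide)
  have h2 := m.act_gen (g := .e) (by decide)
  have h3 := m.act_mul h1 h2 w2
  unfold iv
  rw [h3, ← Matrix.mulVec_mulVec, Cfsg.Agent.ClassicalGeometry.Reflection.reflectionMatrix_mulVec,
    Cfsg.Agent.ClassicalGeometry.Reflection.reflectionMatrix_mulVec, polar_Qd, polar_Qd, Qd_apply, Qd_apply]
  have e1 : (qf (root .b))⁻¹ = 1 := by
    have : qf (root .b) = 1 := by decide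
    rw [this, inv_one]
  have e2 : (qf (root .e))⁻¹ = 1 := by
    have : qf (root .e) = 1 := by decide
    rw [this, inv_one]
  rw [e1, e2]
  congr 1
  decide

theorem card_NX_ge : 279936 ≤ Nat.card (Subgroup.normalizer (m.X : Set G)) := by
  have hfin := m.finite
  have hle : m.Hf ≤ Subgroup.normalizer (m.X : Set G) := fun g hg => m.Hf_norm hg
  have hiv : m.iv ∈ Subgroup.normalizer (m.X : Set G) := by
    apply m.mem_NX
    right
    rw [iv_act, κ_neg]
  have hiv' : m.iv ∉ m.Hf := by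
    intro h
    have h1 := Subgroup.mem_centralizer_singleton_iff.1 h.2
    have h2 : m.iv * m.κ w2 * m.iv⁻¹ = m.κ w2 := by rw [mul_inv_eq_iff_eq_mul, h1]
    rw [iv_act] at h2
    have h3 := m.κ_injective h2
    revert h3; decide
  obtain ⟨k, hk⟩ := Subgroup.card_dvd_of_le hle
  have h1 := m.card_Hf_ge
  have h2 : 0 < Nat.card (Subgroup.normalizer (m.X : Set G)) := Nat.card_pos
  have h3 : k ≠ 0 := by
    rintro rfl
    rw [mul_zero] at hk
    omega
  have h4 : k ≠ 1 := by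
    rintro rfl
    rw [mul_one] at hk
    have := Subgroup.eq_of_le_of_card_ge hle hk.le
    rw [this] at hiv'
    exact hiv' hiv
  have h5 : 2 ≤ k := by omega
  rw [hk]
  calc 279936 = 139968 * 2 := by norm_num
    _ ≤ Nat.card m.Hf * k := Nat.mul_le_mul h1 h5

/-- The centralizer of the orthogonal complement of `w2` in `A`. -/
theorem cent_perp {g : G} (hg : ∀ v, bf v w2 = 0 → g * m.κ v = m.κ v * g) : g ∈ m.A := by
  have hfin := m.finite
  have perm_step : ∀ (qs : List ℕ) (l : List ℕ) (d e : List Gen × Gen) (kl : List ℕ) (p q s r : ℕ),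
      Nat.beq (twp d) p = true → Nat.beq (twp e) q = true → eqB (tw d ++ tw e) (kwl l) = true →
      Nat.beq (ptWord (nw (tw d)) q) s = true → s ≠ q → s < 3510 → bf (lv5 l) w2 = 0 →
      rcB qs [kwl kl] p r (Nat.lor (Nat.pow 2 p) (Nat.lor (Nat.pow 2 q) (Nat.pow 2 s))) = true →
      ∀ g, (∀ v, bf v w2 = 0 → g * m.κ v = m.κ v * g) → (∀ x ∈ qs, m.φ g x = x) →
      (∀ k, (∀ v, bf v w2 = 0 → k * m.κ v = m.κ v * k) → (∀ x ∈ p :: qs, m.φ k x = x) → k ∈ m.A) → g ∈ m.A := by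
    intro qs l d e kl p q s r hd he heq hs hsq hsl hl hrc g hg hq hnext
    have hdp := Nat.eq_of_beq_eq_true hd
    have heq' := Nat.eq_of_beq_eq_true he
    have hpl : p < 3510 := by rw [← hdp]; exact m.twp_lt d
    have hql : q < 3510 := by rw [← heq']; exact m.twp_lt e
    have h1 := m.eq_of_eqB heq
    rw [wd_append, ← m.t_tw, ← m.t_tw, hdp, heq', κ_word] at h1
    have hth : m.φ (m.t p) q = s := by
      rw [← hdp, m.t_tw, φ_wd_apply]; exact Nat.eq_of_beq_eq_true hs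
    have hnc : m.t p * m.t q ≠ m.t q * m.t p := by
      rw [Ne, m.comm_iff _ hql, hth]; exact hsq
    have h2 := hg _ hl
    rw [← h1] at h2
    have h3 := m.class_of_comm (m.t_mem hpl) (m.t_mem hql) hnc h2
    have h4 : m.t p * m.t q * m.t p = m.t s := by
      have := m.conj_t (m.t p) hql
      rw [m.t_inv hpl, hth] at this
      exact this
    rw [m.conj_t g hpl, h4] at h3
    have hgl := m.φ_lt g hpl
    have h5 : (Nat.lor (Nat.pow 2 p) (Nat.lor (Nat.pow 2 q) (Nat.pow 2 s))).testBit (m.φ g p) = true := by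
      show (2 ^ p ||| (2 ^ q ||| 2 ^ s)).testBit _ = true
      rw [Nat.testBit_or, Nat.testBit_or, Nat.testBit_two_pow, Nat.testBit_two_pow, Nat.testBit_two_pow,
        Bool.or_eq_true, Bool.or_eq_true, decide_eq_true_eq, decide_eq_true_eq, decide_eq_true_eq]
      rcases h3 with h | h | h
      · exact Or.inl (m.t_inj hgl hpl h).symm
      · exact Or.inr (Or.inr (m.t_inj hgl hsl h).symm)
      · exact Or.inr (Or.inl (m.t_inj hgl hql h).symm)
    obtain ⟨a, ha, haq, hap⟩ := m.reach (H := m.A) (ws := [kwl kl]) (by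
      intro w hw
      rw [List.mem_singleton.1 hw, κ_word]
      exact m.κ_mem _) hrc h5
    have h6 : a⁻¹ * g ∈ m.A := by
      apply hnext
      · intro v hv
        obtain ⟨u, rfl⟩ := m.mem_A.1 ha
        have h4 := hg _ hv
        calc (m.κ u)⁻¹ * g * m.κ v = (m.κ u)⁻¹ * (g * m.κ v) := by group
          _ = (m.κ u)⁻¹ * (m.κ v * g) := by rw [h4]
          _ = (m.κ u)⁻¹ * m.κ v * g := by group
          _ = m.κ v * (m.κ u)⁻¹ * g := by rw [← κ_neg, m.κ_comm]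
          _ = m.κ v * ((m.κ u)⁻¹ * g) := by group
      · intro x hx
        rw [map_mul, Equiv.Perm.mul_apply, map_inv, Equiv.Perm.inv_eq_iff_eq]
        rcases List.mem_cons.1 hx with rfl | hx
        · exact hap.symm
        · rw [hq x hx, haq x hx]
    have h7 := mul_mem ha h6
    rwa [mul_inv_cancel_left] at h7
  refine perm_step [] _ _ _ _ 43 166 208 _ p43 pg43 eqg43 thg43 (by norm_num) (by norm_num) (by decide) rcU43 g hg
    (by simp) ?_
  intro g hg hfix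
  refine perm_step _ _ _ _ _ 92 165 207 _ p92 pg92 eqg92 thg92 (by norm_num) (by norm_num) (by decide) rcU92 g hg
    hfix ?_
  intro g hg hfix
  refine perm_step _ _ _ _ _ 7 158 330 _ p7 pg7 eqg7 thg7 (by norm_num) (by norm_num) (by decide) rcU7 g hg
    hfix ?_
  intro g hg hfix
  refine perm_step _ _ _ _ _ 17 104 331 _ p17 pg17 eqg17 thg17 (by norm_num) (by norm_num) (by decide) rcU17 g hg
    hfix ?_
  intro g hg hfix
  have f92 : m.φ g 92 = 92 := hfix 92 (by simp)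
  have h165 : m.φ g 165 = 165 := by
    have h1 := m.eq_of_eqB eqg92
    rw [wd_append, ← m.t_tw, ← m.t_tw, Nat.eq_of_beq_eq_true p92, Nat.eq_of_beq_eq_true pg92, κ_word] at h1
    have h2 := hg (lv5 [1, 2, 0, 0, 1]) (by decide)
    rw [← h1] at h2
    have h3 : g * m.t 92 = m.t 92 * g := (m.comm_iff g (by norm_num)).2 f92
    rw [← m.comm_iff g (by norm_num)]
    have h5 : m.t 92 * (g * m.t 165) = m.t 92 * (m.t 165 * g) := by
      rw [← mul_assoc, ← h3, mul_assoc, h2, mul_assoc]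
    exact mul_left_cancel h5
  -- the stabilizer of the base
  have h6 : Nat.card (stabL m.φ [165, 7, 17, 43, 92]) ≤ 3 := by
    have s1 := m.lv_le_top lvu92
    have s2 := m.lv_le_top lvu43
    have s3 := m.lv_le_top lvu17
    have s4 := m.lv_le_top lvu7
    have s5 := m.lv_le_top lvu165
    have s0 := m.card_stabL_nil
    omega
  have h7 : g ∈ stabL m.φ [165, 7, 17, 43, 92] := by
    intro q hq
    simp only [List.mem_cons, List.not_mem_nil, or_false] at hq
    rcases hq with rfl | rfl | rfl | rfl | rfl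
    · exact h165
    · exact hfix 7 (by simp)
    · exact hfix 17 (by simp)
    · exact hfix 43 (by simp)
    · exact f92
  have h8 : m.X ≤ stabL m.φ [165, 7, 17, 43, 92] := by
    unfold X
    rw [Subgroup.zpowers_le]
    intro q hq
    have h9 : F36.testBit q = true := by
      apply tb36
      simp only [List.mem_cons, List.not_mem_nil, or_false] at hq ⊢
      tauto
    exact (m.F36_iff (F36_lt h9)).1 h9
  have h9 : m.X = stabL m.φ [165, 7, 17, 43, 92] := by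
    apply Subgroup.eq_of_le_of_card_ge h8
    have : Nat.card m.X = 3 := m.card_zpowers_κ w2_ne
    rw [this]; exact h6
  rw [← h9] at h7
  have h10 : m.X ≤ m.A := Subgroup.zpowers_le.2 (m.κ_mem _)
  exact h10 h7

theorem A_normal : (m.A.subgroupOf (Subgroup.normalizer (m.X : Set G))).Normal := by
  refine ⟨?_⟩
  intro a ha n
  rw [Subgroup.mem_subgroupOf] at ha ⊢
  exact m.NX_norm n.2 ha

/-- **The quotient.** -/
theorem quot_iso_X : ∃ _ : (m.A.subgroupOf (Subgroup.normalizer (m.X : Set G))).Normal,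
    Nonempty (↥(Subgroup.normalizer (m.X : Set G)) ⧸ m.A.subgroupOf (Subgroup.normalizer (m.X : Set G)) ≃*
    Cfsg.isometryGroup (ZMod 3) (Cfsg.quadFormPlus 2 (ZMod 3))) := by
  have hfin := m.finite
  have hn := m.A_normal
  refine ⟨hn, ?_⟩
  have hfinR : Finite (Cfsg.isometryGroup (ZMod 3) (Cfsg.quadFormPlus 2 (ZMod 3))) := by
    have : Finite (Matrix.GeneralLinearGroup (Fin 2 ⊕ Fin 2) (ZMod 3)) := inferInstance
    infer_instance
  have hcN : Nat.card (m.A.subgroupOf (Subgroup.normalizer (m.X : Set G))) = 243 := by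
    rw [← m.card_A]
    exact Nat.card_congr (Subgroup.subgroupOfEquivOfLe m.A_le_NX).toEquiv
  apply iso_of_rel_card (m.A.subgroupOf (Subgroup.normalizer (m.X : Set G)))
    (fun n (u : Cfsg.isometryGroup (ZMod 3) (Cfsg.quadFormPlus 2 (ZMod 3))) => ∀ z : V4, (n : G) * m.κ (Bm *ᵥ z) * (n : G)⁻¹ =
      m.κ (Bm *ᵥ (((u : Matrix.GeneralLinearGroup (Fin 2 ⊕ Fin 2) (ZMod 3)) :
        Matrix (Fin 2 ⊕ Fin 2) (Fin 2 ⊕ Fin 2) (ZMod 3)) *ᵥ z)))
  · intro n
    obtain ⟨s, hs⟩ := m.M_act (m.N_le_M (m.NX_le_NA n.2))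
    have h1 : mt s *ᵥ w2 = w2 ∨ mt s *ᵥ w2 = -w2 := by
      have h2 := hs w2
      rcases m.X_cases n.2 with h | h
      · left
        rw [h] at h2
        exact (m.κ_injective h2).symm
      · right
        rw [h, ← κ_neg] at h2
        exact (m.κ_injective h2).symm
    obtain ⟨u, hu⟩ := exists_iso s h1
    refine ⟨u, ?_⟩
    intro z
    rw [hs, hu]
  · intro n u v hu hv
    apply Subtype.ext
    apply Units.ext
    apply Matrix.mulVec_injective
    funext z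
    have h1 := m.κ_injective ((hu z).symm.trans (hv z))
    have h2 := congrArg (fun y => Cm *ᵥ y) h1
    simp only [Matrix.mulVec_mulVec, ← Matrix.mul_assoc, CB, Matrix.one_mul] at h2
    exact h2
  · intro n k u v hu hv z
    have e : ((n * k : ↥(Subgroup.normalizer (m.X : Set G))) : G) * m.κ (Bm *ᵥ z) *
        ((n * k : ↥(Subgroup.normalizer (m.X : Set G))) : G)⁻¹ =
        (n : G) * ((k : G) * m.κ (Bm *ᵥ z) * (k : G)⁻¹) * (n : G)⁻¹ := by
      rw [Subgroup.coe_mul]; group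
    rw [e, hv, hu]
    congr 2
    exact (Cfsg.Agent.ClassicalGeometry.Reflection.coe_mul_mulVec _ u v z).symm
  · rw [hcN, card_GO]
    exact m.card_NX_ge
  · intro n
    rw [Subgroup.mem_subgroupOf]
    constructor
    · intro h
      apply m.cent_perp
      intro v hv
      have h1 := h (Cm *ᵥ v)
      rw [BC hv] at h1
      have h2 : Bm *ᵥ ((((1 : Cfsg.isometryGroup (ZMod 3) (Cfsg.quadFormPlus 2 (ZMod 3))) :
          Matrix.GeneralLinearGroup (Fin 2 ⊕ Fin 2) (ZMod 3)) :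
          Matrix (Fin 2 ⊕ Fin 2) (Fin 2 ⊕ Fin 2) (ZMod 3)) *ᵥ (Cm *ᵥ v)) = v := by
        show Bm *ᵥ ((1 : Matrix (Fin 2 ⊕ Fin 2) (Fin 2 ⊕ Fin 2) (ZMod 3)) *ᵥ (Cm *ᵥ v)) = v
        rw [Matrix.one_mulVec, BC hv]
      rw [h2, mul_inv_eq_iff_eq_mul] at h1
      exact h1
    · intro h z
      obtain ⟨v, hv⟩ := m.mem_A.1 h
      show (n : G) * m.κ (Bm *ᵥ z) * (n : G)⁻¹ = m.κ (Bm *ᵥ ((1 : Matrix (Fin 2 ⊕ Fin 2) (Fin 2 ⊕ Fin 2) (ZMod 3)) *ᵥ z))
      rw [Matrix.one_mulVec, hv, m.κ_comm, mul_inv_cancel_right]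

include m in
/-- **S5477.** -/
theorem main5477 (X : Subgroup G) (hX : Nat.card X = 3)
    (hw : Cfsg.commutingWidth (D ∩ (Subgroup.centralizer ((X : Subgroup G) : Set G) : Set G)) = 4) :
    ∃ (P : Sylow 3 G) (A : Subgroup G), A = Cfsg.thompsonSubgroupOf 3 (P : Subgroup G) ∧ X ≤ A ∧
      A ≤ Subgroup.normalizer ((X : Subgroup G) : Set G) ∧
      (∀ n ∈ Subgroup.normalizer ((X : Subgroup G) : Set G), ∀ x ∈ A, n * x * n⁻¹ ∈ A) ∧
      Subgroup.normalizer ((X : Subgroup G) : Set G) ≤ Subgroup.normalizer ((A : Subgroup G) : Set G) ∧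
      ∃ _ : (A.subgroupOf (Subgroup.normalizer ((X : Subgroup G) : Set G))).Normal,
        Nonempty (↥(Subgroup.normalizer ((X : Subgroup G) : Set G)) ⧸
          A.subgroupOf (Subgroup.normalizer ((X : Subgroup G) : Set G)) ≃*
          Cfsg.isometryGroup (ZMod 3) (Cfsg.quadFormPlus 2 (ZMod 3))) := by
  have hfin := m.finite
  have h3 : Fact (Nat.Prime 3) := ⟨Nat.prime_three⟩
  obtain ⟨m, rfl⟩ := m.exists_model_X hX hw
  obtain ⟨P, hP⟩ := m.isPGroup_P0.exists_le_sylow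
  have hP' := m.isSylow_P0 hP
  refine ⟨P, m.A, ?_, Subgroup.zpowers_le.2 (m.κ_mem _), m.A_le_NX, ?_, m.NX_le_NA, m.quot_iso_X⟩
  · rw [hP', m.thompson_P0]
  · intro n hn x hx
    exact m.NX_norm hn hx

end Model

end Cfsg.Agent.H834
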