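import Cfsg.Agent.H834.NormAD

/-!
# The elementary abelian subgroup of order `3^5` of `Fi22`: kernel checks (helper834)
-/

set_option autoImplicit false
set_option maxRecDepth 100000
set_option exponentiation.threshold 5000

namespace Cfsg.Agent.H834.AC

open Cfsg.Spor Cfsg.Spor.Fi22 Cfsg.Agent.Lib.PermNet Cfsg.Agent.Lib.PermNetOrbit Cfsg.Agent.Lib.PermNetFix
open Cfsg.Agent.Fischer Cfsg.Agent.Fischer.Fi22PtsRep
open Cfsg.Agent.Fischer.Fi22Order (nws nws_ok)

/-- agreement of two words on a list of points -/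
noncomputable def eqL (u v : List Gen) (l : List ℕ) : Bool :=
  List.rec (motive := fun _ => Bool) true (fun p _ ih => and (Nat.beq (ptWord (nw u) p) (ptWord (nw v) p)) ih) l

/-- agreement of two words on a base -/
noncomputable def eqB (u v : List Gen) : Bool := eqL u v [92, 88, 43, 40, 16, 2, 0]

/-- the five basis generators -/
def bg : List Gen := [.b, .c, .d, .e, .h]

/-- their parallel transpositions -/
def bp : List (List Gen × Gen) := [
  ([.c, .d, .h, .i, .e, .d, .h, .f, .e, .d], .c),
  ([.d, .h, .i, .e, .d, .h, .f, .e, .d, .c], .b),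
  ([.h, .i, .e, .c, .d, .h, .f, .e, .d, .c], .b),
  ([.d, .h, .i, .c, .d, .h, .f, .e, .d, .c], .b),
  ([.i, .d, .e, .c, .d, .h, .f, .e, .d, .c], .b)]

/-- the words of the basis of `A` -/
def xw (j : ℕ) : List Gen := bg.getD j .a :: tw (bp.getD j ([], .a))

/-- repetition -/
def rep (n : ℕ) (w : List Gen) : List Gen := Nat.rec (motive := fun _ => List Gen) [] (fun _ ih => w ++ ih) n

/-- the word of a vector -/
def kwl (l : List ℕ) : List Gen :=
  rep (l.getD 0 0) (xw 0) ++ (rep (l.getD 1 0) (xw 1) ++ (rep (l.getD 2 0) (xw 2) ++ (rep (l.getD 3 0) (xw 3) ++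
    rep (l.getD 4 0) (xw 4))))

def r5 : List ℕ := [0, 1, 2, 3, 4]

theorem chkX3 : (r5.all fun j => eqB (xw j ++ (xw j ++ xw j)) []) = true := by decide +kernel

theorem chkXC : (r5.all fun i => r5.all fun j => or (Nat.ble j i) (eqB (xw i ++ xw j) (xw j ++ xw i))) = true := by
  decide +kernel

/-- the images of the basis under the seven generators -/
def im : Gen → List (List ℕ)
  | .b => [[2, 0, 0, 0, 0], [1, 1, 0, 0, 0], [0, 0, 1, 0, 0], [0, 0, 0, 1, 0], [0, 0, 0, 0, 1]]
  | .c => [[1, 1, 0, 0, 0], [0, 2, 0, 0, 0], [0, 1, 1, 0, 0], [0, 0, 0, 1, 0], [0, 0, 0, 0, 1]]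
  | .d => [[1, 0, 0, 0, 0], [0, 1, 1, 0, 0], [0, 0, 2, 0, 0], [0, 0, 1, 1, 0], [0, 0, 1, 0, 1]]
  | .e => [[1, 0, 0, 0, 0], [0, 1, 0, 0, 0], [0, 0, 1, 1, 0], [0, 0, 0, 2, 0], [0, 0, 0, 0, 1]]
  | .f => [[1, 0, 0, 0, 0], [0, 1, 0, 0, 0], [0, 0, 1, 0, 0], [1, 2, 0, 2, 0], [0, 0, 0, 0, 1]]
  | .h => [[1, 0, 0, 0, 0], [0, 1, 0, 0, 0], [0, 0, 1, 0, 1], [0, 0, 0, 1, 0], [0, 0, 0, 0, 2]]
  | .i => [[1, 0, 0, 0, 0], [0, 1, 0, 0, 0], [0, 0, 1, 0, 0], [0, 0, 0, 1, 0], [1, 2, 0, 0, 2]]
  | _ => []

theorem chkAct_b : (r5.all fun j => eqB (.b :: (xw j ++ [.b])) (kwl ((im .b).getD j []))) = true := by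
  decide +kernel

theorem chkAct_c : (r5.all fun j => eqB (.c :: (xw j ++ [.c])) (kwl ((im .c).getD j []))) = true := by
  decide +kernel

theorem chkAct_d : (r5.all fun j => eqB (.d :: (xw j ++ [.d])) (kwl ((im .d).getD j []))) = true := by
  decide +kernel

theorem chkAct_e : (r5.all fun j => eqB (.e :: (xw j ++ [.e])) (kwl ((im .e).getD j []))) = true := by
  decide +kernel

theorem chkAct_f : (r5.all fun j => eqB (.f :: (xw j ++ [.f])) (kwl ((im .f).getD j []))) = true := by
  decide +kernel

theorem chkAct_h : (r5.all fun j => eqB (.h :: (xw j ++ [.h])) (kwl ((im .h).getD j []))) = true := by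
  decide +kernel

theorem chkAct_i : (r5.all fun j => eqB (.i :: (xw j ++ [.i])) (kwl ((im .i).getD j []))) = true := by
  decide +kernel

/-- the orbit of `0` under `A` -/
def O1 : ℕ := 0x3f0000000000000000000000000000000000000000000000dfff80000000000000000000000000000000000000000cfbfff0000000000000000000000000000000000005cf7dffc00000000000000000000508000000017bcfbffe0000000000000001080000001bfb7fff00000000000010000021bfdffe000000004000003bfff800000000001fffc00000000fff80000003ff000000ff000000fe00003f0000f00380e32b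

/-- the words of the basis -/
def xws : List (List Gen) := [xw 0, xw 1, xw 2, xw 3, xw 4]

theorem lvA : lvB [] xws 0 2 243 = true := by decide +kernel

theorem rcA : rcB [] xws 0 2 O1 = true := by decide +kernel

theorem O1pc : Nat.beq (pc 12 O1) 243 = true := by decide +kernel

theorem O1lt : Nat.beq (Nat.shiftRight O1 (Nat.pow 2 12)) 0 = true := by decide +kernel

/-- generators of the complement -/
def ww : List (List Gen) := [[.c], [.d], [.e], [.f], [.h], [.i]]

/-- the orbit of the vectors of norm 1 -/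
def C1 : ℕ := 0x5080000000043000000000000000000000108000000033000000000000000001000002026c00000000000400000037000000000000003e00000000009f000000002f8000000bc000000bc0000370000f00380e32a

theorem chkP1 : Nat.beq (ptWord (nw (kwl [1, 0, 0, 0, 0])) 0) 1 = true := by decide +kernel

theorem rcC1 : rcB [0] ww 1 6 C1 = true := by decide +kernel

theorem fxC1 : Nat.beq (pc 12 (fixm (kwl [1, 0, 0, 0, 0]))) 126 = true := by decide +kernel

theorem fxC1lt : Nat.beq (Nat.shiftRight (fixm (kwl [1, 0, 0, 0, 0])) (Nat.pow 2 12)) 0 = true := by decide +kernel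

/-- the orbit of the vectors of norm 2 -/
def C2 : ℕ := 0x18000000000000000000000000000000000000000000003188000000000000000000000000000000000000000619940000000000000000000000000000000000c336e000000000000000000000000000366ff00000000000000000001801efe00000000000000300ff80000000000181fc0000000060f8000000107000000430000004200000800000000000000

theorem chkP2 : Nat.beq (ptWord (nw (kwl [1, 0, 0, 1, 0])) 0) 236 = true := by decide +kernel

theorem rcC2 : rcB [0] ww 236 3 C2 = true := by decide +kernel

theorem fxC2 : Nat.beq (pc 12 (fixm (kwl [1, 0, 0, 1, 0]))) 36 = true := by decide +kernel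

theorem fxC2lt : Nat.beq (Nat.shiftRight (fixm (kwl [1, 0, 0, 1, 0])) (Nat.pow 2 12)) 0 = true := by decide +kernel

/-- the orbit of the vectors of norm 0 -/
def C0 : ℕ := 0x3f0000000000000000000000000000000000000000000000de7f80000000000000000000000000000000000000000cf8e770000000000000000000000000000000000005cf1c668000000000000000000000000000000138c38c9000000000000000000000000018c819000000000000000000000019010000000000000000088000000000000004000000000000000000000000000000000000000000000000000000000000

theorem chkP0 : Nat.beq (ptWord (nw (kwl [1, 0, 0, 1, 1])) 0) 1125 = true := by decide +kernel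

theorem rcC0 : rcB [0] ww 1125 3 C0 = true := by decide +kernel

theorem fxC0 : Nat.beq (pc 12 (fixm (kwl [1, 0, 0, 1, 1]))) 27 = true := by decide +kernel

theorem fxC0lt : Nat.beq (Nat.shiftRight (fixm (kwl [1, 0, 0, 1, 1])) (Nat.pow 2 12)) 0 = true := by decide +kernel

theorem chkO1 : Nat.beq (Nat.lor 1 (Nat.lor C1 (Nat.lor C2 C0))) O1 = true := by decide +kernel

/-- the transpositions of `M` -/
def FM : ℕ := 0x700000000000000000000000000000000277000000000000000000000000006f800000000000000000001f8002000000000001f801000000001f8040000007e0400000f8300003e399003e77403ddf077c3f1cd4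

/-- generators of `M` -/
def mw : List (List Gen) := [[.b], [.c], [.d], [.e], [.f], [.h], [.i]]

theorem rcM : rcB [] mw 2 5 FM = true := by decide +kernel

/-- stability of a mask under a generator -/
noncomputable def stB (F : ℕ) (ws : List (List Gen)) : Bool :=
  List.rec (motive := fun _ => Bool) true (fun w _ ih => and (Nat.beq (appWord (nw w) F) F) ih) ws

theorem stM : stB FM mw = true := by decide +kernel

/-- the points of the base -/
def b7 : List (List Gen × Gen) := [
  ([], .b),
  ([], .d),
  ([], .c),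
  ([], .f),
  ([], .i),
  ([.h, .d, .e, .c, .d, .h, .f, .e, .d, .c], .b),
  ([.e, .d, .h, .i, .c, .d, .h, .e, .d, .c], .b)]

theorem b7p : b7.map twp = [2, 16, 6, 88, 92, 165, 170] := by
  have h : (b7.map twp == [2, 16, 6, 88, 92, 165, 170]) = true := by decide +kernel
  exact LawfulBEq.eq_of_beq h

def m2 : List (List Gen × Gen) := [([], .c), ([], .d), ([], .e), ([], .h), ([], .f), ([], .i), ([.c], .b)]

theorem inm2 : inB FM m2 = true := by decide +kernel

/-- the candidates -/
def D2 : ℕ := 0x700000000000000000000000000000000277000000000000000000000000006f800000000000000000001f8002000000000001f801000000001f8040000007e0400000f8300003e399003e77403ddf077c3f1cd4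

theorem rcm2 : rcB [] (m2.map tw) 2 4 D2 = true := by decide +kernel

theorem lvm2 : lvB [] ([([], .a), ([], .b), ([], .c), ([], .d), ([], .e), ([], .h), ([], .f), ([], .i), ([], .g)].map tw) 2 6 3510 = true := by decide +kernel

def m16 : List (List Gen × Gen) := [([], .e), ([], .h), ([], .f), ([], .i), ([.e], .d), ([.c, .d, .h, .e, .d, .c], .b)]

theorem inm16 : inB FM m16 = true := by decide +kernel

/-- the candidates -/
def D16 : ℕ := 0x4000000000000000000000000000900000000000000000000128000000000000000d80000000000178000000005e0000000b8000002601900120740101f000c010000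

theorem rcm16 : rcB [2] (m16.map tw) 16 3 D16 = true := by decide +kernel

theorem lvm16 : lvB [2] ([([], .h), ([], .f), ([], .i), ([], .g), ([.e], .d), ([.c, .b], .a), ([.c, .d, .h, .e, .d, .c], .b)].map tw) 16 5 693 = true := by decide +kernel

def m6 : List (List Gen × Gen) := [([], .d), ([.h, .e], .d), ([.h, .f, .e], .d), ([.i, .h, .e], .d), ([.c, .d, .h, .e, .d, .c], .b)]

theorem inm6 : inB FM m6 = true := by decide +kernel

/-- the candidates -/
def D6 : ℕ := 0x70000000000000000000000000000000007200000000000000000000000000040000000000000000000004000000000000000120000000000008004000000200400000400000000100000870002dc007201004d0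

theorem rcm6 : rcB [16, 2] (m6.map tw) 6 2 D6 = true := by decide +kernel

theorem lvm6 : lvB [16, 2] ([([.h, .e], .d), ([.h, .f, .e], .d), ([.i, .h, .e], .d), ([.h, .d, .c, .b], .a), ([.h, .g, .f, .e], .d), ([.c, .d, .h, .e, .d, .c], .b)].map tw) 6 6 2304 = true := by decide +kernel

def m88 : List (List Gen × Gen) := [([.e, .d, .h, .i, .c, .d, .h, .e, .d, .c], .b), ([.f, .e, .d, .h, .i, .c, .d, .h, .e, .d, .c], .b)]

theorem inm88 : inB FM m88 = true := by decide +kernel

/-- the candidates -/
def D88 : ℕ := 0x108000000004200000000000000000110000000000000000000000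

/-- a diagram symmetry in `M` -/
def swp : List Gen := [.h, .i, .d, .h, .c, .d, .e, .b, .c, .d, .h, .i, .f, .e, .d, .h, .c, .d, .e, .f, .b, .c, .d, .e, .b, .c, .d, .b, .c, .b]

theorem rcm88 : rcB [6, 16, 2] (m88.map tw ++ [swp]) 88 1 D88 = true := by decide +kernel

theorem lvm88 : lvB [6, 16, 2] ([([], .g), ([.g], .f), ([.e, .d, .c, .b], .a), ([.h, .d, .e, .c, .d, .h, .f, .e, .d, .c], .b), ([.e, .d, .h, .i, .c, .d, .h, .e, .d, .c], .b), ([.i, .h, .d, .e, .c, .d, .h, .f, .e, .d, .c], .b)].map tw) 88 2 30 = true := by decide +kernel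

def m92 : List (List Gen × Gen) := [([.h, .d, .e, .c, .d, .h, .f, .e, .d, .c], .b), ([.i, .h, .d, .e, .c, .d, .h, .f, .e, .d, .c], .b)]

theorem inm92 : inB FM m92 = true := by decide +kernel

/-- the candidates -/
def D92 : ℕ := 0x8000000000200000000000000000100000000000000000000000

theorem rcm92 : rcB [88, 6, 16, 2] (m92.map tw) 92 1 D92 = true := by decide +kernel

theorem lvm92 : lvB [88, 6, 16, 2] ([([.h, .d, .c, .b], .a), ([.i, .h, .d, .c, .b], .a), ([.h, .d, .e, .c, .d, .h, .f, .e, .d, .c], .b), ([.e, .f, .d, .e, .c, .d, .h, .g, .f, .e, .d, .c], .b)].map tw) 92 2 12 = true := by decide +kernel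

def m165 : List (List Gen × Gen) := [([], .i)]

theorem inm165 : inB FM m165 = true := by decide +kernel

/-- the candidates -/
def D165 : ℕ := 0x8000000000200000000000000000000000000000000000000000

theorem rcm165 : rcB [92, 88, 6, 16, 2] (m165.map tw) 165 1 D165 = true := by decide +kernel

theorem lvm165 : lvB [92, 88, 6, 16, 2] ([([], .i), ([.g, .f, .e, .d, .h, .i, .c, .d, .h, .e, .d, .c], .b), ([.a, .b, .c, .d, .h, .i, .d, .h, .c, .d, .e, .b, .c, .d, .h, .f, .e, .d, .c, .b], .a)].map tw) 165 1 8 = true := by decide +kernel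

def m170 : List (List Gen × Gen) := [([], .f)]

theorem inm170 : inB FM m170 = true := by decide +kernel

/-- the candidates -/
def D170 : ℕ := 0x100000000004000000000000000000000000000000000000000000

theorem rcm170 : rcB [165, 92, 88, 6, 16, 2] (m170.map tw) 170 1 D170 = true := by decide +kernel

theorem lvm170 : lvB [165, 92, 88, 6, 16, 2] ([([], .f), ([.g, .f, .e, .d, .c, .b], .a)].map tw) 170 1 4 = true := by decide +kernel

/-- the points of `F` with a given commuting pattern -/
noncomputable def pat : List ((List Gen × Gen) × Bool) → ℕ → ℕ :=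
  List.rec (motive := fun _ => ℕ → ℕ) (fun F => F)
    (fun c _ ih F => seq (Nat.land F (cmk c.1)) fun x => Bool.rec (ih (Nat.xor F x)) (ih x) c.2)

def pt16 : List ((List Gen × Gen) × Bool) := [(([], .b), true)]

theorem chkD16 : Nat.beq (pat pt16 FM) (Nat.lor D16 (Nat.pow 2 2)) = true := by decide +kernel

def pt6 : List ((List Gen × Gen) × Bool) := [(([], .b), false), (([], .d), false)]

theorem chkD6 : Nat.beq (pat pt6 FM) D6 = true := by decide +kernel

def pt88 : List ((List Gen × Gen) × Bool) := [(([], .b), true), (([], .d), true), (([], .c), true)]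

theorem chkD88 : Nat.beq (pat pt88 FM) D88 = true := by decide +kernel

def pt92 : List ((List Gen × Gen) × Bool) := [(([], .b), true), (([], .d), true), (([], .c), true), (([], .f), true)]

theorem chkD92 : Nat.beq (pat pt92 FM) (Nat.lor D92 (Nat.pow 2 88)) = true := by decide +kernel

def pt165 : List ((List Gen × Gen) × Bool) := [(([], .b), true), (([], .d), true), (([], .c), true), (([], .f), true), (([], .i), false)]

theorem chkD165 : Nat.beq (pat pt165 FM) D165 = true := by decide +kernel

def pt170 : List ((List Gen × Gen) × Bool) := [(([], .b), true), (([], .d), true), (([], .c), true), (([], .f), false), (([], .i), true), (([.h, .d, .e, .c, .d, .h, .f, .e, .d, .c], .b), true)]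

theorem chkD170 : Nat.beq (pat pt170 FM) D170 = true := by decide +kernel

theorem rcT2 : rcB [] [kwl [1, 0, 0, 0, 0]] 2 2 (Nat.lor (Nat.pow 2 2) (Nat.lor (Nat.pow 2 248) (Nat.pow 2 313))) = true := by
  decide +kernel

theorem rcT6 : rcB [2] [kwl [0, 0, 1, 0, 0]] 6 2 (Nat.lor (Nat.pow 2 6) (Nat.lor (Nat.pow 2 169) (Nat.pow 2 211))) = true := by
  decide +kernel

theorem rcT16 : rcB [6, 2] [kwl [0, 0, 0, 1, 0]] 16 2 (Nat.lor (Nat.pow 2 16) (Nat.lor (Nat.pow 2 167) (Nat.pow 2 209))) = true := by
  decide +kernel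

theorem rcT40 : rcB [16, 6, 2] [kwl [0, 0, 0, 1, 2]] 40 2 (Nat.lor (Nat.pow 2 40) (Nat.lor (Nat.pow 2 168) (Nat.pow 2 210))) = true := by
  decide +kernel

theorem rcT43 : rcB [40, 16, 6, 2] [kwl [1, 2, 0, 0, 1]] 43 2 (Nat.lor (Nat.pow 2 43) (Nat.lor (Nat.pow 2 166) (Nat.pow 2 208))) = true := by
  decide +kernel

theorem lvt2 : lvB [] ([([], .a), ([], .b), ([], .c), ([], .d), ([], .e), ([], .h), ([], .f), ([], .i), ([], .g)].map tw) 2 6 3510 = true := by decide +kernel

theorem lvt6 : lvB [2] ([([], .d), ([], .e), ([], .h), ([], .f), ([], .i), ([], .g), ([.c, .b], .a), ([.c, .d, .h, .e, .d, .c], .b)].map tw) 6 5 2816 = true := by decide +kernel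

theorem lvt16 : lvB [6, 2] ([([], .h), ([], .f), ([], .i), ([], .g), ([.d, .c, .b], .a), ([.d, .e, .c, .d, .h, .f, .e, .d, .c], .b)].map tw) 16 5 567 = true := by decide +kernel

theorem lvt40 : lvB [16, 6, 2] ([([], .f), ([], .g), ([.e, .d, .c, .b], .a), ([.h, .d, .c, .b], .a), ([.i, .h, .d, .c, .b], .a), ([.h, .d, .e, .c, .d, .h, .f, .e, .d, .c], .b)].map tw) 40 3 96 = true := by decide +kernel

theorem lvt43 : lvB [40, 16, 6, 2] ([([], .i), ([.f, .e, .d, .c, .b], .a), ([.g, .f, .e, .d, .c, .b], .a), ([.h, .d, .e, .c, .d, .h, .f, .e, .d, .c], .b)].map tw) 43 2 30 = true := by decide +kernel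

theorem lvt208 : lvB [43, 40, 16, 6, 2] ([([], .g), ([.f, .e, .d, .h, .c, .d, .e, .b, .c, .d, .h, .f, .e, .d, .c, .b], .a)].map tw) 208 1 4 = true := by decide +kernel

theorem chkbp : bp.map twp = [248, 169, 167, 168, 166] := by
  have h : (bp.map twp == [248, 169, 167, 168, 166]) = true := by decide +kernel
  exact LawfulBEq.eq_of_beq h

/-- the third points of the classes -/
theorem chkthird : Nat.beq (ptWord (nw [.h]) 166) 208 = true := by decide +kernel

end Cfsg.Agent.H834.AC
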