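import Cfsg.Agent.H834.AReg

/-!
# The normalizer of the elementary abelian subgroup of order `3^5` of `Fi22`: more kernel checks (helper834)
-/

set_option autoImplicit false
set_option maxRecDepth 100000
set_option exponentiation.threshold 5000

namespace Cfsg.Agent.H834.AC

open Cfsg.Spor Cfsg.Spor.Fi22 Cfsg.Agent.Lib.PermNet Cfsg.Agent.Lib.PermNetOrbit Cfsg.Agent.Lib.PermNetFix
open Cfsg.Agent.Fischer Cfsg.Agent.Fischer.Fi22PtsRep
open Cfsg.Agent.Fischer.Fi22Order (nws nws_ok)

theorem third_b : Nat.beq (ptWord (nw [.b]) 248) 313 = true := by decide +kernel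

theorem third_c : Nat.beq (ptWord (nw [.c]) 169) 211 = true := by decide +kernel

theorem third_d : Nat.beq (ptWord (nw [.d]) 167) 209 = true := by decide +kernel

theorem third_e : Nat.beq (ptWord (nw [.e]) 168) 210 = true := by decide +kernel

theorem third_h : Nat.beq (ptWord (nw [.h]) 166) 208 = true := by decide +kernel

end Cfsg.Agent.H834.AC
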