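import Cfsg.Agent.H834.Rank

/-!
# The transpositions commuting with `a` and `b` in `Fi22`: kernel checks (helper834)
-/

set_option autoImplicit false
set_option maxRecDepth 100000
set_option exponentiation.threshold 5000

namespace Cfsg.Agent.H834.AD

open Cfsg.Spor Cfsg.Spor.Fi22 Cfsg.Agent.Lib.PermNet Cfsg.Agent.Lib.PermNetOrbit Cfsg.Agent.Lib.PermNetFix
open Cfsg.Agent.Fischer Cfsg.Agent.Fischer.Fi22PtsRep
open Cfsg.Agent.Fischer.Fi22Order (nws nws_ok)

/-- the points commuting with `a` and `b` -/
def F : ℕ := 0x200000000000000000000000000000000000000000004240000000000000000000000100000000000000001094a0000000000000000000000000c0000000002112d800000000000000000000000001e00000012df000000000000020004a0000000e00002ff8000000004007002f0000018003ff0000000380181e0000401f80000030043800101c00000808c0002000020080000004000000030000001f000007c0001f000c010000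

theorem chkF : Nat.beq (Nat.land (fixm [.a]) (fixm [.b])) F = true := by decide +kernel

theorem chkFab : Nat.beq (fixm [.a, .b]) F = true := by decide +kernel

/-- generators in `F` -/
def kg : List (List Gen × Gen) := [([], .d), ([], .e), ([], .f), ([], .g), ([], .h), ([], .i)]

theorem chkkg : inB F kg = true := by decide +kernel

theorem chkC : Nat.beq (interB kg full) 7 = true := by decide +kernel

theorem chkP1 : Nat.beq (twp ([.a], .b)) 1 = true := by decide +kernel

def k16 : List (List Gen × Gen) := [([], .h), ([], .f), ([], .i), ([], .g), ([.e], .d), ([.c, .d, .e, .b, .c, .d, .h, .f, .e, .d, .c, .b], .a)]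

theorem in16 : inB F k16 = true := by decide +kernel

theorem lv16 : lvB [] (k16.map tw) 16 5 126 = true := by decide +kernel

theorem rc16 : rcB [] (k16.map tw) 16 5 F = true := by decide +kernel

def k40 : List (List Gen × Gen) := [([], .f), ([], .g), ([.h, .e], .d), ([.i, .h, .e], .d), ([.c, .d, .e, .b, .c, .d, .h, .f, .e, .d, .c, .b], .a)]

theorem in40 : inB F k40 = true := by decide +kernel

theorem lv40 : lvB [16] (k40.map tw) 40 5 80 = true := by decide +kernel

/-- the points of `F` not commuting with `16` -/
def F80 : ℕ := 0x42000000000000000000000001000000000000000010848000000000000000000000000080000000000012d800000000000000000000000000400000000df00000000000002000020000000a00000de8000000004005000c0000018003bd0000000280181c0000401d80000030043800000800000800400000000000000000000000000000000002000004c0001b000c000000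

theorem chkF80 : Nat.beq (Nat.xor F (Nat.land F (cmk ([], .d)))) F80 = true := by decide +kernel

theorem rc40 : rcB [16] (k40.map tw) 40 5 F80 = true := by decide +kernel

def k43 : List (List Gen × Gen) := [([], .i), ([.h, .f, .e], .d), ([.h, .g, .f, .e], .d), ([.c, .d, .e, .b, .c, .d, .h, .f, .e, .d, .c, .b], .a)]

theorem in43 : inB F k43 = true := by decide +kernel

theorem lv43 : lvB [40, 16] (k43.map tw) 43 4 27 = true := by decide +kernel

def k88 : List (List Gen × Gen) := [([], .g), ([.i, .h, .f, .e], .d), ([.f, .e, .d, .h, .c, .d, .e, .b, .c, .d, .h, .f, .e, .d, .c, .b], .a)]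

theorem in88 : inB F k88 = true := by decide +kernel

theorem lv88 : lvB [43, 40, 16] (k88.map tw) 88 3 12 = true := by decide +kernel

def k92 : List (List Gen × Gen) := [([.i, .h, .g, .f, .e], .d)]

theorem in92 : inB F k92 = true := by decide +kernel

theorem lv92 : lvB [88, 43, 40, 16] (k92.map tw) 92 1 2 = true := by decide +kernel

def k45 : List (List Gen × Gen) := [([], .g), ([.g], .f), ([.h, .e], .d), ([.i, .h, .e], .d), ([.c, .d, .e, .b, .c, .d, .h, .f, .e, .d, .c, .b], .a)]

theorem in45 : inB F k45 = true := by decide +kernel

theorem rc45 : rcB [16] (k45.map tw) 88 3 (Nat.xor (Nat.land F (cmk ([], .d))) (Nat.pow 2 16)) = true := by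
  decide +kernel

def k12 : List (List Gen × Gen) := [([.h, .g, .f, .e], .d), ([.i, .h, .g, .f, .e], .d), ([.c, .d, .e, .b, .c, .d, .h, .f, .e, .d, .c, .b], .a), ([.c, .d, .h, .i, .b, .c, .d, .h, .g, .f, .e, .d, .c, .b], .a)]

theorem in12 : inB F k12 = true := by decide +kernel

theorem rc12 : rcB [88, 16] (k12.map tw) 92 2 (Nat.xor (Nat.xor (Nat.land (Nat.land F (cmk ([], .d))) (cmk ([], .f)))
    (Nat.pow 2 16)) (Nat.pow 2 88)) = true := by
  decide +kernel

/-- six commuting points -/
def F6 : ℕ := 0x20000000000000000000000000000000000000000000000000000000000000000000000000000000000000000000000000000000000000000000000000000000000000000000000000000000000000200000000000000000000000000000000000000000000000000000000000000000000000000000000000000000000000000000000000001000000000000000000000000000000000000000000000110000000000000000010000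

theorem chkF6 : Nat.beq (Nat.land (Nat.land (Nat.land F (cmk ([], .d))) (cmk ([], .f))) (cmk ([], .i))) F6 = true := by
  decide +kernel

theorem chkF6' : Nat.beq (pc 12 F6) 6 = true := by decide +kernel

theorem chkF6lt : Nat.beq (Nat.shiftRight F6 (Nat.pow 2 12)) 0 = true := by decide +kernel

def s6 : List (List Gen × Gen) := [([], .d), ([], .f), ([], .i), ([.c, .d, .h, .i, .b, .c, .d, .h, .g, .f, .e, .d, .c, .b], .a), ([.e, .f, .d, .e, .c, .d, .h, .i, .b, .c, .d, .h, .g, .f, .e, .d, .c, .b], .a), ([.g, .f, .e, .d, .h, .i, .d, .e, .f, .c, .d, .e, .b, .c, .d, .h, .g, .f, .e, .d, .c, .b], .a)]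

theorem chks6 : Nat.beq (interB s6 F6) F6 = true := by decide +kernel

theorem chks6p : (List.beq (s6.map twp) [16, 88, 92, 276, 717, 1349]) = true := by decide +kernel

theorem lv0 : lvB [] Fi22Order.L0 0 6 3510 = true := by decide +kernel

theorem lv2 : lvB [0] Fi22Order.L1 2 5 2816 = true := by decide +kernel

theorem lt16 : lvB [2, 0] (k16.map tw) 16 5 126 = true := by decide +kernel

theorem lt40 : lvB [16, 2, 0] (k40.map tw) 40 5 80 = true := by decide +kernel

theorem lt43 : lvB [40, 16, 2, 0] (k43.map tw) 43 4 27 = true := by decide +kernel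

theorem lt88 : lvB [43, 40, 16, 2, 0] (k88.map tw) 88 3 12 = true := by decide +kernel

theorem lt92 : lvB [88, 43, 40, 16, 2, 0] (k92.map tw) 92 1 2 = true := by decide +kernel

end Cfsg.Agent.H834.AD
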