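import Cfsg.Agent.H834.AChk
import Cfsg.Agent.ClassicalGeometry.Reflection

/-!
# The elementary abelian subgroup of order `3^5` of `Fi22` and its normalizer: the action (helper834)
-/

set_option autoImplicit false
set_option maxRecDepth 100000
set_option exponentiation.threshold 5000
set_option linter.constructorNameAsVariable false

namespace Cfsg.Agent.H834

open Cfsg.Spor Cfsg.Spor.Fi22 Cfsg.Agent.Lib.PermNet Cfsg.Agent.Lib.PermNetOrbit Cfsg.Agent.Lib.PermNetFix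
open Cfsg.Agent.Fischer Cfsg.Agent.Fischer.Fi22PtsRep
open Cfsg.Agent.Fischer.Fi22Order (nws nws_ok)
open AC Matrix

/-- The vectors. -/
abbrev V5 := Fin 5 → ZMod 3

/-- the quadratic form -/
def qf (v : V5) : ZMod 3 := v 0 * v 0 + 2 * (v 0 * v 1) + v 1 * v 1 + 2 * (v 1 * v 2) + v 2 * v 2 + 2 * (v 2 * v 3) +
  2 * (v 2 * v 4) + v 3 * v 3 + v 4 * v 4

/-- its polar form -/
def bf (u v : V5) : ZMod 3 := 2 * (u 0 * v 0) + 2 * (u 0 * v 1 + u 1 * v 0) + 2 * (u 1 * v 1) +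
  2 * (u 1 * v 2 + u 2 * v 1) + 2 * (u 2 * v 2) + 2 * (u 2 * v 3 + u 3 * v 2) + 2 * (u 2 * v 4 + u 4 * v 2) +
  2 * (u 3 * v 3) + 2 * (u 4 * v 4)

theorem bf_eq (x y : V5) : qf (x + y) = qf x + qf y + bf x y := by
  simp only [qf, bf, Pi.add_apply]; ring

/-- the quadratic form -/
def Qd : QuadraticForm (ZMod 3) V5 where
  toFun := qf
  toFun_smul a x := by
    simp only [qf, Pi.smul_apply, smul_eq_mul]; ring
  exists_companion' := ⟨LinearMap.mk₂ (ZMod 3) bf
    (by intro a b c; simp only [bf, Pi.add_apply]; ring)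
    (by intro a b c; simp only [bf, Pi.smul_apply, smul_eq_mul]; ring)
    (by intro a b c; simp only [bf, Pi.add_apply]; ring)
    (by intro a b c; simp only [bf, Pi.smul_apply, smul_eq_mul]; ring), fun x y => bf_eq x y⟩

theorem Qd_apply (v : V5) : Qd v = qf v := rfl

theorem polar_Qd (u v : V5) : QuadraticMap.polar (⇑Qd) u v = bf u v := by
  show qf (u + v) - qf u - qf v = _
  rw [bf_eq]; ring

/-- the roots of the seven generators -/
def root : Gen → V5
  | .b => ![1, 0, 0, 0, 0]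
  | .c => ![0, 1, 0, 0, 0]
  | .d => ![0, 0, 1, 0, 0]
  | .e => ![0, 0, 0, 1, 0]
  | .h => ![0, 0, 0, 0, 1]
  | .f => ![1, 2, 0, 1, 0]
  | .i => ![1, 2, 0, 0, 1]
  | _ => 0

/-- the vector of a list -/
def lv5 (l : List ℕ) : V5 := fun k => ((l.getD k 0 : ℕ) : ZMod 3)

/-- the basis vectors -/
def e5 (j : Fin 5) : V5 := Pi.single j 1

theorem v5_eq (v : V5) : v = (v 0).val • e5 0 + ((v 1).val • e5 1 + ((v 2).val • e5 2 + ((v 3).val • e5 3 +
    (v 4).val • e5 4))) := by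
  funext k
  fin_cases k <;> simp [e5] <;> exact (ZMod.cast_id 3 _).symm

theorem fin5_mem (j : Fin 5) : (j : ℕ) ∈ r5 := by revert j; decide

theorem eqL_spec {u v : List Gen} {l : List ℕ} (h : eqL u v l = true) :
    ∀ p ∈ l, ptWord (nw u) p = ptWord (nw v) p := by
  induction l with
  | nil => intro p hp; exact absurd hp (by simp)
  | cons q l ih =>
    have h' : and (Nat.beq (ptWord (nw u) q) (ptWord (nw v) q)) (eqL u v l) = true := h
    rw [Bool.and_eq_true] at h'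
    intro p hp
    rcases List.mem_cons.1 hp with rfl | hp
    · exact Nat.eq_of_beq_eq_true h'.1
    · exact ih h'.2 p hp

namespace Model

variable {G : Type*} [Group G] {D : Set G} (m : Model G D)

theorem eq_of_eqB {u v : List Gen} (h : eqB u v = true) : m.wd u = m.wd v := by
  have h1 := eqL_spec h
  have h2 : (m.wd v)⁻¹ * m.wd u ∈ stabL m.φ [92, 88, 43, 40, 16, 2, 0] := by
    intro p hp
    rw [map_mul, Equiv.Perm.mul_apply, map_inv, Equiv.Perm.inv_eq_iff_eq, φ_wd_apply, φ_wd_apply]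
    exact h1 p hp
  have h3 := m.eq_one_of_card_le m.card_stab_seven h2
  rw [inv_mul_eq_one] at h3
  exact h3.symm

/-- the basis of `A` -/
noncomputable def x (j : ℕ) : G := m.wd (xw j)

theorem x_cube (j : Fin 5) : m.x j * m.x j * m.x j = 1 := by
  have h := chkX3
  rw [List.all_eq_true] at h
  have h1 := h j (fin5_mem j)
  have h2 := m.eq_of_eqB h1
  rw [wd_append, wd_append, wd_nil, ← mul_assoc] at h2
  exact h2

theorem x_comm (i j : Fin 5) : Commute (m.x i) (m.x j) := by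
  have key : ∀ i j : Fin 5, (i : ℕ) < j → Commute (m.x i) (m.x j) := by
    intro i j hij
    have h := chkXC
    rw [List.all_eq_true] at h
    have h1 := h i (fin5_mem i)
    rw [List.all_eq_true] at h1
    have h2 := h1 j (fin5_mem j)
    rw [Bool.or_eq_true] at h2
    rcases h2 with h2 | h2
    · exact absurd (Nat.le_of_ble_eq_true h2) (not_le.2 hij)
    · have h3 := m.eq_of_eqB h2
      rw [wd_append, wd_append] at h3
      exact h3
  rcases lt_trichotomy (i : ℕ) j with h | h | h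
  · exact key i j h
  · have : i = j := Fin.ext h
    subst this
    exact Commute.refl _
  · exact (key j i h).symm

theorem pow_add' {y : G} (h : y * y * y = 1) (a b : ZMod 3) : y ^ (a + b).val = y ^ a.val * y ^ b.val := by
  have h3 : y ^ 3 = 1 := by rw [pow_succ, pow_two]; exact h
  rw [ZMod.val_add, ← pow_add, ← pow_eq_pow_mod _ h3]

/-- The elements of `A`. -/
noncomputable def κ (v : V5) : G :=
  m.x 0 ^ (v 0).val * (m.x 1 ^ (v 1).val * (m.x 2 ^ (v 2).val * (m.x 3 ^ (v 3).val * m.x 4 ^ (v 4).val)))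

theorem κ_zero : m.κ 0 = 1 := by simp [κ]

theorem κ_add (u v : V5) : m.κ (u + v) = m.κ u * m.κ v := by
  have c10 : ∀ a b : ℕ, Commute (m.x 1 ^ a) (m.x 0 ^ b) := fun a b => (m.x_comm 1 0).pow_pow a b
  have c20 : ∀ a b : ℕ, Commute (m.x 2 ^ a) (m.x 0 ^ b) := fun a b => (m.x_comm 2 0).pow_pow a b
  have c21 : ∀ a b : ℕ, Commute (m.x 2 ^ a) (m.x 1 ^ b) := fun a b => (m.x_comm 2 1).pow_pow a b
  have c30 : ∀ a b : ℕ, Commute (m.x 3 ^ a) (m.x 0 ^ b) := fun a b => (m.x_comm 3 0).pow_pow a b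
  have c31 : ∀ a b : ℕ, Commute (m.x 3 ^ a) (m.x 1 ^ b) := fun a b => (m.x_comm 3 1).pow_pow a b
  have c32 : ∀ a b : ℕ, Commute (m.x 3 ^ a) (m.x 2 ^ b) := fun a b => (m.x_comm 3 2).pow_pow a b
  have c40 : ∀ a b : ℕ, Commute (m.x 4 ^ a) (m.x 0 ^ b) := fun a b => (m.x_comm 4 0).pow_pow a b
  have c41 : ∀ a b : ℕ, Commute (m.x 4 ^ a) (m.x 1 ^ b) := fun a b => (m.x_comm 4 1).pow_pow a b
  have c42 : ∀ a b : ℕ, Commute (m.x 4 ^ a) (m.x 2 ^ b) := fun a b => (m.x_comm 4 2).pow_pow a b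
  have c43 : ∀ a b : ℕ, Commute (m.x 4 ^ a) (m.x 3 ^ b) := fun a b => (m.x_comm 4 3).pow_pow a b
  have h0 : m.x 0 * m.x 0 * m.x 0 = 1 := m.x_cube 0
  have h1 : m.x 1 * m.x 1 * m.x 1 = 1 := m.x_cube 1
  have h2 : m.x 2 * m.x 2 * m.x 2 = 1 := m.x_cube 2
  have h3 : m.x 3 * m.x 3 * m.x 3 = 1 := m.x_cube 3
  have h4 : m.x 4 * m.x 4 * m.x 4 = 1 := m.x_cube 4
  unfold κ
  rw [Pi.add_apply, Pi.add_apply, Pi.add_apply, Pi.add_apply, Pi.add_apply, pow_add' h0, pow_add' h1,
    pow_add' h2, pow_add' h3, pow_add' h4]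
  rw [Commute.mul_mul_mul_comm (a := m.x 0 ^ (u 0).val) (c := m.x 0 ^ (v 0).val)
    ((((c10 _ _).mul_left ((c20 _ _).mul_left ((c30 _ _).mul_left (c40 _ _)))))),
    Commute.mul_mul_mul_comm (a := m.x 1 ^ (u 1).val) (c := m.x 1 ^ (v 1).val)
      ((c21 _ _).mul_left ((c31 _ _).mul_left (c41 _ _))),
    Commute.mul_mul_mul_comm (a := m.x 2 ^ (u 2).val) (c := m.x 2 ^ (v 2).val)
      ((c32 _ _).mul_left (c42 _ _)),
    Commute.mul_mul_mul_comm (a := m.x 3 ^ (u 3).val) (c := m.x 3 ^ (v 3).val) (c43 _ _)]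

/-- The homomorphism onto `A`. -/
noncomputable def κh : Multiplicative V5 →* G where
  toFun v := m.κ (Multiplicative.toAdd v)
  map_one' := m.κ_zero
  map_mul' := fun _ _ => m.κ_add _ _

theorem κ_neg (v : V5) : m.κ (-v) = (m.κ v)⁻¹ := by
  rw [eq_inv_iff_mul_eq_one, ← κ_add, neg_add_cancel, κ_zero]

theorem κ_nsmul (n : ℕ) (v : V5) : m.κ (n • v) = m.κ v ^ n := by
  induction n with
  | zero => rw [zero_smul, κ_zero, pow_zero]
  | succ n ih => rw [succ_nsmul, κ_add, ih, pow_succ]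

theorem κ_comm (u v : V5) : m.κ u * m.κ v = m.κ v * m.κ u := by
  rw [← κ_add, ← κ_add, add_comm]

theorem κ_e5 (j : Fin 5) : m.κ (e5 j) = m.x j := by
  fin_cases j <;> simp [κ, e5, ZMod.val_one]

theorem wd_rep (n : ℕ) (w : List Gen) : m.wd (rep n w) = m.wd w ^ n := by
  induction n with
  | zero => rw [pow_zero]; exact m.wd_nil
  | succ n ih =>
    have h : rep (n + 1) w = w ++ rep n w := rfl
    rw [h, wd_append, ih, pow_succ']

theorem κ_word (l : List ℕ) : m.wd (kwl l) = m.κ (lv5 l) := by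
  have c3 : ∀ (j : Fin 5) (n : ℕ), m.x j ^ ((n : ZMod 3)).val = m.x j ^ n := by
    intro j n
    have h3 : m.x j ^ 3 = 1 := by rw [pow_succ, pow_two]; exact m.x_cube j
    rw [ZMod.val_natCast, ← pow_eq_pow_mod _ h3]
  unfold kwl κ lv5
  rw [wd_append, wd_append, wd_append, wd_append, wd_rep, wd_rep, wd_rep, wd_rep, wd_rep]
  have h0 := c3 0 (l.getD 0 0)
  have h1 := c3 1 (l.getD 1 0)
  have h2 := c3 2 (l.getD 2 0)
  have h3 := c3 3 (l.getD 3 0)
  have h4 := c3 4 (l.getD 4 0)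
  simp only [Fin.val_zero, Fin.val_one, Fin.val_two] at h0 h1 h2 h3 h4 ⊢
  rw [h0, h1, h2]
  rw [show ((3 : Fin 5) : ℕ) = 3 from rfl, show ((4 : Fin 5) : ℕ) = 4 from rfl] at *
  rw [h3, h4]
  rfl

/-- Two additive maps which agree on the basis are equal. -/
theorem add_ext {f g : V5 → G} (hf : ∀ u v, f (u + v) = f u * f v) (hg : ∀ u v, g (u + v) = g u * g v)
    (h : ∀ j, f (e5 j) = g (e5 j)) (v : V5) : f v = g v := by
  have f0 : ∀ f : V5 → G, (∀ u v, f (u + v) = f u * f v) → f 0 = 1 := by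
    intro f hf
    have := hf 0 0
    rw [add_zero] at this
    exact mul_eq_left.1 this.symm
  have fn : ∀ f : V5 → G, (∀ u v, f (u + v) = f u * f v) → ∀ (n : ℕ) (u : V5), f (n • u) = f u ^ n := by
    intro f hf n u
    induction n with
    | zero => rw [zero_smul, f0 f hf, pow_zero]
    | succ n ih => rw [succ_nsmul, hf, ih, pow_succ]
  rw [v5_eq v]
  simp only [hf, hg, fn f hf, fn g hg, h]

/-- `n` acts on `A` by the matrix `U`. -/
def Act (n : G) (U : Matrix (Fin 5) (Fin 5) (ZMod 3)) : Prop := ∀ v : V5, n * m.κ v * n⁻¹ = m.κ (U *ᵥ v)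

theorem act_one : m.Act 1 1 := by
  intro v; rw [one_mul, inv_one, mul_one, Matrix.one_mulVec]

theorem act_mul {n k : G} {U W : Matrix (Fin 5) (Fin 5) (ZMod 3)} (h : m.Act n U) (h' : m.Act k W) :
    m.Act (n * k) (U * W) := by
  intro v
  have e : n * k * m.κ v * (n * k)⁻¹ = n * (k * m.κ v * k⁻¹) * n⁻¹ := by group
  rw [e, h', h, Matrix.mulVec_mulVec]

theorem act_κ (u : V5) : m.Act (m.κ u) 1 := by
  intro v
  rw [m.κ_comm, mul_inv_cancel_right, Matrix.one_mulVec]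

theorem act_gen {g : Gen} (hg : g ∈ [Gen.b, .c, .d, .e, .f, .h, .i]) :
    m.Act (m.wd [g]) (Cfsg.reflectionMatrix (⇑Qd) (root g)) := by
  have h1 : ∀ g ∈ [Gen.b, .c, .d, .e, .f, .h, .i],
      (r5.all fun j => eqB (g :: (xw j ++ [g])) (kwl ((im g).getD j []))) = true := by
    intro g hg
    simp only [List.mem_cons, List.not_mem_nil, or_false] at hg
    rcases hg with rfl | rfl | rfl | rfl | rfl | rfl | rfl
    · exact chkAct_b
    · exact chkAct_c
    · exact chkAct_d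
    · exact chkAct_e
    · exact chkAct_f
    · exact chkAct_h
    · exact chkAct_i
  have h2 : ∀ g ∈ [Gen.b, .c, .d, .e, .f, .h, .i], ∀ j : Fin 5,
      lv5 ((im g).getD j []) = e5 j - (bf (root g) (e5 j)) • root g := by decide
  have h0 : ∀ g ∈ [Gen.b, .c, .d, .e, .f, .h, .i], qf (root g) = 1 := by decide
  intro v
  refine add_ext (f := fun v => m.wd [g] * m.κ v * (m.wd [g])⁻¹)
    (g := fun v => m.κ (Cfsg.reflectionMatrix (⇑Qd) (root g) *ᵥ v)) ?_ ?_ ?_ v
  · intro u v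
    simp only [κ_add]
    group
  · intro u v
    simp only [Matrix.mulVec_add, κ_add]
  · intro j
    have h3 := h1 g hg
    rw [List.all_eq_true] at h3
    have h4 := m.eq_of_eqB (h3 j (fin5_mem j))
    rw [κ_word, h2 g hg j, m.wd_cons g, wd_append] at h4
    rw [κ_e5, Cfsg.Agent.ClassicalGeometry.Reflection.reflectionMatrix_mulVec, polar_Qd]
    rw [Qd_apply, h0 g hg, inv_one, one_mul, ← h4, ← wd_reverse, mul_assoc]
    rfl

end Model

end Cfsg.Agent.H834
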