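import Cfsg.Agent.H834.AGrp

/-!
# The regular orbit of `A` and the three classes of elements of `A` (helper834)
-/

set_option autoImplicit false
set_option maxRecDepth 100000
set_option exponentiation.threshold 5000
set_option linter.constructorNameAsVariable false

namespace Cfsg.Agent.H834

open Cfsg.Spor Cfsg.Spor.Fi22 Cfsg.Agent.Lib.PermNet Cfsg.Agent.Lib.PermNetOrbit Cfsg.Agent.Lib.PermNetFix
open Cfsg.Agent.Fischer Cfsg.Agent.Fischer.Fi22PtsRep
open Cfsg.Agent.Fischer.Fi22Order (nws nws_ok)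
open AC Matrix

/-- the representatives of norm `1`, `2`, `0` -/
def w1 : V5 := ![1, 0, 0, 0, 0]
def w2 : V5 := ![1, 0, 0, 1, 0]
def w0 : V5 := ![1, 0, 0, 1, 1]

theorem lv_w1 : lv5 [1, 0, 0, 0, 0] = w1 := by decide
theorem lv_w2 : lv5 [1, 0, 0, 1, 0] = w2 := by decide
theorem lv_w0 : lv5 [1, 0, 0, 1, 1] = w0 := by decide

theorem w1_eq : w1 = e5 0 := by decide

theorem qf_w1 : qf w1 = 1 := by decide
theorem qf_w2 : qf w2 = 2 := by decide
theorem qf_w0 : qf w0 = 0 := by decide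

/-- The matrix of an element of the reflection group. -/
def mt (u : Cfsg.reflectionSubgroup (⇑Qd) 1) : Matrix (Fin 5) (Fin 5) (ZMod 3) :=
  (((u : Cfsg.isometryGroup (ZMod 3) (⇑Qd)) : Matrix.GeneralLinearGroup (Fin 5) (ZMod 3)) :
    Matrix (Fin 5) (Fin 5) (ZMod 3))

theorem mt_mul (u v : Cfsg.reflectionSubgroup (⇑Qd) 1) : mt (u * v) = mt u * mt v := rfl

theorem mt_one : mt 1 = 1 := rfl

theorem mt_injective : Function.Injective mt := fun _ _ h => Subtype.ext (Subtype.ext (Units.ext h))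

theorem mt_isometry (u : Cfsg.reflectionSubgroup (⇑Qd) 1) (v : V5) : qf (mt u *ᵥ v) = qf v :=
  (Cfsg.Agent.ClassicalGeometry.Reflection.mem_isometryGroup_iff _ _).1 (u : Cfsg.isometryGroup (ZMod 3) (⇑Qd)).2 v

namespace Model

variable {G : Type*} [Group G] {D : Set G} (m : Model G D)

/-- The elementary abelian subgroup of order `3^5`. -/
noncomputable def A : Subgroup G := m.κh.range

theorem mem_A {g : G} : g ∈ m.A ↔ ∃ v, g = m.κ v := by
  constructor
  · rintro ⟨v, rfl⟩; exact ⟨Multiplicative.toAdd v, rfl⟩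
  · rintro ⟨v, rfl⟩; exact ⟨Multiplicative.ofAdd v, rfl⟩

theorem κ_mem (v : V5) : m.κ v ∈ m.A := m.mem_A.2 ⟨v, rfl⟩

theorem x_mem (j : Fin 5) : m.x j ∈ m.A := by rw [← κ_e5]; exact m.κ_mem _

theorem xws_mem : ∀ w ∈ xws, m.wd w ∈ m.A := by
  intro w hw
  simp only [xws, List.mem_cons, List.not_mem_nil, or_false] at hw
  rcases hw with rfl | rfl | rfl | rfl | rfl
  · exact m.x_mem 0
  · exact m.x_mem 1
  · exact m.x_mem 2
  · exact m.x_mem 3
  · exact m.x_mem 4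

theorem card_V5 : Nat.card V5 = 243 := by simp

theorem card_A_le : Nat.card m.A ≤ 243 := by
  rw [← card_V5]
  exact Nat.card_le_card_of_surjective (fun v : V5 => (⟨m.κ v, m.κ_mem v⟩ : m.A)) (by
    rintro ⟨g, hg⟩
    obtain ⟨v, rfl⟩ := m.mem_A.1 hg
    exact ⟨v, rfl⟩)

theorem stab_A : Nat.card (stabL (m.φ.comp m.A.subtype) [0]) = 1 ∧ Nat.card m.A = 243 := by
  have := m.finite
  have h1 := m.lv_le m.A m.xws_mem lvA
  have h2 := m.card_A_le
  have h3 := m.card_stabL_nil_sub m.A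
  have h4 : 0 < Nat.card (stabL (m.φ.comp m.A.subtype) [0]) := Nat.card_pos
  omega

theorem card_A : Nat.card m.A = 243 := m.stab_A.2

theorem A_regular {a : G} (ha : a ∈ m.A) (h : m.φ a 0 = 0) : a = 1 := by
  have := m.finite
  have h1 := (Subgroup.card_eq_one).1 m.stab_A.1
  have h2 : (⟨a, ha⟩ : m.A) ∈ stabL (m.φ.comp m.A.subtype) [0] := by
    intro q hq
    simp only [List.mem_cons, List.not_mem_nil, or_false] at hq
    subst hq
    exact h
  rw [h1, Subgroup.mem_bot] at h2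
  exact congrArg Subtype.val h2

theorem κ_injective : Function.Injective m.κ := by
  have := m.finite
  have h1 : Function.Surjective (fun v : V5 => (⟨m.κ v, m.κ_mem v⟩ : m.A)) := by
    rintro ⟨g, hg⟩
    obtain ⟨v, rfl⟩ := m.mem_A.1 hg
    exact ⟨v, rfl⟩
  have h2 : Function.Bijective (fun v : V5 => (⟨m.κ v, m.κ_mem v⟩ : m.A)) :=
    h1.bijective_of_nat_card_le (by rw [card_V5, m.card_A])
  intro u v huv
  exact h2.1 (Subtype.ext huv)

/-- The point of a vector. -/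
noncomputable def pv (v : V5) : ℕ := m.φ (m.κ v) 0

theorem eq_of_pt {a b : G} (ha : a ∈ m.A) (hb : b ∈ m.A) (h : m.φ a 0 = m.φ b 0) : a = b := by
  have h1 : m.φ (b⁻¹ * a) 0 = 0 := by
    rw [map_mul, Equiv.Perm.mul_apply, map_inv, Equiv.Perm.inv_eq_iff_eq, h]
  have h2 := m.A_regular (mul_mem (inv_mem hb) ha) h1
  rw [inv_mul_eq_one] at h2
  exact h2.symm

theorem pv_injective : Function.Injective m.pv := fun _ _ h =>
  m.κ_injective (m.eq_of_pt (m.κ_mem _) (m.κ_mem _) h)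

theorem pv_surj {p : ℕ} (hp : O1.testBit p = true) : ∃ v, m.pv v = p := by
  obtain ⟨g, hg, -, h⟩ := m.reach m.xws_mem rcA hp
  obtain ⟨v, rfl⟩ := m.mem_A.1 hg
  exact ⟨v, h⟩

theorem range_pv : Set.range m.pv = {p : ℕ | O1.testBit p = true} := by
  have h1 : {p : ℕ | O1.testBit p = true} ⊆ Set.range m.pv := fun p hp => m.pv_surj hp
  have h2 : (Set.range m.pv).ncard = 243 := by
    rw [← Set.image_univ, Set.ncard_image_of_injective _ m.pv_injective, Set.ncard_univ, card_V5]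
  have h3 : {p : ℕ | O1.testBit p = true}.ncard = 243 := ncard_testBit O1lt O1pc
  symm
  exact Set.eq_of_subset_of_ncard_le h1 (by rw [h2, h3]) (Set.toFinite _)

theorem pv_mem (v : V5) : O1.testBit (m.pv v) = true := by
  have h : m.pv v ∈ Set.range m.pv := ⟨v, rfl⟩
  rw [m.range_pv] at h
  exact h

theorem pv_zero : m.pv 0 = 0 := by rw [pv, κ_zero, map_one, Equiv.Perm.one_apply]

/-- The group `3^5 : W(E6)`. -/
noncomputable def M : Subgroup G := Subgroup.closure {y | ∃ w ∈ mw, y = m.wd w}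

/-- The complement. -/
noncomputable def W : Subgroup G := Subgroup.closure {y | ∃ w ∈ ww, y = m.wd w}

theorem mw_mem : ∀ w ∈ mw, m.wd w ∈ m.M := fun w hw => Subgroup.subset_closure ⟨w, hw, rfl⟩

theorem ww_mem : ∀ w ∈ ww, m.wd w ∈ m.W := fun w hw => Subgroup.subset_closure ⟨w, hw, rfl⟩

theorem W_le_M : m.W ≤ m.M := by
  unfold W M
  apply Subgroup.closure_mono
  rintro y ⟨w, hw, rfl⟩
  refine ⟨w, ?_, rfl⟩
  revert w
  decide

theorem mw_cases {w : List Gen} (hw : w ∈ mw) : ∃ g ∈ [Gen.b, .c, .d, .e, .f, .h, .i], w = [g] := by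
  simp only [mw, List.mem_cons, List.not_mem_nil, or_false] at hw
  rcases hw with rfl | rfl | rfl | rfl | rfl | rfl | rfl <;> simp

/-- The elements of `M` act on `A` by products of reflections. -/
theorem M_act {g : G} (hg : g ∈ m.M) : ∃ u : Cfsg.reflectionSubgroup (⇑Qd) 1, m.Act g (mt u) := by
  unfold M at hg
  induction hg using Subgroup.closure_induction with
  | mem y hy =>
    obtain ⟨w, hw, rfl⟩ := hy
    obtain ⟨g, hg, rfl⟩ := mw_cases hw
    have h0 : ∀ g ∈ [Gen.b, .c, .d, .e, .f, .h, .i], qf (root g) = 1 := by decide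
    have h1 : Qd (root g) = 1 := h0 g hg
    have h2 : Qd (root g) ≠ 0 := by rw [h1]; decide
    refine ⟨⟨Cfsg.Agent.ClassicalGeometry.Reflection.reflIso Qd (root g) h2, ?_⟩, ?_⟩
    · exact Subgroup.subset_closure ⟨root g, h1, rfl⟩
    · exact m.act_gen hg
  | one => exact ⟨1, m.act_one⟩
  | mul x y hx hy ihx ihy =>
    obtain ⟨u, hu⟩ := ihx
    obtain ⟨v, hv⟩ := ihy
    exact ⟨u * v, m.act_mul hu hv⟩
  | inv x hx ihx =>
    obtain ⟨u, hu⟩ := ihx
    refine ⟨u⁻¹, ?_⟩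
    intro v
    have h1 := hu (mt u⁻¹ *ᵥ v)
    have h2 : mt u * mt u⁻¹ = 1 := by rw [← mt_mul, mul_inv_cancel, mt_one]
    rw [Matrix.mulVec_mulVec, h2, Matrix.one_mulVec] at h1
    rw [← h1]
    group

theorem M_norm {g a : G} (hg : g ∈ m.M) (ha : a ∈ m.A) : g * a * g⁻¹ ∈ m.A := by
  obtain ⟨u, hu⟩ := m.M_act hg
  obtain ⟨v, rfl⟩ := m.mem_A.1 ha
  rw [hu]
  exact m.κ_mem _

theorem M_le_N : m.M ≤ Subgroup.normalizer (m.A : Set G) := by
  intro g hg
  rw [Subgroup.mem_normalizer_iff]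
  intro a
  constructor
  · intro ha; exact m.M_norm hg ha
  · intro ha
    have h1 := m.M_norm (inv_mem hg) ha
    have e : g⁻¹ * (g * a * g⁻¹) * g⁻¹⁻¹ = a := by group
    rwa [e] at h1

theorem W_fix {r : G} (hr : r ∈ m.W) : m.φ r 0 = 0 := by
  unfold W at hr
  induction hr using Subgroup.closure_induction with
  | mem y hy =>
    obtain ⟨w, hw, rfl⟩ := hy
    have h1 : fixAllB (nws ww) [0] = true := by
      have h := rcC1
      unfold rcB at h
      rw [Bool.and_eq_true] at h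
      exact h.1
    have h2 := fixAllB_spec (nws_ok ww) h1 0 (by simp) (nw w) (List.mem_map_of_mem hw)
    rw [φ_wd]
    exact h2
  | one => rw [map_one]; rfl
  | mul x y hx hy ihx ihy => rw [map_mul, Equiv.Perm.mul_apply, ihy, ihx]
  | inv x hx ihx => rw [map_inv, Equiv.Perm.inv_eq_iff_eq, ihx]

/-- conjugation by an element of the complement and the action on points -/
theorem conj_pt {r : G} (hr : r ∈ m.W) (a : G) : m.φ (r * a * r⁻¹) 0 = m.φ r (m.φ a 0) := by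
  rw [map_mul, map_mul, Equiv.Perm.mul_apply, Equiv.Perm.mul_apply, m.W_fix (inv_mem hr)]

/-- **The nonzero vectors form three orbits.** -/
theorem trich {v : V5} (hv : v ≠ 0) :
    ∃ r ∈ m.W, r * m.κ w1 * r⁻¹ = m.κ v ∨ r * m.κ w2 * r⁻¹ = m.κ v ∨ r * m.κ w0 * r⁻¹ = m.κ v := by
  have h1 := m.pv_mem v
  have h0 : m.pv v ≠ 0 := by
    intro h
    apply hv
    apply m.pv_injective
    rw [h, pv_zero]
  have h2 : (1 ||| (C1 ||| (C2 ||| C0))) = O1 := Nat.eq_of_beq_eq_true chkO1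
  rw [← h2, Nat.testBit_or, Nat.testBit_or, Nat.testBit_or, Bool.or_eq_true, Bool.or_eq_true, Bool.or_eq_true] at h1
  have key : ∀ (l : List ℕ) (w : V5) (p r C : ℕ), lv5 l = w → Nat.beq (ptWord (nw (kwl l)) 0) p = true →
      rcB [0] ww p r C = true → C.testBit (m.pv v) = true → ∃ r ∈ m.W, r * m.κ w * r⁻¹ = m.κ v := by
    intro l w p r C hw hp hrc hC
    obtain ⟨g, hg, -, h⟩ := m.reach m.ww_mem hrc hC
    refine ⟨g, hg, ?_⟩
    apply m.eq_of_pt (m.M_norm (m.W_le_M hg) (m.κ_mem _)) (m.κ_mem _)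
    rw [m.conj_pt hg, ← hw, ← m.κ_word, φ_wd_apply, Nat.eq_of_beq_eq_true hp, h]
    rfl
  rcases h1 with h1 | h1 | h1 | h1
  · exfalso
    apply h0
    have h3 : Nat.testBit 1 (m.pv v) = decide (m.pv v = 0) := by
      have := Nat.testBit_two_pow (n := 0) (m := m.pv v)
      rw [pow_zero] at this
      rw [this]
      exact decide_eq_decide.2 eq_comm
    rw [h3] at h1
    exact of_decide_eq_true h1
  · obtain ⟨r, hr, h⟩ := key _ _ _ _ _ lv_w1 chkP1 rcC1 h1
    exact ⟨r, hr, Or.inl h⟩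
  · obtain ⟨r, hr, h⟩ := key _ _ _ _ _ lv_w2 chkP2 rcC2 h1
    exact ⟨r, hr, Or.inr (Or.inl h)⟩
  · obtain ⟨r, hr, h⟩ := key _ _ _ _ _ lv_w0 chkP0 rcC0 h1
    exact ⟨r, hr, Or.inr (Or.inr h)⟩

/-! ### The number of fixed points -/

/-- The number of fixed points. -/
noncomputable def nfix (g : G) : ℕ := {p : ℕ | p < 3510 ∧ m.φ g p = p}.ncard

theorem nfix_conj (g x : G) : m.nfix (g * x * g⁻¹) = m.nfix x := by
  unfold nfix
  have h1 : {p : ℕ | p < 3510 ∧ m.φ (g * x * g⁻¹) p = p} = (m.φ g) '' {p : ℕ | p < 3510 ∧ m.φ x p = p} := by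
    ext p
    constructor
    · rintro ⟨hp, h⟩
      refine ⟨m.φ g⁻¹ p, ⟨m.φ_lt _ hp, ?_⟩, ?_⟩
      · rw [map_mul, map_mul, Equiv.Perm.mul_apply, Equiv.Perm.mul_apply] at h
        rw [map_inv, Equiv.Perm.eq_inv_iff_eq, ← map_inv]
        exact h
      · rw [map_inv, ← Equiv.Perm.mul_apply, mul_inv_cancel, Equiv.Perm.one_apply]
    · rintro ⟨q, ⟨hq, h⟩, rfl⟩
      refine ⟨m.φ_lt _ hq, ?_⟩
      rw [map_mul, map_mul, Equiv.Perm.mul_apply, Equiv.Perm.mul_apply, map_inv, ← Equiv.Perm.mul_apply (m.φ g)⁻¹,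
        inv_mul_cancel, Equiv.Perm.one_apply, h]
  rw [h1, Set.ncard_image_of_injective _ (m.φ g).injective]

theorem nfix_inv (x : G) : m.nfix x⁻¹ = m.nfix x := by
  unfold nfix
  congr 1
  ext p
  constructor
  · rintro ⟨hp, h⟩
    refine ⟨hp, ?_⟩
    rw [map_inv, Equiv.Perm.inv_eq_iff_eq] at h
    exact h.symm
  · rintro ⟨hp, h⟩
    refine ⟨hp, ?_⟩
    rw [map_inv, Equiv.Perm.inv_eq_iff_eq]
    exact h.symm

theorem nfix_word {w : List Gen} {n : ℕ} (h : Nat.beq (pc 12 (fixm w)) n = true)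
    (h' : Nat.beq (Nat.shiftRight (fixm w) (Nat.pow 2 12)) 0 = true) : m.nfix (m.wd w) = n := by
  have h1 := ncard_testBit h' h
  unfold nfix
  rw [← h1]
  congr 1
  ext p
  constructor
  · rintro ⟨hp, h⟩
    show (fixm w).testBit p = true
    rw [m.testBit_fixm hp]; exact h
  · intro h
    have h : (fixm w).testBit p = true := h
    have hp := ((H834.testBit_fixm w p).1 h).1
    exact ⟨hp, (m.testBit_fixm hp).1 h⟩

theorem nfix_w1 : m.nfix (m.κ w1) = 126 := by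
  rw [← lv_w1, ← κ_word]; exact m.nfix_word fxC1 fxC1lt

theorem nfix_w2 : m.nfix (m.κ w2) = 36 := by
  rw [← lv_w2, ← κ_word]; exact m.nfix_word fxC2 fxC2lt

theorem nfix_w0 : m.nfix (m.κ w0) = 27 := by
  rw [← lv_w0, ← κ_word]; exact m.nfix_word fxC0 fxC0lt

/-- **Fusion in `A`.** -/
theorem fusion {a : G} (ha : a ∈ m.A) {g : G} (hg : g * a * g⁻¹ ∈ m.A) :
    ∃ n ∈ m.M, n * a * n⁻¹ = g * a * g⁻¹ := by
  obtain ⟨u, rfl⟩ := m.mem_A.1 ha
  obtain ⟨v, hv⟩ := m.mem_A.1 hg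
  by_cases hu : u = 0
  · subst hu
    exact ⟨1, one_mem _, by rw [κ_zero]; group⟩
  have hv0 : v ≠ 0 := by
    intro h
    rw [h, κ_zero, mul_inv_eq_one, mul_eq_left] at hv
    rw [← m.κ_zero] at hv
    exact hu (m.κ_injective hv)
  have hn : m.nfix (m.κ u) = m.nfix (m.κ v) := by rw [← hv, nfix_conj]
  obtain ⟨r, hr, h⟩ := m.trich hu
  obtain ⟨s, hs, h'⟩ := m.trich hv0
  refine ⟨s * r⁻¹, mul_mem (m.W_le_M hs) (inv_mem (m.W_le_M hr)), ?_⟩
  rw [hv]
  have h1 := m.nfix_w1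
  have h2 := m.nfix_w2
  have h3 := m.nfix_w0
  rcases h with h | h | h <;> rcases h' with h' | h' | h' <;> rw [← h, ← h', nfix_conj, nfix_conj] at hn
  · rw [← h, ← h']; group
  · omega
  · omega
  · omega
  · rw [← h, ← h']; group
  · omega
  · omega
  · omega
  · rw [← h, ← h']; group

/-- The vectors with `126` fixed points. -/
theorem of_nfix {v : V5} (h : m.nfix (m.κ v) = 126) (hv : v ≠ 0) : ∃ r ∈ m.W, r * m.κ w1 * r⁻¹ = m.κ v := by
  obtain ⟨r, hr, h'⟩ := m.trich hv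
  refine ⟨r, hr, ?_⟩
  have h2 := m.nfix_w2
  have h3 := m.nfix_w0
  rcases h' with h' | h' | h'
  · exact h'
  · rw [← h', nfix_conj] at h; omega
  · rw [← h', nfix_conj] at h; omega

end Model

end Cfsg.Agent.H834
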