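import Cfsg.Agent.H834.ExtNorm

/-!
# The generalized Fitting subgroup of the normalizer is `3^{1+6}` (helper834)
-/

set_option autoImplicit false

open scoped commutatorElement

namespace Cfsg.Agent.H834.Ext

open Subgroup

namespace ZData

variable {G : Type*} [Group G] {D : Set G} (Δ : ZData G D)

theorem mem_center_iff' (x : Δ.E.subgroupOf Δ.N) : x ∈ center (Δ.E.subgroupOf Δ.N) ↔ ((x : Δ.N) : G) ∈ zpowers Δ.z := by
  have hxE : ((x : Δ.N) : G) ∈ Δ.E := mem_subgroupOf.1 x.2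
  rw [mem_center_iff]
  constructor
  · intro h
    apply Δ.mem_z_of_comm hxE
    intro y hy
    have h1 := h ⟨⟨y, Δ.E_le_N hy⟩, mem_subgroupOf.2 hy⟩
    exact (congrArg (fun t : Δ.E.subgroupOf Δ.N => ((t : Δ.N) : G)) h1).symm
  · intro h y
    have hyE : ((y : Δ.N) : G) ∈ Δ.E := mem_subgroupOf.1 y.2
    apply Subtype.ext
    apply Subtype.ext
    show ((y : Δ.N) : G) * ((x : Δ.N) : G) = ((x : Δ.N) : G) * ((y : Δ.N) : G)
    obtain ⟨k, hk⟩ := h
    rw [← hk]
    exact ((show Commute Δ.z ((y : Δ.N) : G) from Δ.z_comm hyE).zpow_left k).eq.symm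

theorem card_EN [Finite G] : Nat.card (Δ.E.subgroupOf Δ.N) = 3 ^ 7 := by
  rw [← Δ.card_E]
  exact Nat.card_congr (subgroupOfEquivOfLe Δ.E_le_N).toEquiv

theorem isExtraspecial_EN [Finite G] : Cfsg.IsExtraspecial 3 (Δ.E.subgroupOf Δ.N) := by
  have h3 : Fact (Nat.Prime 3) := ⟨Nat.prime_three⟩
  have hE : ∀ x : Δ.E.subgroupOf Δ.N, ((x : Δ.N) : G) ∈ Δ.E := fun x => mem_subgroupOf.1 x.2
  apply isExtraspecial_of Δ.isPGroup_EN
  · refine (Nat.card_congr ⟨fun x => ⟨((x : Δ.E.subgroupOf Δ.N) : Δ.N), (Δ.mem_center_iff' _).1 x.2⟩,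
      fun x => ⟨⟨⟨x, Δ.E_le_N ((zpowers_le.2 Δ.z_mem) x.2)⟩, mem_subgroupOf.2 ((zpowers_le.2 Δ.z_mem) x.2)⟩,
        (Δ.mem_center_iff' _).2 x.2⟩, ?_, ?_⟩).trans Δ.card_z
    · intro x; rfl
    · intro x; rfl
  · intro x y
    rw [mem_center_iff']
    have h1 : Δ.τ ⁅(⟨_, hE x⟩ : Δ.E), (⟨_, hE y⟩ : Δ.E)⁆ = 1 := by
      rw [map_commutatorElement, commutatorElement_eq_one_iff_mul_comm, mul_comm]
    exact Δ.ker_mem h1
  · intro x
    rw [mem_center_iff']
    have h1 : Δ.τ ((⟨_, hE x⟩ : Δ.E) ^ 3) = 1 := by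
      rw [τ_eq_one]
      intro i
      rw [pow_succ, pow_two, Δ.vec_mul, Δ.vec_mul]
      generalize Δ.vec ⟨_, hE x⟩ i = a
      revert a
      decide
    exact Δ.ker_mem h1
  · by_contra hne
    push Not at hne
    have h1 : ∀ x : Δ.E.subgroupOf Δ.N, x ∈ center (Δ.E.subgroupOf Δ.N) := by
      intro x
      rw [mem_center_iff]
      intro y
      exact hne y x
    have h2 : Nat.card (Δ.E.subgroupOf Δ.N) ≤ Nat.card (zpowers Δ.z) := by
      apply Nat.card_le_card_of_injective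
        (fun x : Δ.E.subgroupOf Δ.N => (⟨((x : Δ.N) : G), (Δ.mem_center_iff' x).1 (h1 x)⟩ : zpowers Δ.z))
      intro x y hxy
      have hxy' : ((x : Δ.N) : G) = ((y : Δ.N) : G) := congrArg (Subtype.val (p := fun g => g ∈ zpowers Δ.z)) hxy
      exact Subtype.ext (Subtype.ext hxy')
    rw [Δ.card_EN, Δ.card_z] at h2
    norm_num at h2

theorem width [Finite G] : Cfsg.commutingWidth (D ∩ (centralizer ((zpowers Δ.z : Subgroup G) : Set G) : Set G)) = 3 := by
  apply commutingWidth_eq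
  · refine ⟨Set.range fun i => Δ.T i 0, ?_, ?_, ?_⟩
    · rintro _ ⟨i, rfl⟩
      refine ⟨Δ.mem i 0, ?_⟩
      rw [SetLike.mem_coe, mem_centralizer_iff]
      rintro _ ⟨k, rfl⟩
      exact ((show Commute Δ.z (Δ.T i 0) from Δ.zc i 0).zpow_left k).eq
    · rintro _ ⟨i, rfl⟩ _ ⟨j, rfl⟩
      by_cases h : i = j
      · subst h; exact Commute.refl _
      · exact Δ.comm i j h 0 0
    · have hinj : Function.Injective fun i => Δ.T i 0 := fun i j h => (Δ.inj _ _ _ _ h).1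
      rw [← Set.image_univ, Set.ncard_image_of_injective _ hinj, Set.ncard_univ]
      simp
  · intro S hS hc
    have hS' : ∀ x ∈ S, ∃ i a, x = Δ.T i a := by
      intro x hx
      apply Δ.fix x (hS hx).1
      exact mem_centralizer_iff.1 (hS hx).2 _ (mem_zpowers _)
    choose! f g hfg using hS'
    have h1 : Set.InjOn f S := by
      intro x hx y hy hxy
      have h2 : x * y = y * x := hc x hx y hy
      rw [hfg x hx, hfg y hy, ← hxy] at h2
      rw [hfg x hx, hfg y hy, ← hxy, Δ.comm_same h2]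
    calc S.ncard ≤ (Set.univ : Set (Fin 3)).ncard :=
          Set.ncard_le_ncard_of_injOn f (fun x _ => Set.mem_univ _) h1 (Set.toFinite _)
      _ = 3 := by rw [Set.ncard_univ]; simp

theorem main [Finite G] {Z : Subgroup G} (hZ : Z = zpowers Δ.z) :
    Cfsg.IsExtraspecial 3 ↥(Cfsg.generalizedFittingSubgroup ↥(normalizer ((Z : Subgroup G) : Set G))) ∧
    Nat.card ↥(Cfsg.generalizedFittingSubgroup ↥(normalizer ((Z : Subgroup G) : Set G))) = 3 ^ 7 ∧
    Cfsg.commutingWidth (D ∩ (centralizer ((Z : Subgroup G) : Set G) : Set G)) = 3 := by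
  subst hZ
  rw [Δ.gF_eq]
  exact ⟨Δ.isExtraspecial_EN, Δ.card_EN, Δ.width⟩

/-- Every `3`-central subgroup of order `3` is conjugate to `⟨z⟩`. -/
theorem exists_conj [Finite G] {Z : Subgroup G} (hZ : Nat.card Z = 3)
    (hc : ∃ P : Sylow 3 G, Z ≤ (center ↥(P : Subgroup G)).map (P : Subgroup G).subtype) :
    ∃ g : G, Z = zpowers (g * Δ.z * g⁻¹) := by
  have h3 : Fact (Nat.Prime 3) := ⟨Nat.prime_three⟩
  obtain ⟨P, hP⟩ := hc
  obtain ⟨P₀, hP₀⟩ := Δ.isPGroup_E.exists_le_sylow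
  obtain ⟨g, hg⟩ := MulAction.exists_smul_eq G P₀ P
  refine ⟨g, ?_⟩
  -- the conjugates of the members of `Z` commute with `E`
  have h1 : ∀ x ∈ Z, g⁻¹ * x * g ∈ zpowers Δ.z := by
    intro x hx
    obtain ⟨y, hy, hyx⟩ := hP hx
    have hyx' : (y : G) = x := hyx
    have hPmem : ∀ u ∈ P₀, g * u * g⁻¹ ∈ P := by
      intro u hu
      rw [← hg]
      exact ⟨u, hu, rfl⟩
    have hcomm : ∀ u ∈ P₀, g⁻¹ * x * g * u = u * (g⁻¹ * x * g) := by
      intro u hu
      have h2 := mem_center_iff.1 hy ⟨_, hPmem u hu⟩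
      have h4 : g * u * g⁻¹ * x = x * (g * u * g⁻¹) := by
        rw [← hyx']
        exact congrArg Subtype.val h2
      calc g⁻¹ * x * g * u = g⁻¹ * (x * (g * u * g⁻¹)) * g := by group
        _ = g⁻¹ * (g * u * g⁻¹ * x) * g := by rw [h4]
        _ = u * (g⁻¹ * x * g) := by group
    have hN : g⁻¹ * x * g ∈ Δ.N := by
      have h5 := hcomm _ (hP₀ Δ.z_mem)
      have h6 : ∀ v ∈ zpowers Δ.z, (g⁻¹ * x * g) * v * (g⁻¹ * x * g)⁻¹ = v := by
        rintro v ⟨k, rfl⟩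
        rw [mul_inv_eq_iff_eq_mul]
        exact (show Commute (g⁻¹ * x * g) Δ.z from h5).zpow_right k
      rw [mem_normalizer_iff]
      intro v
      constructor
      · intro hv
        rw [h6 v hv]; exact hv
      · intro hv
        have h7 := h6 _ hv
        have h8 : (g⁻¹ * x * g) * v * (g⁻¹ * x * g)⁻¹ = v := by
          have := mul_left_cancel (mul_right_cancel h7)
          exact this
        rwa [h8] at hv
    exact Δ.mem_z_of_comm (Δ.mem_E_of_comm hN fun y hy => hcomm y (hP₀ hy)) fun y hy => hcomm y (hP₀ hy)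
  have h2 : Z ≤ zpowers (g * Δ.z * g⁻¹) := by
    intro x hx
    obtain ⟨k, hk⟩ := h1 x hx
    refine ⟨k, ?_⟩
    show (g * Δ.z * g⁻¹) ^ k = x
    rw [conj_zpow]
    have : Δ.z ^ k = g⁻¹ * x * g := hk
    rw [this]; group
  apply Subgroup.eq_of_le_of_card_ge h2
  rw [hZ, Nat.card_zpowers]
  have h4 : orderOf (g * Δ.z * g⁻¹) ∣ 3 := by
    apply orderOf_dvd_of_pow_eq_one
    rw [conj_pow, pow_succ, pow_two, Δ.z3]
    group
  exact Nat.le_of_dvd (by norm_num) h4

end ZData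

end Cfsg.Agent.H834.Ext
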