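import Cfsg.Agent.H834.ExtSeven

/-!
# The normalizer of the centre of `3^{1+6}` (helper834)
-/

set_option autoImplicit false

open scoped commutatorElement

namespace Cfsg.Agent.H834.Ext

open Subgroup

theorem three_dvd_of {x : V} (hx : x ≠ 0) (a : V) : ∃ k l : ZMod 3, a = (k * x.1 - l * x.2, k * x.2 + l * x.1) := by
  revert x a
  decide

namespace ZData

variable {G : Type*} [Group G] {D : Set G} (Δ : ZData G D)

/-- The normalizer of `⟨z⟩`. -/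
abbrev N : Subgroup G := normalizer ((zpowers Δ.z : Subgroup G) : Set G)

theorem zpowers_eq {g : G} (h : g ∈ zpowers Δ.z) : g = 1 ∨ g = Δ.z ∨ g = Δ.z * Δ.z := by
  obtain ⟨k, rfl⟩ := h
  have h3 : Δ.z ^ (3 : ℤ) = 1 := by
    have : Δ.z ^ (3 : ℤ) = Δ.z * Δ.z * Δ.z := by
      rw [show (3 : ℤ) = 1 + 1 + 1 by norm_num, zpow_add, zpow_add, zpow_one]
    rw [this, Δ.z3]
  have h1 : Δ.z ^ k = Δ.z ^ (k % 3) := by
    conv_lhs => rw [← Int.emod_add_mul_ediv k 3, zpow_add, zpow_mul, h3, one_zpow, mul_one]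
  have h2 : k % 3 = 0 ∨ k % 3 = 1 ∨ k % 3 = 2 := by omega
  show Δ.z ^ k = _ ∨ Δ.z ^ k = _ ∨ Δ.z ^ k = _
  rcases h2 with h2 | h2 | h2 <;> rw [h1, h2]
  · left; simp
  · right; left; simp
  · right; right
    rw [show (2 : ℤ) = 1 + 1 by norm_num, zpow_add, zpow_one]

/-- The elements normalizing `⟨z⟩` permute the transpositions. -/
theorem shape {g : G} (hg : g ∈ Δ.N) (i : Fin 3) (a : V) : ∃ j b, g * Δ.T i a * g⁻¹ = Δ.T j b := by
  apply Δ.fix _ (Δ.conj_mem g _ (Δ.mem i a))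
  have h1 : g⁻¹ * Δ.z * g ∈ zpowers Δ.z := by
    have := (mem_normalizer_iff.1 (inv_mem hg) Δ.z).1 (mem_zpowers _)
    rwa [inv_inv] at this
  obtain ⟨k, hk⟩ := h1
  have h2 : Commute (g⁻¹ * Δ.z * g) (Δ.T i a) := by
    rw [← hk]
    exact (show Commute Δ.z (Δ.T i a) from Δ.zc i a).zpow_left k
  calc Δ.z * (g * Δ.T i a * g⁻¹) = g * ((g⁻¹ * Δ.z * g) * Δ.T i a) * g⁻¹ := by group
    _ = g * (Δ.T i a * (g⁻¹ * Δ.z * g)) * g⁻¹ := by rw [h2.eq]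
    _ = g * Δ.T i a * g⁻¹ * Δ.z := by group

theorem mem_N_of_shape {g : G} (h : ∀ i a, ∃ j b, g * Δ.T i a * g⁻¹ = Δ.T j b)
    (h' : ∀ i a, ∃ j b, g⁻¹ * Δ.T i a * g = Δ.T j b) : g ∈ Δ.N := by
  have key : ∀ g : G, (∀ i a, ∃ j b, g⁻¹ * Δ.T i a * g = Δ.T j b) → ∀ x ∈ zpowers Δ.z, g * x * g⁻¹ ∈ zpowers Δ.z := by
    intro g h' x hx
    apply Δ.zpow_z
    apply Δ.cent
    intro i a
    obtain ⟨j, b, hb⟩ := h' i a
    obtain ⟨k, rfl⟩ := hx
    have h2 : Commute (Δ.z ^ k) (Δ.T j b) := (show Commute Δ.z (Δ.T j b) from Δ.zc j b).zpow_left k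
    rw [← hb] at h2
    calc g * Δ.z ^ k * g⁻¹ * Δ.T i a = g * (Δ.z ^ k * (g⁻¹ * Δ.T i a * g)) * g⁻¹ := by group
      _ = g * ((g⁻¹ * Δ.T i a * g) * Δ.z ^ k) * g⁻¹ := by rw [h2.eq]
      _ = _ := by group
  rw [mem_normalizer_iff]
  intro x
  constructor
  · exact key g h' x
  · intro hx
    have := key g⁻¹ (by simpa using h) _ hx
    have e : g⁻¹ * (g * x * g⁻¹) * g⁻¹⁻¹ = x := by group
    rwa [e] at this

theorem mem_N_of_shape' [Finite G] {g : G} (h : ∀ i a, ∃ j b, g * Δ.T i a * g⁻¹ = Δ.T j b) : g ∈ Δ.N := by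
  have hpow : ∀ n : ℕ, ∀ i a, ∃ j b, g ^ n * Δ.T i a * (g ^ n)⁻¹ = Δ.T j b := by
    intro n
    induction n with
    | zero => intro i a; exact ⟨i, a, by simp⟩
    | succ n ih =>
      intro i a
      obtain ⟨j, b, hb⟩ := h i a
      obtain ⟨k, c, hc⟩ := ih j b
      refine ⟨k, c, ?_⟩
      rw [← hc, ← hb]
      group
  apply Δ.mem_N_of_shape h
  intro i a
  obtain ⟨j, b, hb⟩ := hpow (orderOf g - 1) i a
  refine ⟨j, b, ?_⟩
  have h1 : g ^ (orderOf g - 1) = g⁻¹ := by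
    rw [eq_inv_iff_mul_eq_one, ← pow_succ, Nat.sub_add_cancel (orderOf_pos g), pow_orderOf_eq_one]
  rw [h1, inv_inv] at hb
  exact hb

theorem T_mem_N (i : Fin 3) (a : V) : Δ.T i a ∈ Δ.N := by
  rw [mem_normalizer_iff]
  intro x
  have h2 : ∀ x ∈ zpowers Δ.z, Δ.T i a * x * (Δ.T i a)⁻¹ = x := by
    rintro x ⟨k, rfl⟩
    rw [mul_inv_eq_iff_eq_mul]
    exact ((show Commute Δ.z (Δ.T i a) from Δ.zc i a).zpow_left k).eq.symm
  constructor
  · intro hx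
    rw [h2 x hx]
    exact hx
  · intro hx
    have h3 := h2 _ hx
    have h4 : Δ.T i a * x * (Δ.T i a)⁻¹ = x := by
      have h5 : (Δ.T i a)⁻¹ * (Δ.T i a * (Δ.T i a * x * (Δ.T i a)⁻¹) * (Δ.T i a)⁻¹) * Δ.T i a =
        (Δ.T i a)⁻¹ * (Δ.T i a * x * (Δ.T i a)⁻¹) * Δ.T i a := congrArg (fun y => (Δ.T i a)⁻¹ * y * Δ.T i a) h3
      have h6 : (Δ.T i a)⁻¹ * (Δ.T i a * (Δ.T i a * x * (Δ.T i a)⁻¹) * (Δ.T i a)⁻¹) * Δ.T i a =
        Δ.T i a * x * (Δ.T i a)⁻¹ := by group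
      have h7 : (Δ.T i a)⁻¹ * (Δ.T i a * x * (Δ.T i a)⁻¹) * Δ.T i a = x := by group
      rw [h6, h7] at h5
      exact h5
    rwa [h4] at hx

theorem s_mem_N [Finite G] (i : Fin 3) : Δ.s i ∈ Δ.N := Δ.mem_N_of_shape' (Δ.sm i)

theorem E_le_N : Δ.E ≤ Δ.N := by
  intro g hg
  apply Δ.mem_N_of_shape
  · intro i a
    obtain ⟨v, hv⟩ := hg i
    exact ⟨i, _, hv a⟩
  · intro i a
    obtain ⟨v, hv⟩ := Δ.E.inv_mem hg i
    refine ⟨i, a + v, ?_⟩
    have := hv a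
    rwa [inv_inv] at this

theorem aff {g : G} (hg : g ∈ Δ.N) (i : Fin 3) : ∃ j, ∃ f : V → V, (∀ a, g * Δ.T i a * g⁻¹ = Δ.T j (f a)) ∧
    (∀ a b, f (a + b) = f a + f b - f 0) ∧ Function.Injective f := by
  obtain ⟨j, b, hb⟩ := Δ.shape hg i 0
  have h1 : ∀ a, ∃ c, g * Δ.T i a * g⁻¹ = Δ.T j c := by
    intro a
    obtain ⟨k, c, hc⟩ := Δ.shape hg i a
    by_cases hkj : k = j
    · subst hkj; exact ⟨c, hc⟩
    · have h2 := Δ.comm k j hkj c b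
      rw [← hc, ← hb, Model.conj_comm_iff] at h2
      have h3 := Δ.comm_same h2
      subst h3
      exact ⟨b, hb⟩
  choose f hf using h1
  have hneg : ∀ a b, f (-(a + b)) = -(f a + f b) := by
    intro a b
    have h2 := Δ.refl j (f a) (f b)
    rw [← hf, ← hf] at h2
    have h3 : g * Δ.T i a * g⁻¹ * (g * Δ.T i b * g⁻¹) * (g * Δ.T i a * g⁻¹) =
      g * (Δ.T i a * Δ.T i b * Δ.T i a) * g⁻¹ := by group
    rw [h3, Δ.refl, hf] at h2
    exact (Δ.inj _ _ _ _ h2).2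
  refine ⟨j, f, hf, ?_, ?_⟩
  · intro a b
    have h2 := hneg a b
    have h3 := hneg (a + b) 0
    rw [add_zero, h2] at h3
    have h4 := neg_injective h3
    rw [h4]
    abel
  · intro a b hab
    have h2 : g * Δ.T i a * g⁻¹ = g * Δ.T i b * g⁻¹ := by rw [hf, hf, hab]
    exact (Δ.inj _ _ _ _ (mul_left_cancel (mul_right_cancel h2))).2

theorem E_conj {g x : G} (hg : g ∈ Δ.N) (hx : x ∈ Δ.E) : g * x * g⁻¹ ∈ Δ.E := by
  intro j
  obtain ⟨i, f, hf, hadd, hinj⟩ := Δ.aff (inv_mem hg) j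
  rw [inv_inv] at hf
  obtain ⟨v, hv⟩ := hx i
  obtain ⟨u, hu⟩ := (Finite.injective_iff_surjective.1 hinj) (v + f 0)
  refine ⟨u, fun b => ?_⟩
  have h1 : g * x * g⁻¹ * Δ.T j b * (g * x * g⁻¹)⁻¹ = g * (x * (g⁻¹ * Δ.T j b * g) * x⁻¹) * g⁻¹ := by group
  rw [h1, hf, hv]
  have h2 : f (b + u) = f b + v := by rw [hadd, hu]; abel
  rw [← h2, ← hf]
  group

/-- `C(E) ≤ E`. -/
theorem mem_E_of_comm {x : G} (hN : x ∈ Δ.N) (h : ∀ y ∈ Δ.E, x * y = y * x) : x ∈ Δ.E := by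
  intro i
  obtain ⟨j, f, hf, hadd, hinj⟩ := Δ.aff hN i
  have hq : ∀ q, Δ.T i 0 * Δ.T i q = Δ.T j (f 0) * Δ.T j (f q) := by
    intro q
    have h1 := h _ (Δ.w_mem i q)
    rw [← hf, ← hf]
    have h2 : x * Δ.T i 0 * x⁻¹ * (x * Δ.T i q * x⁻¹) = x * (Δ.T i 0 * Δ.T i q) * x⁻¹ := by group
    rw [h2]
    exact eq_mul_inv_of_mul_eq h1.symm
  have hj : j = i := by
    by_contra hj
    have h1 := hq (1, 0)
    have h2 : Δ.w i (1, 0) * Δ.T i 0 * (Δ.w i (1, 0))⁻¹ = Δ.T i 0 := by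
      show Δ.T i 0 * Δ.T i (1, 0) * Δ.T i 0 * (Δ.T i 0 * Δ.T i (1, 0))⁻¹ = _
      rw [h1, mul_inv_eq_iff_eq_mul, mul_assoc, Δ.comm j i hj, ← mul_assoc, Δ.comm j i hj, mul_assoc]
    rw [w_conj_same] at h2
    have h3 := (Δ.inj _ _ _ _ h2).2
    revert h3
    decide
  subst hj
  refine ⟨f 0, fun a => ?_⟩
  rw [hf]
  congr 1
  -- both sides of `hq a` are translations
  have h1 := hq a
  have h2 : Δ.w j a * Δ.T j 0 * (Δ.w j a)⁻¹ =
      Δ.T j (f 0) * (Δ.T j (f a) * Δ.T j 0 * Δ.T j (f a)) * Δ.T j (f 0) := by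
    show Δ.T j 0 * Δ.T j a * Δ.T j 0 * (Δ.T j 0 * Δ.T j a)⁻¹ = _
    rw [h1, mul_inv_rev, Δ.inv_T, Δ.inv_T]
    simp only [mul_assoc]
  rw [w_conj_same, Δ.refl, Δ.refl] at h2
  have h3 := (Δ.inj _ _ _ _ h2).2
  have h4 : f a = f 0 + (0 + a) := by rw [h3]; abel
  rw [h4]; abel

theorem E_normal : (Δ.E.subgroupOf Δ.N).Normal := by
  constructor
  intro x hx g
  rw [mem_subgroupOf] at hx ⊢
  exact Δ.E_conj g.2 hx

theorem cent_E_le : centralizer ((Δ.E.subgroupOf Δ.N : Subgroup Δ.N) : Set Δ.N) ≤ Δ.E.subgroupOf Δ.N := by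
  intro x hx
  rw [mem_subgroupOf]
  apply Δ.mem_E_of_comm x.2
  intro y hy
  have h1 := mem_centralizer_iff.1 hx ⟨y, Δ.E_le_N hy⟩ (by
    rw [SetLike.mem_coe, mem_subgroupOf]; exact hy)
  exact (congrArg Subtype.val h1).symm

/-- A normal `3`-subgroup of `N` lies in `E`. -/
theorem le_E [Finite G] {R : Subgroup Δ.N} (hn : R.Normal) (hp : IsPGroup 3 R) (hE : Δ.E.subgroupOf Δ.N ≤ R) :
    R ≤ Δ.E.subgroupOf Δ.N := by
  -- the elements of `R` preserve the components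
  have hcomp : ∀ r ∈ R, ∀ i, ∃ f : V → V, (∀ a, (r : G) * Δ.T i a * (r : G)⁻¹ = Δ.T i (f a)) ∧
      (∀ a b, f (a + b) = f a + f b - f 0) := by
    intro r hr i
    obtain ⟨j, f, hf, hadd, -⟩ := Δ.aff r.2 i
    have hj : j = i := by
      by_contra hj
      let t : Δ.N := ⟨Δ.T i 0, Δ.T_mem_N i 0⟩
      have h1 : t * r * t⁻¹ * r⁻¹ ∈ R := mul_mem (hn.conj_mem r hr t) (inv_mem hr)
      have h2 : ((t * r * t⁻¹ * r⁻¹ : Δ.N) : G) = Δ.T i 0 * Δ.T j (f 0) := by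
        have : ((t * r * t⁻¹ * r⁻¹ : Δ.N) : G) = Δ.T i 0 * ((r : G) * (Δ.T i 0)⁻¹ * (r : G)⁻¹) := by
          show Δ.T i 0 * (r : G) * (Δ.T i 0)⁻¹ * (r : G)⁻¹ = _
          group
        rw [this, Δ.inv_T, hf]
      have h3 : (⟨t * r * t⁻¹ * r⁻¹, h1⟩ : R) ^ 2 = 1 := by
        apply Subtype.ext
        apply Subtype.ext
        show ((t * r * t⁻¹ * r⁻¹ : Δ.N) : G) ^ 2 = 1
        rw [h2, pow_two, mul_assoc, ← mul_assoc (Δ.T j (f 0)), Δ.comm j i hj, mul_assoc (Δ.T i 0) (Δ.T j (f 0)),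
          Δ.sq, mul_one, Δ.sq]
      obtain ⟨k, hk⟩ := hp ⟨t * r * t⁻¹ * r⁻¹, h1⟩
      have h4 : orderOf (⟨t * r * t⁻¹ * r⁻¹, h1⟩ : R) ∣ Nat.gcd 2 (3 ^ k) :=
        Nat.dvd_gcd (orderOf_dvd_of_pow_eq_one h3) (orderOf_dvd_of_pow_eq_one hk)
      have h5 : Nat.gcd 2 (3 ^ k) = 1 := Nat.Coprime.pow_right k (by norm_num)
      rw [h5, Nat.dvd_one, orderOf_eq_one_iff] at h4
      have h6 : ((t * r * t⁻¹ * r⁻¹ : Δ.N) : G) = 1 := congrArg (fun x : R => ((x : Δ.N) : G)) h4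
      rw [h2] at h6
      have h7 : Δ.T i 0 = Δ.T j (f 0) := by
        rw [← Δ.inv_T j]
        exact eq_inv_of_mul_eq_one_left h6
      exact hj (Δ.inj _ _ _ _ h7).1.symm
    subst hj
    exact ⟨f, hf, hadd⟩
  -- the elements of `R` fixing `T i 0` fix all the `T i a`
  have hfix : ∀ i, ∀ r ∈ R, (r : G) * Δ.T i 0 * (r : G)⁻¹ = Δ.T i 0 →
      ∀ a, (r : G) * Δ.T i a * (r : G)⁻¹ = Δ.T i a := by
    intro i
    let R0 : Subgroup Δ.N :=
      { carrier := {r | r ∈ R ∧ (r : G) * Δ.T i 0 * (r : G)⁻¹ = Δ.T i 0}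
        one_mem' := ⟨one_mem R, by simp⟩
        mul_mem' := by
          rintro x y ⟨hx, hx'⟩ ⟨hy, hy'⟩
          refine ⟨mul_mem hx hy, ?_⟩
          have e : ((x * y : Δ.N) : G) * Δ.T i 0 * ((x * y : Δ.N) : G)⁻¹ =
            (x : G) * ((y : G) * Δ.T i 0 * (y : G)⁻¹) * (x : G)⁻¹ := by
            rw [Subgroup.coe_mul]; group
          rw [e, hy', hx']
        inv_mem' := by
          rintro x ⟨hx, hx'⟩
          refine ⟨inv_mem hx, ?_⟩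
          conv_lhs => rw [← hx']
          rw [Subgroup.coe_inv]; group }
    have hR0 : R0 ≤ R := fun r hr => hr.1
    have hp0 : IsPGroup 3 R0 := hp.to_le hR0
    -- the action on the nonzero vectors
    have hact : ∀ r : R0, ∀ a : V, ∃ b : V, ((r : Δ.N) : G) * Δ.T i a * ((r : Δ.N) : G)⁻¹ = Δ.T i b := by
      intro r a
      obtain ⟨f, hf, -⟩ := hcomp r (hR0 r.2) i
      exact ⟨f a, hf a⟩
    choose F hF using hact
    have hF0 : ∀ r, F r 0 = 0 := by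
      intro r
      have h1 := hF r 0
      rw [r.2.2] at h1
      exact (Δ.inj _ _ _ _ h1).2.symm
    have hF1 : ∀ a, F 1 a = a := by
      intro a
      have h1 := hF 1 a
      rw [OneMemClass.coe_one, OneMemClass.coe_one, one_mul, inv_one, mul_one] at h1
      exact (Δ.inj _ _ _ _ h1).2.symm
    have hFm : ∀ r u a, F (r * u) a = F r (F u a) := by
      intro r u a
      have h1 := hF (r * u) a
      have e : (((r * u : R0) : Δ.N) : G) * Δ.T i a * (((r * u : R0) : Δ.N) : G)⁻¹ =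
        ((r : Δ.N) : G) * (((u : Δ.N) : G) * Δ.T i a * ((u : Δ.N) : G)⁻¹) * ((r : Δ.N) : G)⁻¹ := by
        rw [Subgroup.coe_mul, Subgroup.coe_mul]; group
      rw [e, hF, hF] at h1
      exact (Δ.inj _ _ _ _ h1).2.symm
    let act : MulAction R0 {a : V // a ≠ 0} :=
      { smul := fun r a => ⟨F r a.1, fun h => a.2 (by
          have h1 := hFm r⁻¹ r a.1
          rw [inv_mul_cancel, hF1, h, hF0] at h1
          exact h1)⟩
        one_smul := fun a => Subtype.ext (hF1 a.1)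
        mul_smul := fun r u a => Subtype.ext (hFm r u a.1) }
    have hcard : Nat.card {a : V // a ≠ 0} = 8 := by
      rw [Nat.card_eq_fintype_card]
      decide
    obtain ⟨x, hx⟩ := hp0.nonempty_fixed_point_of_prime_not_dvd_card {a : V // a ≠ 0} (by
      rw [hcard]; norm_num)
    have hx1 : ∀ r : R0, F r x.1 = x.1 := fun r => congrArg Subtype.val (hx r)
    -- `s` moves the fixed point to another fixed point
    let sN : Δ.N := ⟨Δ.s i, Δ.s_mem_N i⟩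
    have hx2 : ∀ r : R0, F r (-x.1.2, x.1.1) = (-x.1.2, x.1.1) := by
      intro r
      have hmem : sN⁻¹ * r * sN ∈ R0 := by
        constructor
        · have := hn.conj_mem r (hR0 r.2) sN⁻¹
          rwa [inv_inv] at this
        · have h1 : Δ.T i 0 = (Δ.s i)⁻¹ * Δ.T i 0 * Δ.s i := by
            conv_rhs => rw [← Δ.s0 i]
            group
          show (Δ.s i)⁻¹ * ((r : Δ.N) : G) * Δ.s i * Δ.T i 0 * ((Δ.s i)⁻¹ * ((r : Δ.N) : G) * Δ.s i)⁻¹ = _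
          calc (Δ.s i)⁻¹ * ((r : Δ.N) : G) * Δ.s i * Δ.T i 0 * ((Δ.s i)⁻¹ * ((r : Δ.N) : G) * Δ.s i)⁻¹
              = (Δ.s i)⁻¹ * (((r : Δ.N) : G) * (Δ.s i * Δ.T i 0 * (Δ.s i)⁻¹) * ((r : Δ.N) : G)⁻¹) * Δ.s i := by
                group
            _ = (Δ.s i)⁻¹ * Δ.T i 0 * Δ.s i := by rw [Δ.s0, r.2.2]
            _ = _ := h1.symm
      have h1 := hF ⟨_, hmem⟩ x.1
      rw [hx1] at h1
      have h2 : (Δ.s i)⁻¹ * ((r : Δ.N) : G) * Δ.s i * Δ.T i x.1 * ((Δ.s i)⁻¹ * ((r : Δ.N) : G) * Δ.s i)⁻¹ =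
        Δ.T i x.1 := h1
      have h3 : ((r : Δ.N) : G) * (Δ.s i * Δ.T i x.1 * (Δ.s i)⁻¹) * ((r : Δ.N) : G)⁻¹ =
          Δ.s i * Δ.T i x.1 * (Δ.s i)⁻¹ := by
        conv_rhs => rw [← h2]
        group
      rw [Δ.sr, hF] at h3
      exact (Δ.inj _ _ _ _ h3).2
    intro r hr hr0 a
    obtain ⟨f, hf, hadd⟩ := hcomp r hr i
    have hff : ∀ a, F ⟨r, hr, hr0⟩ a = f a := by
      intro a
      have h1 := hF ⟨r, hr, hr0⟩ a
      have h2 := hf a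
      exact (Δ.inj _ _ _ _ (h1.symm.trans h2)).2
    have hf0 : f 0 = 0 := by rw [← hff, hF0]
    have hadd' : ∀ a b, f (a + b) = f a + f b := by
      intro a b
      rw [hadd, hf0, sub_zero]
    have hmul : ∀ (k : ZMod 3) (y : V), f y = y → f (k * y.1, k * y.2) = (k * y.1, k * y.2) := by
      intro k y hy
      have h0 : f ((0 : ZMod 3) * y.1, (0 : ZMod 3) * y.2) = ((0 : ZMod 3) * y.1, (0 : ZMod 3) * y.2) := by
        rw [zero_mul, zero_mul]; exact hf0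
      have h1 : f ((1 : ZMod 3) * y.1, (1 : ZMod 3) * y.2) = ((1 : ZMod 3) * y.1, (1 : ZMod 3) * y.2) := by
        rw [one_mul, one_mul]; exact hy
      have h2 : f ((2 : ZMod 3) * y.1, (2 : ZMod 3) * y.2) = ((2 : ZMod 3) * y.1, (2 : ZMod 3) * y.2) := by
        have e : ((2 : ZMod 3) * y.1, (2 : ZMod 3) * y.2) = y + y := by
          apply Prod.ext <;> simp [two_mul]
        rw [e, hadd', hy]
      have hk : k = 0 ∨ k = 1 ∨ k = 2 := by revert k; decide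
      rcases hk with rfl | rfl | rfl
      · exact h0
      · exact h1
      · exact h2
    have hfx : f x.1 = x.1 := by rw [← hff]; exact hx1 _
    have hfs : f (-x.1.2, x.1.1) = (-x.1.2, x.1.1) := by rw [← hff]; exact hx2 _
    obtain ⟨k, l, hkl⟩ := three_dvd_of x.2 a
    have h1 : f a = a := by
      have e : a = (k * x.1.1, k * x.1.2) + (l * (-x.1.2, x.1.1).1, l * (-x.1.2, x.1.1).2) := by
        rw [hkl]
        apply Prod.ext <;> simp [sub_eq_add_neg]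
      rw [e, hadd', hmul k _ hfx, hmul l (-x.1.2, x.1.1) hfs]
    rw [hf, h1]
  intro r hr
  rw [mem_subgroupOf]
  -- correct by an element of `E`
  have h1 : ∀ i, ∃ v, (r : G) * Δ.T i 0 * (r : G)⁻¹ = Δ.T i v := by
    intro i
    obtain ⟨f, hf, -⟩ := hcomp r hr i
    exact ⟨f 0, hf 0⟩
  choose v hv using h1
  obtain ⟨e, he⟩ := Δ.τ_surj (Multiplicative.ofAdd (-v))
  have he' : ∀ i a, (e : G) * Δ.T i a * (e : G)⁻¹ = Δ.T i (a - v i) := by
    intro i a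
    have h2 : Δ.vec e i = -(v i) := congrFun (congrArg Multiplicative.toAdd he) i
    rw [Δ.vec_spec, h2, sub_eq_add_neg]
  let eN : Δ.N := ⟨e, Δ.E_le_N e.2⟩
  have heR : eN ∈ R := hE (by rw [mem_subgroupOf]; exact e.2)
  have h2 : ∀ i a, ((e : G) * r) * Δ.T i a * ((e : G) * r)⁻¹ = Δ.T i a := by
    intro i
    apply hfix i (eN * r) (mul_mem heR hr)
    show ((e : G) * r) * Δ.T i 0 * ((e : G) * r)⁻¹ = Δ.T i 0
    have h3 : ((e : G) * r) * Δ.T i 0 * ((e : G) * r)⁻¹ = (e : G) * ((r : G) * Δ.T i 0 * (r : G)⁻¹) * (e : G)⁻¹ := by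
      group
    rw [h3, hv, he', sub_self]
  have h3 : (e : G) * r ∈ Δ.E := by
    intro i
    exact ⟨0, fun a => by rw [add_zero, h2]⟩
  have h4 := Δ.E.mul_mem (Δ.E.inv_mem e.2) h3
  rwa [inv_mul_cancel_left] at h4

theorem isPGroup_EN [Finite G] : IsPGroup 3 (Δ.E.subgroupOf Δ.N) := by
  have h := Δ.isPGroup_E
  exact h.comap_of_injective Δ.N.subtype Subtype.val_injective

theorem pCore_eq [Finite G] : Cfsg.pCore 3 Δ.N = Δ.E.subgroupOf Δ.N := by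
  have h3 : Fact (Nat.Prime 3) := ⟨Nat.prime_three⟩
  have h1 : Δ.E.subgroupOf Δ.N ≤ Cfsg.pCore 3 Δ.N := Cfsg.Agent.Lib.Cores.le_pCore Δ.E_normal Δ.isPGroup_EN
  apply le_antisymm _ h1
  exact Δ.le_E (Cfsg.Agent.Lib.Cores.pCore_normal 3) (Cfsg.Agent.Lib.Cores.pCore_isPGroup 3) h1

theorem gF_eq [Finite G] : Cfsg.generalizedFittingSubgroup Δ.N = Δ.E.subgroupOf Δ.N := by
  have h3 : Fact (Nat.Prime 3) := ⟨Nat.prime_three⟩
  rw [← Δ.pCore_eq]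
  exact Cfsg.Agent.SignalizersComponents.FStarPCore.generalizedFitting_eq_pCore_of_centralizer_le
    Δ.E_normal Δ.isPGroup_EN Δ.cent_E_le

end ZData

end Cfsg.Agent.H834.Ext
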