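import Cfsg.Prelude.Def_Transfer
import Cfsg.Prelude.Def_FischerSpaces
import Cfsg.Agent.Lib.FrattiniPGroup
import Cfsg.Agent.SignalizersComponents.FStarPCore
import Cfsg.Agent.H834.Rank

/-!
# Twenty-seven transpositions in three commuting families of nine: an extraspecial group `3^{1+6}` (helper834)
-/

set_option autoImplicit false

open scoped commutatorElement

namespace Cfsg.Agent.H834.Ext

open Subgroup

theorem isExtraspecial_of {p : ℕ} [hp : Fact p.Prime] {P : Type*} [Group P] [Finite P] (hP : IsPGroup p P)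
    (hZ : Nat.card (center P) = p) (hc : ∀ x y : P, ⁅x, y⁆ ∈ center P) (hpow : ∀ x : P, x ^ p ∈ center P)
    (hcomm : ∃ x y : P, x * y ≠ y * x) : Cfsg.IsExtraspecial p P := by
  have hle : commutator P ≤ center P := by
    rw [_root_.commutator_def, Subgroup.commutator_le]
    intro x _ y _
    exact hc x y
  have hprime : ∀ H : Subgroup P, H ≤ center P → H ≠ ⊥ → H = center P := by
    intro H hH hne
    have hdvd : Nat.card H ∣ p := hZ ▸ Subgroup.card_dvd_of_le hH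
    rcases (Nat.dvd_prime hp.out).1 hdvd with h1 | h1
    · exact absurd ((Subgroup.card_eq_one).1 h1) hne
    · exact Subgroup.eq_of_le_of_card_ge hH (by rw [hZ, h1])
  have hcom : commutator P = center P := by
    apply hprime _ hle
    intro h
    obtain ⟨x, y, hxy⟩ := hcomm
    apply hxy
    have : ⁅x, y⁆ ∈ commutator P := by
      rw [_root_.commutator_def]
      exact Subgroup.commutator_mem_commutator (Subgroup.mem_top _) (Subgroup.mem_top _)
    rw [h, Subgroup.mem_bot, commutatorElement_eq_one_iff_mul_comm] at this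
    exact this
  have hfr : frattini P = center P := by
    apply le_antisymm
    · exact Cfsg.Agent.Lib.FrattiniPGroup.frattini_le (p := p) (center P) hc hpow
    · rw [← hcom]
      exact Cfsg.Agent.Lib.FrattiniPGroup.commutator_le_frattini hP
  exact ⟨⟨hP, hfr, hcom⟩, hZ⟩

/-- The vectors. -/
abbrev V := ZMod 3 × ZMod 3

/-- Three commuting families of nine transpositions. -/
structure ZData (G : Type*) [Group G] (D : Set G) where
  z : G
  T : Fin 3 → V → G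
  s : Fin 3 → G
  z3 : z * z * z = 1
  z1 : z ≠ 1
  conj_mem : ∀ g : G, ∀ d ∈ D, g * d * g⁻¹ ∈ D
  mem : ∀ i a, T i a ∈ D
  sq : ∀ i a, T i a * T i a = 1
  inj : ∀ i a j b, T i a = T j b → i = j ∧ a = b
  refl : ∀ i a b, T i a * T i b * T i a = T i (-(a + b))
  comm : ∀ i j, i ≠ j → ∀ a b, T i a * T j b = T j b * T i a
  zc : ∀ i a, z * T i a = T i a * z
  fix : ∀ d ∈ D, z * d = d * z → ∃ i a, d = T i a
  cent : ∀ g, (∀ i a, g * T i a = T i a * g) → g = 1 ∨ g = z ∨ g = z * z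
  nonab : ∀ i, ∀ a ≠ 0, ∃ q, T i 0 * T i q ≠ T i a * T i (q + a)
  sm : ∀ i j a, ∃ k b, s i * T j a * (s i)⁻¹ = T k b
  s0 : ∀ i, s i * T i 0 * (s i)⁻¹ = T i 0
  sr : ∀ i a, s i * T i a * (s i)⁻¹ = T i (-a.2, a.1)

namespace ZData

variable {G : Type*} [Group G] {D : Set G} (Δ : ZData G D)

theorem inv_T (i : Fin 3) (a : V) : (Δ.T i a)⁻¹ = Δ.T i a := inv_eq_of_mul_eq_one_left (Δ.sq i a)

theorem comm_same {i : Fin 3} {a b : V} (h : Δ.T i a * Δ.T i b = Δ.T i b * Δ.T i a) : a = b := by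
  have h1 := Δ.refl i a b
  rw [h, mul_assoc, Δ.sq, mul_one] at h1
  have h2 := (Δ.inj _ _ _ _ h1).2
  revert h2
  clear h h1
  revert a b
  decide

/-- The translation by `q`. -/
def w (i : Fin 3) (q : V) : G := Δ.T i 0 * Δ.T i q

theorem w_conj_same (i : Fin 3) (q a : V) : Δ.w i q * Δ.T i a * (Δ.w i q)⁻¹ = Δ.T i (a + q) := by
  unfold w
  have h1 : Δ.T i 0 * Δ.T i q * Δ.T i a * (Δ.T i 0 * Δ.T i q)⁻¹ =
      Δ.T i 0 * (Δ.T i q * Δ.T i a * Δ.T i q) * Δ.T i 0 := by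
    rw [mul_inv_rev, Δ.inv_T, Δ.inv_T]
    simp only [mul_assoc]
  rw [h1, Δ.refl, Δ.refl]
  congr 1
  rw [zero_add, neg_neg, add_comm]

theorem w_conj_ne {i j : Fin 3} (h : j ≠ i) (q a : V) : Δ.w i q * Δ.T j a * (Δ.w i q)⁻¹ = Δ.T j a := by
  unfold w
  rw [mul_inv_eq_iff_eq_mul, mul_assoc, ← Δ.comm j i h, ← mul_assoc, ← Δ.comm j i h, mul_assoc]

/-- The subgroup of the elements acting by translations. -/
def E : Subgroup G where
  carrier := {g | ∀ i, ∃ v, ∀ a, g * Δ.T i a * g⁻¹ = Δ.T i (a + v)}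
  one_mem' := fun i => ⟨0, fun a => by rw [add_zero, one_mul, inv_one, mul_one]⟩
  mul_mem' := by
    intro g h hg hh i
    obtain ⟨v, hv⟩ := hg i
    obtain ⟨u, hu⟩ := hh i
    refine ⟨u + v, fun a => ?_⟩
    have e : g * h * Δ.T i a * (g * h)⁻¹ = g * (h * Δ.T i a * h⁻¹) * g⁻¹ := by group
    rw [e, hu, hv, add_assoc]
  inv_mem' := by
    intro g hg i
    obtain ⟨v, hv⟩ := hg i
    refine ⟨-v, fun a => ?_⟩
    have h1 := hv (a + -v)
    rw [neg_add_cancel_right] at h1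
    rw [← h1]
    group

theorem mem_E {g : G} : g ∈ Δ.E ↔ ∀ i, ∃ v, ∀ a, g * Δ.T i a * g⁻¹ = Δ.T i (a + v) := Iff.rfl

theorem w_mem (i : Fin 3) (q : V) : Δ.w i q ∈ Δ.E := by
  intro j
  by_cases h : j = i
  · subst h
    exact ⟨q, Δ.w_conj_same j q⟩
  · exact ⟨0, fun a => by rw [add_zero, Δ.w_conj_ne h]⟩

theorem z_mem : Δ.z ∈ Δ.E := by
  intro i
  refine ⟨0, fun a => ?_⟩
  rw [Δ.zc, mul_inv_cancel_right, add_zero]

/-- The translation vectors. -/
noncomputable def vec (g : Δ.E) (i : Fin 3) : V := (Δ.mem_E.1 g.2 i).choose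

theorem vec_spec (g : Δ.E) (i : Fin 3) (a : V) : (g : G) * Δ.T i a * (g : G)⁻¹ = Δ.T i (a + Δ.vec g i) :=
  (Δ.mem_E.1 g.2 i).choose_spec a

theorem vec_eq (g : Δ.E) (i : Fin 3) {v : V} (a : V) (h : (g : G) * Δ.T i a * (g : G)⁻¹ = Δ.T i (a + v)) :
    Δ.vec g i = v := by
  rw [Δ.vec_spec] at h
  exact add_left_cancel (Δ.inj _ _ _ _ h).2

theorem vec_mul (g h : Δ.E) (i : Fin 3) : Δ.vec (g * h) i = Δ.vec g i + Δ.vec h i := by
  apply Δ.vec_eq _ _ 0
  have e : ((g * h : Δ.E) : G) * Δ.T i 0 * ((g * h : Δ.E) : G)⁻¹ =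
    (g : G) * ((h : G) * Δ.T i 0 * (h : G)⁻¹) * (g : G)⁻¹ := by
    rw [Subgroup.coe_mul]; group
  rw [e, Δ.vec_spec, Δ.vec_spec, add_assoc, add_comm (Δ.vec g i)]

/-- The homomorphism to the vectors. -/
noncomputable def τ : Δ.E →* Multiplicative (Fin 3 → V) where
  toFun g := Multiplicative.ofAdd (Δ.vec g)
  map_one' := by
    show Multiplicative.ofAdd _ = Multiplicative.ofAdd 0
    congr 1
    funext i
    apply Δ.vec_eq _ _ 0
    simp
  map_mul' := by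
    intro g h
    show Multiplicative.ofAdd _ = Multiplicative.ofAdd (Δ.vec g + Δ.vec h)
    congr 1
    funext i
    exact Δ.vec_mul g h i

theorem τ_eq_one {g : Δ.E} : Δ.τ g = 1 ↔ ∀ i, Δ.vec g i = 0 := by
  constructor
  · intro h i
    exact congrFun (congrArg Multiplicative.toAdd h) i
  · intro h
    show Multiplicative.ofAdd _ = Multiplicative.ofAdd 0
    congr 1
    funext i
    exact h i

theorem zpow_z {g : G} (h : g = 1 ∨ g = Δ.z ∨ g = Δ.z * Δ.z) : g ∈ zpowers Δ.z := by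
  rcases h with rfl | rfl | rfl
  · exact one_mem _
  · exact mem_zpowers _
  · exact mul_mem (mem_zpowers _) (mem_zpowers _)

theorem ker_mem {g : Δ.E} (h : Δ.τ g = 1) : (g : G) ∈ zpowers Δ.z := by
  apply Δ.zpow_z
  apply Δ.cent
  intro i a
  have h1 := Δ.vec_spec g i a
  rw [Δ.τ_eq_one.1 h i, add_zero, mul_inv_eq_iff_eq_mul] at h1
  exact h1

theorem mem_ker_of {g : Δ.E} (h : (g : G) ∈ zpowers Δ.z) : Δ.τ g = 1 := by
  rw [τ_eq_one]
  intro i
  apply Δ.vec_eq _ _ 0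
  rw [add_zero, mul_inv_eq_iff_eq_mul]
  obtain ⟨k, hk⟩ := h
  rw [← hk]
  exact (show Commute Δ.z (Δ.T i 0) from Δ.zc i 0).zpow_left k

theorem card_z : Nat.card (zpowers Δ.z) = 3 := by
  rw [Nat.card_zpowers]
  exact orderOf_eq_prime (by rw [pow_succ, pow_two]; exact Δ.z3) Δ.z1

theorem τ_surj : Function.Surjective Δ.τ := by
  intro v
  let f : Fin 3 → V := Multiplicative.toAdd v
  refine ⟨⟨Δ.w 0 (f 0), Δ.w_mem _ _⟩ * ⟨Δ.w 1 (f 1), Δ.w_mem _ _⟩ * ⟨Δ.w 2 (f 2), Δ.w_mem _ _⟩, ?_⟩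
  have hv : ∀ i j q, Δ.vec ⟨Δ.w i q, Δ.w_mem i q⟩ j = if j = i then q else 0 := by
    intro i j q
    apply Δ.vec_eq _ _ 0
    by_cases h : j = i
    · subst h
      rw [if_pos rfl]
      exact Δ.w_conj_same j q 0
    · rw [if_neg h, add_zero]
      exact Δ.w_conj_ne h q 0
  show Multiplicative.ofAdd _ = Multiplicative.ofAdd f
  congr 1
  funext j
  rw [Δ.vec_mul, Δ.vec_mul, hv, hv, hv]
  fin_cases j <;> simp

theorem card_E [Finite G] : Nat.card Δ.E = 3 ^ 7 := by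
  have h1 : Nat.card Δ.τ.ker = 3 := by
    have hle := Subgroup.zpowers_le.2 Δ.z_mem
    refine (Nat.card_congr ⟨fun g => ⟨g.1.1, Δ.ker_mem g.2⟩, fun g => ⟨⟨g.1, hle g.2⟩, Δ.mem_ker_of g.2⟩, ?_, ?_⟩).trans
      Δ.card_z
    · intro g; rfl
    · intro g; rfl
  have h2 : Nat.card (Δ.E ⧸ Δ.τ.ker) = 9 ^ 3 := by
    rw [Nat.card_congr (QuotientGroup.quotientKerEquivOfSurjective Δ.τ Δ.τ_surj).toEquiv]
    rw [Nat.card_congr Multiplicative.toAdd]
    rw [Nat.card_fun, Nat.card_prod]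
    simp
  rw [Subgroup.card_eq_card_quotient_mul_card_subgroup Δ.τ.ker, h1, h2]
  norm_num

theorem isPGroup_E [Finite G] : IsPGroup 3 Δ.E := by
  apply IsPGroup.of_card Δ.card_E

/-- `z` commutes with the elements of `E`. -/
theorem z_comm {g : G} (hg : g ∈ Δ.E) : Δ.z * g = g * Δ.z := by
  obtain ⟨h, hh, h1⟩ : ∃ h : Δ.E, Δ.z * h = h * Δ.z ∧ Δ.τ h = Δ.τ ⟨g, hg⟩ := by
    let f : Fin 3 → V := Δ.vec ⟨g, hg⟩
    have hzw : ∀ i q, Commute Δ.z (Δ.w i q) := fun i q =>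
      (show Commute _ _ from Δ.zc i 0).mul_right (Δ.zc i q)
    refine ⟨⟨Δ.w 0 (f 0), Δ.w_mem _ _⟩ * ⟨Δ.w 1 (f 1), Δ.w_mem _ _⟩ * ⟨Δ.w 2 (f 2), Δ.w_mem _ _⟩, ?_, ?_⟩
    · exact ((hzw _ _).mul_right (hzw _ _)).mul_right (hzw _ _)
    · have hv : ∀ i j q, Δ.vec ⟨Δ.w i q, Δ.w_mem i q⟩ j = if j = i then q else 0 := by
        intro i j q
        apply Δ.vec_eq _ _ 0
        by_cases h : j = i
        · subst h
          rw [if_pos rfl]
          exact Δ.w_conj_same j q 0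
        · rw [if_neg h, add_zero]
          exact Δ.w_conj_ne h q 0
      show Multiplicative.ofAdd _ = Multiplicative.ofAdd f
      congr 1
      funext j
      rw [Δ.vec_mul, Δ.vec_mul, hv, hv, hv]
      fin_cases j <;> simp
  have h2 : Δ.τ (h⁻¹ * ⟨g, hg⟩) = 1 := by rw [map_mul, map_inv, h1, inv_mul_cancel]
  obtain ⟨k, hk⟩ := Δ.ker_mem h2
  have h3 : g = h * Δ.z ^ k := by
    have : Δ.z ^ k = (h : G)⁻¹ * g := hk
    rw [this, mul_inv_cancel_left]
  rw [h3]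
  exact (show Commute Δ.z h from hh).mul_right ((Commute.refl Δ.z).zpow_right k)

/-- The elements of `E` commuting with `E`. -/
theorem mem_z_of_comm {g : G} (hg : g ∈ Δ.E) (h : ∀ x ∈ Δ.E, g * x = x * g) : g ∈ zpowers Δ.z := by
  apply Δ.ker_mem (g := ⟨g, hg⟩)
  rw [τ_eq_one]
  intro i
  by_contra hne
  obtain ⟨q, hq⟩ := Δ.nonab i _ hne
  apply hq
  have h1 := Δ.vec_spec ⟨g, hg⟩ i 0
  have h2 := Δ.vec_spec ⟨g, hg⟩ i q
  rw [zero_add] at h1
  rw [← h1, ← h2]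
  have h3 : g * Δ.T i 0 * g⁻¹ * (g * Δ.T i q * g⁻¹) = g * (Δ.T i 0 * Δ.T i q) * g⁻¹ := by group
  show _ = g * Δ.T i 0 * g⁻¹ * (g * Δ.T i q * g⁻¹)
  rw [h3]
  exact eq_mul_inv_of_mul_eq (h _ (Δ.w_mem i q)).symm

end ZData

end Cfsg.Agent.H834.Ext
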