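import Cfsg.Agent.H834.ADChk

/-!
# The normalizer of `⟨a b⟩` in `Fi22`, `a`, `b` noncommuting transpositions (helper834)
-/

set_option autoImplicit false
set_option maxRecDepth 100000
set_option exponentiation.threshold 5000

namespace Cfsg.Agent.H834

open Cfsg.Spor Cfsg.Spor.Fi22 Cfsg.Agent.Lib.PermNet Cfsg.Agent.Lib.PermNetOrbit Cfsg.Agent.Lib.PermNetFix
open Cfsg.Agent.Fischer Cfsg.Agent.Fischer.Fi22PtsRep
open Cfsg.Agent.Fischer.Fi22Order (nws nws_ok)
open AD

theorem AD.F_lt {q : ℕ} (hq : F.testBit q = true) : q < 3510 := by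
  have h : fixm [.a] &&& fixm [.b] = F := Nat.eq_of_beq_eq_true chkF
  rw [← h, Nat.testBit_and, Bool.and_eq_true, testBit_fixm] at hq
  exact hq.1.1

namespace Model

variable {G : Type*} [Group G] {D : Set G} (m : Model G D)

theorem tw_mem {F : ℕ} {l : List (List Gen × Gen)} (h : inB F l = true) {H : Subgroup G}
    (hH : ∀ p < 3510, F.testBit p = true → m.t p ∈ H) : ∀ w ∈ l.map tw, m.wd w ∈ H := by
  intro w hw
  obtain ⟨c, hc, rfl⟩ := List.mem_map.1 hw
  rw [← m.t_tw]
  exact hH _ (m.twp_lt c) (inB_spec h c hc)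

theorem F_iff {p : ℕ} (hp : p < 3510) : F.testBit p = true ↔
    m.t 0 * m.t p = m.t p * m.t 0 ∧ m.t 2 * m.t p = m.t p * m.t 2 := by
  have h : fixm [.a] &&& fixm [.b] = F := Nat.eq_of_beq_eq_true chkF
  rw [← h, Nat.testBit_and, Bool.and_eq_true, m.testBit_fixm hp, m.testBit_fixm hp, t_zero, t2,
    m.comm_iff _ hp, m.comm_iff _ hp]
  rfl

theorem Fab_iff {p : ℕ} (hp : p < 3510) : F.testBit p = true ↔
    m.t 0 * m.t 2 * m.t p = m.t p * (m.t 0 * m.t 2) := by
  have h : fixm [.a, .b] = F := Nat.eq_of_beq_eq_true chkFab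
  rw [← h, m.testBit_fixm hp, m.comm_iff _ hp, t_zero, t2, m.wd_cons .a [.b]]
  rfl

include m in
/-- A transposition commutes with the product of two noncommuting transpositions iff it commutes with both. -/
theorem comm_mul_iff {x y z : G} (hx : x ∈ D) (hy : y ∈ D) (hz : z ∈ D) (hxy : x * y ≠ y * x) :
    x * y * z = z * (x * y) ↔ x * z = z * x ∧ y * z = z * y := by
  obtain ⟨m', rfl, rfl⟩ := m.exists_modelN hx hy hxy
  obtain ⟨p, hp, rfl⟩ := m'.mem_iff.1 hz
  rw [← m'.Fab_iff hp, ← m'.F_iff hp]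

/-- The transpositions commuting with all the transpositions commuting with `a` and `b`. -/
theorem cent_F {x : G} (hx : x ∈ D) (h : ∀ p < 3510, F.testBit p = true → x * m.t p = m.t p * x) :
    x = m.t 0 ∨ x = m.t 1 ∨ x = m.t 2 := by
  obtain ⟨q, hq, rfl⟩ := m.mem_iff.1 hx
  have h1 : (interB kg full).testBit q = true := by
    rw [testBit_interB]
    refine ⟨by rw [testBit_full]; simp [hq], ?_⟩
    intro c hc
    rw [m.testBit_cmk hq, m.fix_iff hq]
    exact (h _ (m.twp_lt c) (inB_spec chkkg c hc)).symm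
  have h2 : interB kg full = 7 := Nat.eq_of_beq_eq_true chkC
  rw [h2] at h1
  have h3 : q < 3 := by
    by_contra h4
    have h5 : (7 : ℕ) < 2 ^ q := lt_of_lt_of_le (by norm_num) (Nat.pow_le_pow_right (by norm_num) (not_lt.1 h4))
    rw [Nat.testBit_lt_two_pow h5] at h1
    exact absurd h1 (by simp)
  interval_cases q
  · exact Or.inl rfl
  · exact Or.inr (Or.inl rfl)
  · exact Or.inr (Or.inr rfl)

theorem t1 : m.t 1 = m.t 0 * m.t 2 * m.t 0 := by
  have h : twp ([.a], .b) = 1 := Nat.eq_of_beq_eq_true chkP1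
  rw [← h, m.t_tw, t_zero, t2]
  show m.wd [.a, .b, .a] = _
  rw [m.wd_cons .a, m.wd_cons .b, ← mul_assoc]
  rfl

/-- The subgroup generated by the transpositions commuting with `a` and `b`. -/
noncomputable def KF : Subgroup G := Subgroup.closure {y : G | ∃ p < 3510, F.testBit p = true ∧ y = m.t p}

theorem t_mem_KF {p : ℕ} (hp : p < 3510) (h : F.testBit p = true) : m.t p ∈ m.KF :=
  Subgroup.subset_closure ⟨p, hp, h, rfl⟩

theorem stab_two {g : G} (h0 : m.φ g 0 = 0) (h2 : m.φ g 2 = 2) : g ∈ Subgroup.centralizer {m.t 0, m.t 2} := by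
  rw [Subgroup.mem_centralizer_iff]
  rintro x (rfl | rfl)
  · exact ((m.comm_iff g (by norm_num)).2 h0).symm
  · exact ((m.comm_iff g (by norm_num)).2 h2).symm

theorem KF_le : m.KF ≤ Subgroup.centralizer {m.t 0, m.t 2} := by
  unfold KF
  rw [Subgroup.closure_le]
  rintro y ⟨p, hp, h, rfl⟩
  have := (m.F_iff hp).1 h
  rw [SetLike.mem_coe, Subgroup.mem_centralizer_iff]
  rintro x (rfl | rfl)
  · exact this.1
  · exact this.2

theorem card_KF_ge : 6531840 ≤ Nat.card m.KF := by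
  have := m.finite
  have hH : ∀ p < 3510, F.testBit p = true → m.t p ∈ m.KF := fun p hp h => m.t_mem_KF hp h
  have s1 := m.lv_le m.KF (m.tw_mem in16 hH) lv16
  have s2 := m.lv_le m.KF (m.tw_mem in40 hH) lv40
  have s3 := m.lv_le m.KF (m.tw_mem in43 hH) lv43
  have s4 := m.lv_le m.KF (m.tw_mem in88 hH) lv88
  have s5 := m.lv_le m.KF (m.tw_mem in92 hH) lv92
  have s6 : 0 < Nat.card (stabL (m.φ.comp m.KF.subtype) [92, 88, 43, 40, 16]) := Nat.card_pos
  have s0 := m.card_stabL_nil_sub m.KF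
  omega

theorem card_stab_two : Nat.card (stabL m.φ [2, 0]) ≤ 6531840 := by
  have s1 := m.lv_le_top lv0
  have s2 := m.lv_le_top lv2
  have s0 := m.card_stabL_nil
  omega

theorem card_stab_seven : Nat.card (stabL m.φ [92, 88, 43, 40, 16, 2, 0]) ≤ 1 := by
  have s1 := m.lv_le_top lv0
  have s2 := m.lv_le_top lv2
  have s0 := m.card_stabL_nil
  have s3 := m.lv_le_top lt16
  have s4 := m.lv_le_top lt40
  have s5 := m.lv_le_top lt43
  have s6 := m.lv_le_top lt88
  have s7 := m.lv_le_top lt92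
  omega

include m in
theorem eq_one_of_card_le {H : Subgroup G} (h : Nat.card H ≤ 1) {x : G} (hx : x ∈ H) : x = 1 := by
  have := m.finite
  have h1 : Nat.card H = 1 := le_antisymm h Nat.card_pos
  rw [Subgroup.card_eq_one] at h1
  rw [h1] at hx
  exact Subgroup.mem_bot.1 hx

theorem cent_eq : Subgroup.centralizer {m.t 0, m.t 2} = m.KF := by
  have := m.finite
  have h1 : Subgroup.centralizer {m.t 0, m.t 2} ≤ stabL m.φ [2, 0] := by
    intro g hg
    rw [Subgroup.mem_centralizer_iff] at hg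
    intro q hq
    simp only [List.mem_cons, List.not_mem_nil, or_false] at hq
    rcases hq with rfl | rfl
    · exact (m.comm_iff g (by norm_num)).1 (hg _ (by simp)).symm
    · exact (m.comm_iff g (by norm_num)).1 (hg _ (by simp)).symm
  have h2 : Nat.card (Subgroup.centralizer {m.t 0, m.t 2}) ≤ 6531840 :=
    (Nat.card_le_card_of_injective _ (Subgroup.inclusion_injective h1)).trans m.card_stab_two
  symm
  apply SetLike.coe_injective
  exact Set.eq_of_subset_of_ncard_le (s := (m.KF : Set G))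
    (t := (Subgroup.centralizer {m.t 0, m.t 2} : Set G)) m.KF_le (h2.trans m.card_KF_ge) (Set.toFinite _)

theorem KF_eq_closure : m.KF =
    Subgroup.closure {y : G | y ∈ D ∧ Commute (m.t 0) y ∧ Commute (m.t 2) y ∧ y ≠ m.t 0 ∧ y ≠ m.t 2} := by
  unfold KF
  congr 1
  ext y
  constructor
  · rintro ⟨p, hp, h, rfl⟩
    have h1 := (m.F_iff hp).1 h
    refine ⟨m.t_mem hp, h1.1, h1.2, ?_, ?_⟩
    · intro h2
      rw [h2] at h1
      exact m.t02_ne h1.2.symm
    · intro h2
      rw [h2] at h1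
      exact m.t02_ne h1.1
  · rintro ⟨hy, h1, h2, -, -⟩
    obtain ⟨p, hp, rfl⟩ := m.mem_iff.1 hy
    exact ⟨p, hp, (m.F_iff hp).2 ⟨h1, h2⟩, rfl⟩

/-- The subgroup `KF` moves `16` to all the points of `F`. -/
theorem KF_trans {q : ℕ} (hq : F.testBit q = true) : ∃ k ∈ m.KF, m.φ k 16 = q := by
  obtain ⟨g, hg, -, h⟩ := m.reach (m.tw_mem in16 fun p hp h => m.t_mem_KF hp h) rc16 hq
  exact ⟨g, hg, h⟩

theorem KF_F {k : G} (hk : k ∈ m.KF) {q : ℕ} (hq : F.testBit q = true) : F.testBit (m.φ k q) = true := by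
  have hql := AD.F_lt hq
  have h1 := m.KF_le hk
  rw [Subgroup.mem_centralizer_iff] at h1
  have h2 := (m.comm_iff k (p := 0) (by norm_num)).1 (h1 _ (by simp)).symm
  have h3 := (m.comm_iff k (p := 2) (by norm_num)).1 (h1 _ (by simp)).symm
  rw [m.F_iff (m.φ_lt _ hql)]
  have h4 := (m.F_iff hql).1 hq
  rw [← m.comm_map k (p := 0) (by norm_num) hql, ← m.comm_map k (p := 2) (by norm_num) hql, h2, h3] at h4
  exact h4

/-- `KF` is transitive on the noncommuting pairs of `F`. -/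
theorem KF_transN {p q p' q' : ℕ} (hp : F.testBit p = true) (hq : F.testBit q = true) (hp' : F.testBit p' = true)
    (hq' : F.testBit q' = true) (h : m.t p * m.t q ≠ m.t q * m.t p) (h' : m.t p' * m.t q' ≠ m.t q' * m.t p') :
    ∃ k ∈ m.KF, m.φ k p = p' ∧ m.φ k q = q' := by
  have key : ∀ p q, F.testBit p = true → F.testBit q = true → m.t p * m.t q ≠ m.t q * m.t p →
      ∃ k ∈ m.KF, m.φ k 16 = p ∧ m.φ k 40 = q := by
    intro p q hp hq h
    obtain ⟨k, hk, hkp⟩ := m.KF_trans hp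
    have h1 : m.φ k (m.φ k⁻¹ q) = q := by
      rw [← Equiv.Perm.mul_apply, ← map_mul, mul_inv_cancel, map_one, Equiv.Perm.one_apply]
    have hq1 := m.KF_F (m.KF.inv_mem hk) hq
    set q1 := m.φ k⁻¹ q
    have hq1l := AD.F_lt hq1
    have h2 : m.t 16 * m.t q1 ≠ m.t q1 * m.t 16 := by
      intro h3
      rw [← m.comm_map k (by norm_num) hq1l, hkp, h1] at h3
      exact h h3
    have h3 : F80.testBit q1 = true := by
      have h4 : F ^^^ (F &&& cmk ([], .d)) = F80 := Nat.eq_of_beq_eq_true chkF80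
      rw [← h4, Nat.testBit_xor, Nat.testBit_and, hq1]
      have h5 : (cmk ([], .d)).testBit q1 = false := by
        rw [← Bool.not_eq_true, m.testBit_cmk hq1l, m.fix_iff hq1l]
        intro h6
        apply h2
        have h7 : twp ([], .d) = 16 := rfl
        rw [h7] at h6
        exact h6
      rw [h5]; rfl
    obtain ⟨g, hg, hgf, hgq⟩ := m.reach (m.tw_mem in40 fun p hp h => m.t_mem_KF hp h) rc40 h3
    refine ⟨k * g, m.KF.mul_mem hk hg, ?_, ?_⟩
    · rw [map_mul, Equiv.Perm.mul_apply, hgf 16 (by simp), hkp]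
    · rw [map_mul, Equiv.Perm.mul_apply, hgq, h1]
  obtain ⟨k, hk, hkp, hkq⟩ := key p q hp hq h
  obtain ⟨k', hk', hkp', hkq'⟩ := key p' q' hp' hq' h'
  refine ⟨k' * k⁻¹, m.KF.mul_mem hk' (m.KF.inv_mem hk), ?_, ?_⟩
  · rw [map_mul, Equiv.Perm.mul_apply, ← hkp, ← Equiv.Perm.mul_apply (m.φ k⁻¹), ← map_mul, inv_mul_cancel, map_one,
      Equiv.Perm.one_apply, hkp']
  · rw [map_mul, Equiv.Perm.mul_apply, ← hkq, ← Equiv.Perm.mul_apply (m.φ k⁻¹), ← map_mul, inv_mul_cancel, map_one,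
      Equiv.Perm.one_apply, hkq']

end Model

end Cfsg.Agent.H834
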