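import Cfsg.Agent.H336.SpSix.Basic
import Cfsg.Agent.H336.SpSix.Equiv
import Cfsg.Agent.Lib.ClassTwoDuality
import Cfsg.Agent.H832.ThreeProd

/-!
# No elementary abelian subgroup of order 64 with normaliser `Sp_6(2)` beside an extraspecial group (helper834)

Let `z = th a0` and let `Q` be an extraspecial group of order `2 ^ 11` with centre `⟨z⟩`, normal in `C(z)` with
`C(z) / Q` of order 51840, and let `d ∈ Q` be an involution such that `{d, d z}` is invariant under `C(z)` and
`d ∉ A`.  This is impossible (proof of helper296): consider `A ∩ Q`.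
-/

set_option autoImplicit false

namespace Cfsg.Agent.H834.SpEnd

open Subgroup Cfsg.Agent.H336.SpSix
open Cfsg.Agent.H832.ThreeProd (orb card_orb)

theorem card_mul_relIndex_inf {G : Type*} [Group G] (H K : Subgroup G) :
    Nat.card (H ⊓ K : Subgroup G) * H.relIndex K = Nat.card K := by
  rw [← card_mul_index (H.subgroupOf K)]
  congr 1
  rw [← subgroupOf_map_subtype, ← Nat.card_congr ((H.subgroupOf K).equivMapOfInjective _ K.subtype_injective).toEquiv]

theorem card_mul_relIndex {G : Type*} [Group G] {H K : Subgroup G} (h : H ≤ K) :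
    Nat.card H * H.relIndex K = Nat.card K := by
  rw [← card_mul_relIndex_inf H K, inf_eq_left.2 h]

/-- an isometry moving every vector by `0` or `a` fixes `a^⊥` -/
theorem fix_perp {a : V} (ha : a ≠ 0) {g : V ≃+ V} (hg : Isom g) (h : ∀ v, g v = v ∨ g v = v + a) (v : V)
    (hv : om a v = 0) : g v = v := by
  rcases h v with h1 | h1
  · exact h1
  exfalso
  obtain ⟨u, hu⟩ := exists_om ha
  have h2 := hg u v
  rw [h1] at h2
  rcases h u with h3 | h3 <;> rw [h3] at h2
  · rw [om_add_right, om_comm u a, hu, add_eq_left] at h2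
    exact absurd h2 (by decide)
  · rw [om_add_right, om_add_left, om_add_left, om_self, om_comm u a, hu, hv, add_zero, add_zero,
      add_eq_left] at h2
    exact absurd h2 (by decide)

theorem card_V : Nat.card V = 64 := by simp [V]

/-- a vector outside and a further vector in `a^⊥` -/
theorem exists_pair {a : V} (ha : a ≠ 0) : ∃ u w : V, om a u = 1 ∧ om a w = 0 ∧ w ≠ 0 ∧ w ≠ a := by
  obtain ⟨u, hu⟩ := exists_om ha
  obtain ⟨c, hc⟩ : ∃ c : V, c ∉ ({0, a, u, a + u} : Finset V) := by
    by_contra hcon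
    push Not at hcon
    have h1 : (Finset.univ : Finset V) ⊆ {0, a, u, a + u} := fun c _ => hcon c
    have h2 := Finset.card_le_card h1
    have h3 : (Finset.univ : Finset V).card = 64 := by simp [V]
    have h4 : ({0, a, u, a + u} : Finset V).card ≤ 4 := Finset.card_le_four
    omega
  simp only [Finset.mem_insert, Finset.mem_singleton, not_or] at hc
  obtain ⟨c0, c1, c2, c3⟩ := hc
  refine ⟨u, c + om a c • u, hu, ?_, ?_, ?_⟩
  · rw [om_add_right, om_smul_right, hu, mul_one, z2_add_self]
  · rcases z2 (om a c) with h1 | h1 <;> rw [h1]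
    · rw [zero_smul, add_zero]; exact c0
    · rw [one_smul]; intro hh; exact c2 ((add_eq_zero_iff _ _).1 hh)
  · rcases z2 (om a c) with h1 | h1 <;> rw [h1]
    · rw [zero_smul, add_zero]; exact c1
    · rw [one_smul]; intro hh; exact c3 (by rw [← hh, add_add_self])

theorem card_perp {a : V} (ha : a ≠ 0) : Nat.card {v : V // om a v = 0} = 32 := by
  let f : V →+ ZMod 2 := { toFun := om a, map_zero' := om_zero_right a, map_add' := fun u v => om_add_right a u v }
  have hf : Function.Surjective f := by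
    intro x
    obtain ⟨u, hu⟩ := exists_om ha
    rcases z2 x with rfl | rfl
    · exact ⟨0, om_zero_right a⟩
    · exact ⟨u, hu⟩
  have h1 := f.ker.card_mul_index
  rw [AddSubgroup.index_ker, AddMonoidHom.range_eq_top.2 hf, AddSubgroup.card_top, card_V, Nat.card_zmod] at h1
  have h2 : Nat.card {v : V // om a v = 0} = Nat.card f.ker := rfl
  rw [h2]
  omega

variable {G : Type*} [Group G] {th : V → G} {O K0 : Subgroup G}

/-- an element of 2-power order moving each `th v` by `1` or `th a` -/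
theorem act_cases (h : Sit th O K0) {a : V} (ha : a ≠ 0) {q : G}
    (hq : ∀ v, q * th v * q⁻¹ = th v ∨ q * th v * q⁻¹ = th (v + a)) {n : ℕ} (h2 : q ^ 2 ^ n = 1) :
    q ∈ h.A ∨ ∀ v, q * th v * q⁻¹ = th (tv a v) := by
  have hqN : q ∈ normalizer (h.A : Set G) := h.mem_normalizer.2 fun v => by
    rcases hq v with h1 | h1
    · exact ⟨_, h1⟩
    · exact ⟨_, h1⟩
  obtain ⟨g, hg, hg'⟩ := h.exists_isom_of_mem hqN
  have h3 : ∀ v, g v = v ∨ g v = v + a := by
    intro v
    rcases hq v with h1 | h1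
    · exact Or.inl (h.inj ((hg' v).symm.trans h1))
    · exact Or.inr (h.inj ((hg' v).symm.trans h1))
  rcases h.act_of_perp ha hqN (fun v hv => by
    have h4 := hg' v
    rw [fix_perp ha hg h3 v hv] at h4
    exact mul_inv_eq_iff_eq_mul.1 h4) with h5 | h5
  · left
    exact h.mem_of_sq (fun v => mul_inv_eq_iff_eq_mul.1 (h5 v)) h2
  · exact Or.inr h5

/-- a 2-group `P` with `[P, A] ≤ ⟨th a⟩` satisfies `|P| ≤ 2 |P ∩ A|` -/
theorem card_le_two [Finite G] (h : Sit th O K0) {a : V} (ha : a ≠ 0) (P : Subgroup G) (hP : IsPGroup 2 P)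
    (hq : ∀ q ∈ P, ∀ v, q * th v * q⁻¹ = th v ∨ q * th v * q⁻¹ = th (v + a)) :
    Nat.card P ≤ 2 * Nat.card (P ⊓ h.A : Subgroup G) := by
  have hpow : ∀ q ∈ P, ∃ n : ℕ, q ^ 2 ^ n = 1 := by
    intro q hqP
    obtain ⟨n, hn⟩ := hP ⟨q, hqP⟩
    exact ⟨n, congrArg Subtype.val hn⟩
  have hcase : ∀ q ∈ P, q ∈ h.A ∨ ∀ v, q * th v * q⁻¹ = th (tv a v) := by
    intro q hqP
    obtain ⟨n, hn⟩ := hpow q hqP
    exact act_cases h ha (hq q hqP) hn
  by_cases hall : P ≤ h.A
  · rw [inf_eq_left.2 hall]
    omega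
  · obtain ⟨q0, hq0, hq0A⟩ := SetLike.not_le_iff_exists.1 hall
    have ht0 := (hcase q0 hq0).resolve_left hq0A
    have hsub : (P : Set G) ⊆ ((P ⊓ h.A : Subgroup G) : Set G) ∪
        (fun x => q0 * x) '' ((P ⊓ h.A : Subgroup G) : Set G) := by
      intro q hqP
      rcases hcase q hqP with h1 | h1
      · exact Or.inl ⟨hqP, h1⟩
      · right
        have hm : q0⁻¹ * q ∈ P := mul_mem (inv_mem hq0) hqP
        obtain ⟨n, hn⟩ := hpow _ hm
        refine ⟨q0⁻¹ * q, ⟨hm, h.mem_of_sq (fun v => ?_) hn⟩, mul_inv_cancel_left _ _⟩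
        have h2 : q * th v * q⁻¹ = q0 * th v * q0⁻¹ := by rw [h1, ht0]
        calc q0⁻¹ * q * th v = q0⁻¹ * (q * th v * q⁻¹) * q := by group
          _ = q0⁻¹ * (q0 * th v * q0⁻¹) * q := by rw [h2]
          _ = th v * (q0⁻¹ * q) := by group
    have h1 : Nat.card P = (P : Set G).ncard := rfl
    have h2 : Nat.card (P ⊓ h.A : Subgroup G) = ((P ⊓ h.A : Subgroup G) : Set G).ncard := rfl
    rw [h1, h2]
    calc (P : Set G).ncard ≤ _ := Set.ncard_le_ncard hsub (Set.toFinite _)
      _ ≤ _ := Set.ncard_union_le _ _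
      _ ≤ _ := Nat.add_le_add_left (Set.ncard_image_le (Set.toFinite _)) _
      _ = _ := by ring

/-- the number of `v` with a property bounds the intersection with `A` -/
theorem card_inf_le (h : Sit th O K0) (P : Subgroup G) (s : Set V) (hs : ∀ v, th v ∈ P → v ∈ s) :
    Nat.card (P ⊓ h.A : Subgroup G) ≤ s.ncard := by
  have h1 : ((P ⊓ h.A : Subgroup G) : Set G) ⊆ th '' s := by
    rintro x ⟨hxP, v, rfl⟩
    exact ⟨v, hs v hxP, rfl⟩
  have h2 : Nat.card (P ⊓ h.A : Subgroup G) = ((P ⊓ h.A : Subgroup G) : Set G).ncard := rfl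
  rw [h2]
  exact (Set.ncard_le_ncard h1 (Set.toFinite _)).trans (Set.ncard_image_le (Set.toFinite _))

/-- the situation -/
structure Dat (h : Sit th O K0) (a : V) (Q : Subgroup G) (d : G) : Prop where
  ha : a ≠ 0
  j_mem : th a ∈ Q
  comm : ∀ x ∈ Q, ∀ y ∈ Q, x * y = y * x ∨ x * y = th a * (y * x)
  sq : ∀ q ∈ Q, q * q = 1 ∨ q * q = th a
  cent : ∀ g, (∀ q ∈ Q, q * g = g * q) → g = 1 ∨ g = th a
  normal : ∀ g, g * th a = th a * g → ∀ q ∈ Q, g * q * g⁻¹ ∈ Q
  card : Nat.card Q = 2 ^ 11
  cardC : Nat.card (centralizer ({th a} : Set G)) = 51840 * 2 ^ 11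
  d_mem : d ∈ Q
  dd : d * d = 1
  dA : d ∉ h.A
  dj : ∀ g, g * th a = th a * g → g * d * g⁻¹ = d ∨ g * d * g⁻¹ = d * th a

namespace Dat

variable {h : Sit th O K0} {a : V} {Q : Subgroup G} {d : G} (D : Dat h a Q d)
include D

theorem isPGroup : IsPGroup 2 Q := IsPGroup.of_card D.card

theorem pow_one {q : G} (hq : q ∈ Q) : q ^ 2 ^ 2 = 1 := by
  have h1 : q ^ 2 ^ 2 = (q * q) * (q * q) := by
    rw [show (2 : ℕ) ^ 2 = 2 + 2 from rfl, pow_add, pow_two]
  rw [h1]
  rcases D.sq q hq with h2 | h2 <;> rw [h2]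
  · rw [one_mul]
  · exact h.sq a

/-- `C_A(d)` -/
theorem d_comm (v : V) (hv : om a v = 0) : d * th v = th v * d := by
  have hx := h.inter_cases D.ha (centralizer ({d, d * th a} : Set G)) (by
    intro k _ hk x hx
    have hk' : k⁻¹ * th a = th a * k⁻¹ := by
      rw [inv_mul_eq_iff_eq_mul, ← mul_assoc, hk, mul_inv_cancel_right]
    have hja : ∀ g : G, g * th a = th a * g → g * (d * th a) * g⁻¹ = (g * d * g⁻¹) * th a := by
      intro g hg
      calc g * (d * th a) * g⁻¹ = g * d * g⁻¹ * (g * th a) * g⁻¹ := by group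
        _ = g * d * g⁻¹ * (th a * g) * g⁻¹ := by rw [hg]
        _ = _ := by group
    have hmem : ∀ y ∈ ({d, d * th a} : Set G), k⁻¹ * y * k ∈ ({d, d * th a} : Set G) := by
      have hddj := D.dj _ hk'
      rw [inv_inv] at hddj
      rintro y (rfl | rfl)
      · rcases hddj with h1 | h1 <;> rw [h1]
        · exact Or.inl rfl
        · exact Or.inr rfl
      · have h2 := hja _ hk'
        rw [inv_inv] at h2
        rw [h2]
        rcases hddj with h1 | h1 <;> rw [h1]
        · exact Or.inr rfl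
        · left
          rw [mul_assoc, h.sq, mul_one]
    rw [mem_centralizer_iff] at hx ⊢
    intro y hy
    have h1 := hx _ (hmem y hy)
    calc y * (k * x * k⁻¹) = k * ((k⁻¹ * y * k) * x) * k⁻¹ := by group
      _ = k * (x * (k⁻¹ * y * k)) * k⁻¹ := by rw [h1]
      _ = _ := by group)
  have hiff : ∀ v, th v ∈ centralizer ({d, d * th a} : Set G) ↔ d * th v = th v * d := by
    intro v
    rw [mem_centralizer_iff]
    constructor
    · exact fun h1 => h1 d (Or.inl rfl)
    · rintro h1 y (rfl | rfl)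
      · exact h1
      · rw [mul_assoc, h.comm a v, ← mul_assoc, h1, mul_assoc]
  simp only [hiff] at hx
  -- the swapping elements multiply to a fixing element
  have hadd : ∀ u v, ¬ (d * th u = th u * d) → ¬ (d * th v = th v * d) → d * th (u + v) = th (u + v) * d := by
    intro u v hu hv
    have h1 := (D.dj _ (h.comm u a)).resolve_left fun hh => hu (mul_inv_eq_iff_eq_mul.1 hh).symm
    have h2 := (D.dj _ (h.comm v a)).resolve_left fun hh => hv (mul_inv_eq_iff_eq_mul.1 hh).symm
    have h3 : th (u + v) * d * (th (u + v))⁻¹ = d := by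
      rw [h.add, mul_inv_rev]
      calc th u * th v * d * ((th v)⁻¹ * (th u)⁻¹) = th u * (th v * d * (th v)⁻¹) * (th u)⁻¹ := by group
        _ = (th u * d * (th u)⁻¹) * (th u * th a * (th u)⁻¹) := by rw [h2]; group
        _ = d * th a * th a := by rw [h1, h.comm u a, mul_inv_cancel_right]
        _ = d := by rw [mul_assoc, h.sq, mul_one]
    exact (mul_inv_eq_iff_eq_mul.1 h3).symm
  rcases hx with h1 | h1 | h1 | h1
  · exfalso
    have h2 : d * th a = th a * d := by
      rcases D.comm d D.d_mem (th a) D.j_mem with h3 | h3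
      · exact h3
      · exfalso
        -- `d (th a) = (th a) (th a) d = d`
        rw [← mul_assoc, h.sq, one_mul] at h3
        exact D.ha ((h.eq_one_iff a).1 (mul_eq_left.1 h3))
    exact D.ha ((h1 a).1 h2)
  · exfalso
    obtain ⟨u, w, hu, hw, hw0, hwa⟩ := exists_pair D.ha
    have hu1 : ¬ (d * th u = th u * d) := by
      intro hh
      rcases (h1 u).1 hh with rfl | rfl
      · rw [om_zero_right] at hu; exact absurd hu (by decide)
      · rw [om_self] at hu; exact absurd hu (by decide)
    have hw1 : ¬ (d * th w = th w * d) := by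
      intro hh
      rcases (h1 w).1 hh with h2 | h2
      · exact hw0 h2
      · exact hwa h2
    have h3 := (h1 _).1 (hadd u w hu1 hw1)
    have h4 : om a (u + w) = 1 := by rw [om_add_right, hu, hw, add_zero]
    rcases h3 with h3 | h3 <;> rw [h3] at h4
    · rw [om_zero_right] at h4; exact absurd h4 (by decide)
    · rw [om_self] at h4; exact absurd h4 (by decide)
  · exact (h1 v).2 hv
  · exfalso
    exact D.dA (h.mem_of_mul_self (fun v => h1 v) D.dd)

/-- the first case: `A ≤ Q` -/
theorem case_top [Finite G] (hA : ∀ v, th v ∈ Q) : False := by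
  have h1 := card_le_two h D.ha Q D.isPGroup (fun q hq v => by
    rcases D.comm q hq _ (hA v) with h1 | h1
    · left; rw [h1, mul_inv_cancel_right]
    · right; rw [h1, ← mul_assoc, mul_inv_cancel_right, add_comm, h.add])
  have h2 := card_inf_le h Q Set.univ fun v _ => Set.mem_univ v
  rw [Set.ncard_univ, card_V] at h2
  rw [D.card] at h1
  omega

theorem cardN [Finite G] (hA : ∀ v, th v ∈ Q ↔ v = 0 ∨ v = a) : Nat.card (Q ⊓ normalizer (h.A : Set G) : Subgroup G) ≤ 4 := by
  have hP : IsPGroup 2 (Q ⊓ normalizer (h.A : Set G) : Subgroup G) := D.isPGroup.to_le inf_le_left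
  have h1 := card_le_two h D.ha (Q ⊓ normalizer (h.A : Set G)) hP (by
    rintro q ⟨hq, hqN⟩ v
    obtain ⟨u, hu⟩ := h.mem_normalizer.1 hqN v
    have h2 : th (u + v) ∈ Q := by
      have h3 := D.normal (th v) (h.comm v a) q⁻¹ (inv_mem hq)
      have h4 : th (u + v) = q * (th v * q⁻¹ * (th v)⁻¹) := by
        rw [h.add, ← hu, h.inv]; group
      rw [h4]
      exact mul_mem hq h3
    rcases (hA _).1 h2 with h3 | h3
    · left; rw [hu, (add_eq_zero_iff _ _).1 h3]
    · right; rw [hu]; congr 1
      rw [← h3, add_comm u v, self_add_add])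
  have h2 := card_inf_le h (Q ⊓ normalizer (h.A : Set G)) {0, a} (fun v hv => by
    rcases (hA v).1 hv.1 with h3 | h3
    · exact Or.inl h3
    · exact Or.inr h3)
  have h3 : ({0, a} : Set V).ncard ≤ 2 := (Set.ncard_insert_le _ _).trans (by rw [Set.ncard_singleton])
  omega

/-- the second case: `A ∩ Q = ⟨th a⟩` -/
theorem case_two [Finite G] (hA : ∀ v, th v ∈ Q ↔ v = 0 ∨ v = a) : False := by
  have h1 := D.cardN hA
  have h2 := Nat.le_of_dvd Nat.card_pos h.card_dvd_normalizer
  set N := normalizer (h.A : Set G) with hN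
  set C := centralizer ({th a} : Set G) with hC
  -- `|N| ≤ 63 |N ∩ C|`
  have hQC : Q ≤ C := by
    intro q hq
    rw [hC, mem_centralizer_singleton_iff]
    rcases D.comm q hq _ D.j_mem with h3 | h3
    · exact h3
    · rw [h3]
      exfalso
      rw [← mul_assoc, h.sq, one_mul] at h3
      exact D.ha ((h.eq_one_iff a).1 (mul_eq_left.1 h3))
  have h3 : Nat.card N ≤ 64 * Nat.card (N ⊓ C : Subgroup G) := by
    have h4 := card_orb N (th a)
    rw [h4]
    apply Nat.mul_le_mul_right
    have h5 : orb N (th a) ⊆ Set.range th := by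
      rintro _ ⟨n, hn, rfl⟩
      obtain ⟨u, hu⟩ := h.mem_normalizer.1 hn a
      exact ⟨u, hu.symm⟩
    refine (Set.ncard_le_ncard h5 (Set.toFinite _)).trans ?_
    rw [← Set.image_univ]
    refine (Set.ncard_image_le (Set.toFinite _)).trans ?_
    rw [Set.ncard_univ, card_V]
  -- `|N ∩ C| ≤ |N ∩ Q| |C : Q|`
  have h4 : Q.relIndex C = 51840 := by
    have h5 := card_mul_relIndex hQC
    rw [D.card, hC, D.cardC] at h5
    rw [hC]
    omega
  have h5 : Q.relIndex (N ⊓ C) ≤ 51840 := by
    rw [← h4]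
    exact relIndex_le_of_le_right inf_le_right (by rw [h4]; norm_num)
  have h6 := card_mul_relIndex_inf Q (N ⊓ C)
  have h8 : Q ⊓ (N ⊓ C) = Q ⊓ N :=
    le_antisymm (le_inf inf_le_left (inf_le_right.trans inf_le_left))
      (le_inf inf_le_left (le_inf inf_le_right (inf_le_left.trans hQC)))
  rw [h8] at h6
  rw [← h6] at h3
  have h7 : Nat.card (Q ⊓ N : Subgroup G) * Q.relIndex (N ⊓ C) ≤ 4 * 51840 := Nat.mul_le_mul h1 h5
  omega

theorem j_cen {q : G} (hq : q ∈ Q) : q * th a = th a * q := by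
  rcases D.comm q hq _ D.j_mem with h3 | h3
  · exact h3
  · rw [h3]
    exfalso
    rw [← mul_assoc, h.sq, one_mul] at h3
    exact D.ha ((h.eq_one_iff a).1 (mul_eq_left.1 h3))

theorem center_iff (x : Q) : x ∈ center Q ↔ (x : G) = 1 ∨ (x : G) = th a := by
  rw [mem_center_iff]
  constructor
  · intro h1
    exact D.cent x fun q hq => congrArg Subtype.val (h1 ⟨q, hq⟩)
  · rintro (h1 | h1) y
    · apply Subtype.ext
      show (y : G) * x = x * y
      rw [h1, mul_one, one_mul]
    · apply Subtype.ext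
      show (y : G) * x = x * y
      rw [h1]
      exact D.j_cen y.2

theorem card_center : Nat.card (center Q) = 2 := by
  have hm : (center Q : Set Q) = {1, ⟨th a, D.j_mem⟩} := by
    ext q
    rw [SetLike.mem_coe, D.center_iff, Set.mem_insert_iff, Set.mem_singleton_iff]
    constructor
    · rintro (h1 | h1)
      · exact Or.inl (Subtype.ext h1)
      · exact Or.inr (Subtype.ext h1)
    · rintro (rfl | rfl)
      · exact Or.inl rfl
      · exact Or.inr rfl
  have h1 : Nat.card (center Q) = (center Q : Set Q).ncard := rfl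
  rw [h1, hm, Set.ncard_pair]
  intro h2
  exact D.ha ((h.eq_one_iff a).1 (congrArg Subtype.val h2).symm)

theorem comm_le : commutator Q ≤ center Q := by
  rw [commutator_def, commutator_le]
  intro x _ y _
  rw [D.center_iff]
  rcases D.comm x x.2 y y.2 with h1 | h1
  · left
    show (x : G) * y * (x : G)⁻¹ * (y : G)⁻¹ = 1
    rw [h1]; group
  · right
    show (x : G) * y * (x : G)⁻¹ * (y : G)⁻¹ = th a
    rw [h1]; group

/-- the third case: `A ∩ Q = a^⊥` -/
theorem case_three [Finite G] (hA : ∀ v, th v ∈ Q ↔ om a v = 0) : False := by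
  have hcyc : IsCyclic (center Q) := by
    have : Fact (Nat.Prime 2) := ⟨Nat.prime_two⟩
    exact isCyclic_of_prime_card D.card_center
  set H : Subgroup Q := h.A.subgroupOf Q with hH
  have hHmem : ∀ x : Q, x ∈ H ↔ ∃ v, th v = x := fun x => by rw [hH, mem_subgroupOf]; rfl
  have hHw : ∀ x ∈ H, ∃ v, om a v = 0 ∧ th v = x := by
    intro x hx
    obtain ⟨v, hv⟩ := (hHmem x).1 hx
    exact ⟨v, (hA v).1 (by rw [hv]; exact x.2), hv⟩
  have hcen : center Q ≤ H := by
    intro x hx
    rw [hHmem]
    rcases (D.center_iff x).1 hx with h1 | h1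
    · exact ⟨0, by rw [h.zero, h1]⟩
    · exact ⟨a, h1.symm⟩
  have hcardH : Nat.card H = 32 := by
    rw [← card_perp D.ha]
    symm
    refine Nat.card_eq_of_bijective (fun v : {v : V // om a v = 0} =>
      (⟨⟨th v, (hA v).2 v.2⟩, mem_subgroupOf.2 (h.th_mem v)⟩ : H)) ⟨fun u v huv => ?_, fun x => ?_⟩
    · exact Subtype.ext (h.inj (congrArg (fun x : H => ((x : Q) : G)) huv))
    · obtain ⟨v, hv, hvx⟩ := hHw x x.2
      exact ⟨⟨v, hv⟩, Subtype.ext (Subtype.ext hvx)⟩
  have h1 := Cfsg.Agent.Lib.ClassTwoDuality.card_centralizer_mul_card D.comm_le hcyc H hcen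
  have h2 := Cfsg.Agent.Lib.ClassTwoDuality.centralizer_centralizer_eq D.comm_le hcyc H hcen
  rw [hcardH, D.card_center, D.card] at h1
  set R : Subgroup Q := centralizer (H : Set Q) with hR
  have hRc : Nat.card R = 128 := by omega
  set dq : Q := ⟨d, D.d_mem⟩ with hdq
  have hdH : dq ∉ H := by
    intro hh
    exact D.dA (mem_subgroupOf.1 hh)
  have hdR : dq ∈ R := by
    rw [hR, mem_centralizer_iff]
    intro x hx
    obtain ⟨v, hv, hvx⟩ := hHw x hx
    apply Subtype.ext
    show (x : G) * d = d * x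
    rw [← hvx]
    exact (D.d_comm v hv).symm
  obtain ⟨r, hr, hrd⟩ : ∃ r ∈ R, r * dq ≠ dq * r := by
    by_contra hcon
    push Not at hcon
    apply hdH
    rw [← h2, mem_centralizer_iff]
    exact fun y hy => hcon y hy
  -- `C_R(d) = H ∪ d H`
  have hHR : H ≤ R := by
    intro x hx
    rw [hR, mem_centralizer_iff]
    intro y hy
    obtain ⟨u, -, hu⟩ := hHw x hx
    obtain ⟨v, -, hv⟩ := hHw y hy
    apply Subtype.ext
    show (y : G) * x = x * y
    rw [← hu, ← hv]
    exact h.comm v u
  set D1 : Subgroup Q := R ⊓ centralizer ({dq} : Set Q) with hD1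
  have hmD1 : ∀ x, x ∈ D1 ↔ x ∈ R ∧ x * dq = dq * x := fun x => by
    rw [hD1, mem_inf, mem_centralizer_singleton_iff]
  have hHD1 : H ≤ D1 := by
    intro x hx
    rw [hmD1]
    refine ⟨hHR hx, ?_⟩
    exact (mem_centralizer_iff.1 hdR x hx)
  have hdD1 : dq ∈ D1 := (hmD1 _).2 ⟨hdR, rfl⟩
  have hD1R : D1 ≤ R := inf_le_left
  have e1 := card_mul_relIndex hHD1
  have e2 := card_mul_relIndex hD1R
  rw [hRc] at e2
  rw [hcardH] at e1
  have i1 : H.relIndex D1 ≠ 1 := by
    rw [Ne, relIndex_eq_one]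
    exact fun hle => hdH (hle hdD1)
  have i2 : D1.relIndex R ≠ 1 := by
    rw [Ne, relIndex_eq_one]
    exact fun hle => hrd ((hmD1 r).1 (hle hr)).2
  have i3 : H.relIndex D1 * D1.relIndex R = 4 := by
    rw [← e1, mul_assoc] at e2
    omega
  have i4 : H.relIndex D1 = 2 := by
    generalize H.relIndex D1 = x at *
    generalize D1.relIndex R = y at *
    have hx : x ≤ 4 := Nat.le_of_dvd (by norm_num) ⟨y, i3.symm⟩
    interval_cases x <;> omega
  have hcl : ∀ y ∈ D1, y ∈ H ∨ y * dq ∈ H := by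
    intro y hy
    have h3 := mul_mem_iff_of_index_two (H := H.subgroupOf D1) i4 (a := ⟨y, hy⟩) (b := ⟨dq, hdD1⟩)
    rw [mem_subgroupOf, mem_subgroupOf, mem_subgroupOf] at h3
    by_cases hyH : y ∈ H
    · exact Or.inl hyH
    · right
      exact h3.2 ⟨fun h4 => absurd h4 hyH, fun h4 => absurd h4 hdH⟩
  have hdd : dq * dq = 1 := Subtype.ext D.dd
  -- the commutator with `d`
  have hrd' : (r : G) * d = th a * (d * r) := by
    rcases D.comm r r.2 d D.d_mem with h3 | h3
    · exact absurd (Subtype.ext h3) hrd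
    · exact h3
  have hrj : (r : G) * th a = th a * r := D.j_cen r.2
  -- conjugates of `r`
  have key : ∀ v, ∃ u, (r : G)⁻¹ * th v * r = th u := by
    intro v
    have hvj : th v * th a = th a * th v := h.comm v a
    obtain ⟨x, hx⟩ : ∃ x : Q, (x : G) = th v * r * (th v)⁻¹ := ⟨⟨_, D.normal (th v) hvj r r.2⟩, rfl⟩
    have hxR : x ∈ R := by
      rw [hR, mem_centralizer_iff]
      intro y hy
      obtain ⟨w, hw, hwy⟩ := hHw y hy
      have h3 := congrArg (fun y : Q => (y : G)) (mem_centralizer_iff.1 hr y hy)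
      have h4 : th w * (r : G) = r * th w := by rw [hwy]; exact h3
      apply Subtype.ext
      show (y : G) * x = x * y
      rw [hx, ← hwy]
      calc th w * (th v * r * (th v)⁻¹) = (th w * th v) * r * (th v)⁻¹ := by group
        _ = th v * (th w * r) * (th v)⁻¹ := by rw [h.comm w v]; group
        _ = th v * r * (th w * (th v)⁻¹) := by rw [h4]; group
        _ = th v * r * (th v)⁻¹ * th w := by rw [h.inv, h.comm w v]; group
    have hxd : ¬ ((x : G) * d = d * x) := by
      intro h3
      rw [hx] at h3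
      -- `r` commutes with `(th v)⁻¹ d (th v)`
      have h4 : (r : G) * ((th v)⁻¹ * d * th v) = ((th v)⁻¹ * d * th v) * r := by
        calc (r : G) * ((th v)⁻¹ * d * th v) = (th v)⁻¹ * (th v * r * (th v)⁻¹ * d) * th v := by group
          _ = (th v)⁻¹ * (d * (th v * r * (th v)⁻¹)) * th v := by rw [h3]
          _ = _ := by group
      have h5 := D.dj (th v)⁻¹ (by rw [h.inv]; exact hvj)
      rw [inv_inv] at h5
      apply hrd
      apply Subtype.ext
      show (r : G) * d = d * r
      rcases h5 with h5 | h5 <;> rw [h5] at h4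
      · exact h4
      · have h6 : (r : G) * d * th a = d * r * th a := by
          rw [mul_assoc, h4, mul_assoc, ← hrj, ← mul_assoc]
        exact mul_right_cancel h6
    have hxd' : (x : G) * d = th a * (d * x) := (D.comm x x.2 d D.d_mem).resolve_left hxd
    have hyD : r⁻¹ * x ∈ D1 := by
      rw [hmD1]
      refine ⟨mul_mem (inv_mem hr) hxR, ?_⟩
      apply Subtype.ext
      show (r : G)⁻¹ * x * d = d * ((r : G)⁻¹ * x)
      have h3 : (r : G)⁻¹ * th a * d = d * (r : G)⁻¹ := by
        rw [mul_assoc, inv_mul_eq_iff_eq_mul, ← mul_assoc, hrd', mul_assoc, mul_assoc, mul_inv_cancel, mul_one]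
      calc (r : G)⁻¹ * x * d = (r : G)⁻¹ * (x * d) := by group
        _ = ((r : G)⁻¹ * th a * d) * x := by rw [hxd']; group
        _ = _ := by rw [h3, mul_assoc]
    rcases hcl _ hyD with h3 | h3
    · obtain ⟨u, hu⟩ := (hHmem _).1 h3
      have hu' : th u = (r : G)⁻¹ * x := hu
      refine ⟨u + v, ?_⟩
      rw [h.add, hu', hx]
      group
    · exfalso
      obtain ⟨u, hu, hux⟩ := hHw _ h3
      have hu' : th u = (r : G)⁻¹ * x * d := hux
      -- `x = r (th u) d`
      have hx2 : (x : G) = r * th u * d := by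
        rw [hu']
        calc (x : G) = r * ((r : G)⁻¹ * x) * (d * d) := by rw [D.dd]; group
          _ = _ := by group
      have hud : d * th u = th u * d := D.d_comm u hu
      have hru : (r : G) * th u = th u * r := by
        obtain ⟨y, hy⟩ : ∃ y : Q, (y : G) = th u := ⟨⟨th u, (hA u).2 hu⟩, rfl⟩
        have hyH : y ∈ H := (hHmem y).2 ⟨u, hy.symm⟩
        have h4 := congrArg (fun y : Q => (y : G)) (mem_centralizer_iff.1 hr y hyH)
        rw [← hy]
        exact h4.symm
      have hxx : (x : G) * x = th a * (r * r) := by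
        rw [hx2]
        calc (r : G) * th u * d * (r * th u * d) = (r * th u) * (d * (r * th u)) * d := by group
          _ = (th u * r) * (d * (th u * r)) * d := by rw [hru]
          _ = th u * r * (d * th u) * (r * d) := by group
          _ = th u * r * (th u * d) * (th a * (d * r)) := by rw [hud, hrd']
          _ = th u * (r * th u) * (d * th a) * d * r := by group
          _ = th u * (th u * r) * (th a * d) * d * r := by rw [hru, D.j_cen D.d_mem]
          _ = (th u * th u) * (r * th a) * (d * d) * r := by group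
          _ = th a * (r * r) := by rw [h.sq, D.dd, hrj]; group
      have hxx' : (x : G) * x = r * r := by
        have h4 : (r : G) * r * th v = th v * (r * r) := by
          rcases D.sq r r.2 with h5 | h5 <;> rw [h5]
          · rw [one_mul, mul_one]
          · exact h.comm a v
        rw [hx]
        calc th v * r * (th v)⁻¹ * (th v * r * (th v)⁻¹) = th v * (r * r) * (th v)⁻¹ := by group
          _ = r * r := by rw [← h4, mul_inv_cancel_right]
      rw [hxx'] at hxx
      exact D.ha ((h.eq_one_iff a).1 (mul_eq_right.1 hxx.symm))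
  -- the action of `r⁻¹`
  have hrN : (r : G)⁻¹ ∈ normalizer (h.A : Set G) := h.mem_normalizer.2 fun v => by
    obtain ⟨u, hu⟩ := key v
    exact ⟨u, by rw [inv_inv]; exact hu⟩
  have hrW : ∀ v, om a v = 0 → (r : G)⁻¹ * th v = th v * (r : G)⁻¹ := by
    intro v hv
    obtain ⟨y, hy⟩ : ∃ y : Q, (y : G) = th v := ⟨⟨th v, (hA v).2 hv⟩, rfl⟩
    have hyH : y ∈ H := (hHmem y).2 ⟨v, hy.symm⟩
    have h4 : (y : G) * r = r * y := congrArg (fun y : Q => (y : G)) (mem_centralizer_iff.1 hr y hyH)
    rw [hy] at h4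
    rw [inv_mul_eq_iff_eq_mul, ← mul_assoc, ← h4, mul_inv_cancel_right]
  have hH_of : ∀ q : Q, (q : G) ∈ h.A → q * dq = dq * q := by
    intro q hq
    exact (mem_centralizer_iff.1 hdR q (mem_subgroupOf.2 hq))
  have hdact : ∀ v, d * th v * d⁻¹ = th v ∨ d * th v * d⁻¹ = th (v + a) := by
    intro v
    have hvj : th v * th a = th a * th v := h.comm v a
    rcases D.dj (th v) hvj with h3 | h3
    · left
      rw [mul_inv_eq_iff_eq_mul] at h3
      rw [← h3, mul_inv_cancel_right]
    · right
      rw [mul_inv_eq_iff_eq_mul] at h3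
      have h4 : d⁻¹ = d := inv_eq_of_mul_eq_one_left D.dd
      rw [h4, mul_assoc, h3, add_comm, h.add]
      calc d * (d * th a * th v) = (d * d) * (th a * th v) := by group
        _ = _ := by rw [D.dd, one_mul]
  rcases act_cases h D.ha hdact (n := 2) (D.pow_one D.d_mem) with h3 | h3
  · exact D.dA h3
  rcases h.act_of_perp D.ha hrN hrW with h4 | h4
  · have h5 : (r : G)⁻¹ ∈ h.A := h.mem_of_sq (fun v => mul_inv_eq_iff_eq_mul.1 (h4 v)) (n := 2)
      (D.pow_one (inv_mem r.2))
    exact hrd (hH_of r (by simpa using inv_mem h5))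
  · -- `r⁻¹ d` centralises `A`
    have hm : (r : G)⁻¹ * d ∈ Q := mul_mem (inv_mem r.2) D.d_mem
    have h5 : (r : G)⁻¹ * d ∈ h.A := h.mem_of_sq (fun v => by
      have h6 : (r : G)⁻¹ * d * th v * ((r : G)⁻¹ * d)⁻¹ = th v := by
        rw [mul_inv_rev]
        calc (r : G)⁻¹ * d * th v * (d⁻¹ * (r : G)⁻¹⁻¹) = (r : G)⁻¹ * (d * th v * d⁻¹) * (r : G)⁻¹⁻¹ := by group
          _ = th (tv a (tv a v)) := by rw [h3, h4]
          _ = th v := by
            congr 1
            exact (tv a).left_inv v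
      exact mul_inv_eq_iff_eq_mul.1 h6) (n := 2) (D.pow_one hm)
    have h6 := hH_of (r⁻¹ * dq) h5
    apply hrd
    have h7 : r⁻¹ * dq = dq * r⁻¹ := by
      have h8 : r⁻¹ * dq * dq = dq * r⁻¹ * dq := by rw [h6, mul_assoc]
      exact mul_right_cancel h8
    calc r * dq = r * (dq * r⁻¹) * r := by group
      _ = r * (r⁻¹ * dq) * r := by rw [h7]
      _ = dq * r := by group

/-- **The contradiction.** -/
theorem false [Finite G] : False := by
  rcases h.inter_cases D.ha Q (fun k _ hk x hx => D.normal k hk x hx) with h1 | h1 | h1 | h1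
  · exact D.ha ((h1 a).1 D.j_mem)
  · exact D.case_two h1
  · exact D.case_three h1
  · exact D.case_top h1

end Dat

end Cfsg.Agent.H834.SpEnd
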