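import Cfsg.Agent.H841.Phi
import Cfsg.Agent.LThreeFi24.TwinK
import Cfsg.Agent.SporadicStructure.FSolEnd9

/-!
# `Fi24`: the 165 transpositions commuting with `x3` and `z`, kernel checks (helper834)

`P` : the points of the 165 transpositions, in the order `lb` of the labels of the transvections of `PSU(5, 2)`;
`sg` : the action of the five generators on the labels.
-/

set_option autoImplicit false
set_option maxRecDepth 100000
set_option Elab.async false

namespace Cfsg.Agent.H834.U5

open Cfsg Cfsg.Agent.Lib.PermNet Cfsg.Agent.Lib.PermNetPt Cfsg.Agent.Fischer.Fi24RepDef Cfsg.Agent.Fischer.Fi24Rep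
open Cfsg.Agent.Fischer.Fi24RepOrb (UG)
open Cfsg.Agent.KFacts.FiTF.FixMask (sv bl msk)
open Cfsg.Agent.LThreeFi24.SNineK
open Cfsg.Agent.LThreeFi24.FiveConj (eqB)
open Cfsg.Agent.LThreeFi24.TwinK (M3 wx3)
open Cfsg.Agent.SporadicStructure.FSolModel Cfsg.Agent.SporadicStructure.FSolEnd9
open Cfsg.Agent.Lib.FieldFour
open Cfsg.Spor (Fi24)
open Cfsg.Spor.Fi24 (Gen)

/-- the word of `z = (0 3)(1 4)(2 5)` -/
def zw : List Gen := [.j, .g, .f, .g, .j, .g, .f, .e, .f, .g, .f, .e, .d, .e, .f]

/-- the fifth generator -/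
def g5u : List Gen := [.i, .f, .e, .c, .d, .h, .g, .d, .e, .f, .c, .d, .e, .b, .c, .d, .h, .i, .g, .f, .e, .b, .c, .d, .h, .j, .g, .f, .e, .d, .c, .b]
def g5 : List Gen := g5u ++ Gen.a :: g5u.reverse

/-- the words of the five generators -/
def gw5 : List (List Gen) := [[.l], [.k], [.a], [.b], g5]

/-- the points of the five generators -/
def gp5 : List ℕ := [0, 307872, 1, 193, 22146]

/-- the 165 points -/
def P : List ℕ := [0, 1, 917, 11793, 11888, 4327, 12818, 13481, 10289, 22147, 12913, 1814, 13467, 4326, 12819, 13480, 10288, 22146,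
  12912, 1815, 13466, 13160, 4420, 9106, 19634, 819, 19440, 18992, 192, 818, 18993, 193, 19441, 13161, 9107, 19635,
  4421, 274187, 55024, 33296, 33872, 100547, 303382, 88977, 190020, 78749, 37849, 274071, 86658, 189845, 34696, 105264, 308000, 266352,
  54993, 87083, 86274, 100578, 266888, 67633, 68563, 61904, 251920, 291092, 86691, 80694, 252705, 105233, 308377, 266555, 307841, 33329,
  86307, 82855, 290966, 67600, 190053, 78780, 251953, 302186, 95267, 80663, 34729, 77515, 273337, 306116, 307872, 87050, 33905, 82822,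
  266099, 89008, 68594, 61937, 37880, 266313, 95234, 189876, 252672, 77546, 272176, 274219, 54992, 33328, 33904, 100579, 303414, 89009,
  190052, 78781, 37881, 274103, 86690, 189877, 34728, 105232, 307968, 266320, 55025, 87051, 86306, 100546, 266920, 67601, 68595, 61936,
  251952, 291124, 86659, 80662, 252673, 105265, 308409, 266523, 307873, 33297, 86275, 82823, 290998, 67632, 190021, 78748, 251921, 302154,
  95235, 80695, 34697, 77547, 273305, 306148, 307840, 87082, 33873, 82854, 266067, 88976, 68562, 61905, 37848, 266345, 95266, 189844,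
  252704, 77514, 272144]

/-- the labels -/
def lb : List L9 := [.x, .e 0 .o, .e 0 .i, .e 0 .w, .e 0 .v, .e 1 .o, .e 1 .i, .e 1 .w,
  .e 1 .v, .e 2 .o, .e 2 .i, .e 2 .w, .e 2 .v, .e 3 .o, .e 3 .i, .e 3 .w,
  .e 3 .v, .e 4 .o, .e 4 .i, .e 4 .w, .e 4 .v, .e 5 .o, .e 5 .i, .e 5 .w,
  .e 5 .v, .e 6 .o, .e 6 .i, .e 6 .w, .e 6 .v, .e 7 .o, .e 7 .i, .e 7 .w,
  .e 7 .v, .e 8 .o, .e 8 .i, .e 8 .w, .e 8 .v, .a false .o .o .o, .a false .o .o .i, .a false .o .o .w,
  .a false .o .o .v, .a false .o .i .o, .a false .o .i .i, .a false .o .i .w, .a false .o .i .v, .a false .o .w .o, .a false .o .w .i, .a false .o .w .w,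
  .a false .o .w .v, .a false .o .v .o, .a false .o .v .i, .a false .o .v .w, .a false .o .v .v, .a false .i .o .o, .a false .i .o .i, .a false .i .o .w,
  .a false .i .o .v, .a false .i .i .o, .a false .i .i .i, .a false .i .i .w, .a false .i .i .v, .a false .i .w .o, .a false .i .w .i, .a false .i .w .w,
  .a false .i .w .v, .a false .i .v .o, .a false .i .v .i, .a false .i .v .w, .a false .i .v .v, .a false .w .o .o, .a false .w .o .i, .a false .w .o .w,
  .a false .w .o .v, .a false .w .i .o, .a false .w .i .i, .a false .w .i .w, .a false .w .i .v, .a false .w .w .o, .a false .w .w .i, .a false .w .w .w,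
  .a false .w .w .v, .a false .w .v .o, .a false .w .v .i, .a false .w .v .w, .a false .w .v .v, .a false .v .o .o, .a false .v .o .i, .a false .v .o .w,
  .a false .v .o .v, .a false .v .i .o, .a false .v .i .i, .a false .v .i .w, .a false .v .i .v, .a false .v .w .o, .a false .v .w .i, .a false .v .w .w,
  .a false .v .w .v, .a false .v .v .o, .a false .v .v .i, .a false .v .v .w, .a false .v .v .v, .a true .o .o .o, .a true .o .o .i, .a true .o .o .w,
  .a true .o .o .v, .a true .o .i .o, .a true .o .i .i, .a true .o .i .w, .a true .o .i .v, .a true .o .w .o, .a true .o .w .i, .a true .o .w .w,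
  .a true .o .w .v, .a true .o .v .o, .a true .o .v .i, .a true .o .v .w, .a true .o .v .v, .a true .i .o .o, .a true .i .o .i, .a true .i .o .w,
  .a true .i .o .v, .a true .i .i .o, .a true .i .i .i, .a true .i .i .w, .a true .i .i .v, .a true .i .w .o, .a true .i .w .i, .a true .i .w .w,
  .a true .i .w .v, .a true .i .v .o, .a true .i .v .i, .a true .i .v .w, .a true .i .v .v, .a true .w .o .o, .a true .w .o .i, .a true .w .o .w,
  .a true .w .o .v, .a true .w .i .o, .a true .w .i .i, .a true .w .i .w, .a true .w .i .v, .a true .w .w .o, .a true .w .w .i, .a true .w .w .w,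
  .a true .w .w .v, .a true .w .v .o, .a true .w .v .i, .a true .w .v .w, .a true .w .v .v, .a true .v .o .o, .a true .v .o .i, .a true .v .o .w,
  .a true .v .o .v, .a true .v .i .o, .a true .v .i .i, .a true .v .i .w, .a true .v .i .v, .a true .v .w .o, .a true .v .w .i, .a true .v .w .w,
  .a true .v .w .v, .a true .v .v .o, .a true .v .v .i, .a true .v .v .w, .a true .v .v .v]

def sg0 : List ℕ := [0, 1, 2, 3, 4, 5, 6, 7, 8, 9, 10, 11, 12, 13, 14, 15, 16, 17, 18, 19, 20, 21, 22, 23, 24, 25, 26, 27,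
  28, 29, 30, 31, 32, 33, 34, 35, 36, 101, 102, 103, 104, 105, 106, 107, 108, 109, 110, 111, 112, 113, 114, 115, 116, 117, 118, 119,
  120, 121, 122, 123, 124, 125, 126, 127, 128, 129, 130, 131, 132, 133, 134, 135, 136, 137, 138, 139, 140, 141, 142, 143, 144, 145, 146, 147,
  148, 149, 150, 151, 152, 153, 154, 155, 156, 157, 158, 159, 160, 161, 162, 163, 164, 37, 38, 39, 40, 41, 42, 43, 44, 45, 46, 47,
  48, 49, 50, 51, 52, 53, 54, 55, 56, 57, 58, 59, 60, 61, 62, 63, 64, 65, 66, 67, 68, 69, 70, 71, 72, 73, 74, 75,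
  76, 77, 78, 79, 80, 81, 82, 83, 84, 85, 86, 87, 88, 89, 90, 91, 92, 93, 94, 95, 96, 97, 98, 99, 100]

def sg1 : List ℕ := [150, 134, 2, 38, 54, 5, 90, 94, 162, 151, 152, 149, 12, 138, 14, 114, 62, 120, 103, 19, 69, 159, 97, 23, 156, 25, 75, 125,
  52, 132, 43, 31, 141, 33, 79, 65, 108, 119, 3, 39, 71, 67, 78, 30, 44, 123, 122, 124, 121, 63, 50, 137, 28, 104, 4, 72,
  56, 147, 146, 148, 145, 61, 16, 49, 73, 35, 142, 41, 68, 20, 70, 40, 55, 64, 74, 26, 113, 77, 42, 34, 131, 111, 110, 112,
  109, 85, 86, 87, 88, 160, 6, 100, 92, 155, 7, 95, 99, 22, 98, 96, 91, 136, 102, 18, 53, 144, 130, 107, 36, 84, 82, 81,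
  83, 76, 15, 128, 116, 135, 118, 37, 17, 48, 46, 45, 47, 27, 126, 140, 115, 129, 106, 80, 29, 133, 1, 117, 101, 51, 13, 139,
  127, 32, 66, 143, 105, 60, 58, 57, 59, 11, 0, 9, 10, 163, 154, 93, 24, 164, 158, 21, 89, 161, 8, 153, 157]

def sg2 : List ℕ := [0, 1, 2, 3, 4, 13, 14, 15, 16, 17, 18, 19, 20, 5, 6, 7, 8, 9, 10, 11, 12, 33, 36, 34, 35, 29, 32, 30,
  31, 25, 27, 28, 26, 21, 23, 24, 22, 37, 118, 135, 152, 121, 42, 155, 140, 141, 158, 47, 128, 161, 146, 131, 52, 53, 102, 151,
  136, 105, 58, 139, 156, 157, 142, 63, 112, 145, 162, 115, 68, 69, 150, 103, 120, 153, 74, 123, 108, 109, 126, 79, 160, 129, 114, 163,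
  84, 85, 134, 119, 104, 137, 90, 107, 124, 125, 110, 95, 144, 113, 130, 147, 100, 101, 54, 71, 88, 57, 106, 91, 76, 77, 94, 111,
  64, 97, 82, 67, 116, 117, 38, 87, 72, 41, 122, 75, 92, 93, 78, 127, 48, 81, 98, 51, 132, 133, 86, 39, 56, 89, 138, 59,
  44, 45, 62, 143, 96, 65, 50, 99, 148, 149, 70, 55, 40, 73, 154, 43, 60, 61, 46, 159, 80, 49, 66, 83, 164]

def sg3 : List ℕ := [0, 28, 25, 27, 26, 19, 18, 20, 17, 35, 34, 36, 33, 22, 23, 21, 24, 8, 6, 5, 7, 15, 13, 14, 16, 2, 4, 3,
  1, 29, 30, 31, 32, 12, 10, 9, 11, 83, 125, 154, 40, 66, 80, 43, 85, 164, 46, 137, 55, 49, 95, 124, 134, 53, 75, 48,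
  98, 136, 58, 93, 115, 102, 156, 63, 81, 151, 41, 142, 68, 94, 116, 71, 121, 111, 161, 54, 76, 77, 131, 152, 42, 64, 82, 37,
  91, 44, 86, 129, 143, 89, 103, 84, 126, 59, 69, 50, 96, 138, 56, 99, 109, 147, 61, 90, 104, 130, 144, 107, 149, 100, 110, 73,
  119, 113, 159, 60, 70, 117, 139, 112, 162, 72, 122, 157, 51, 38, 92, 127, 145, 87, 105, 78, 132, 158, 52, 135, 57, 47, 97, 118,
  140, 141, 67, 88, 106, 128, 146, 101, 155, 108, 150, 65, 79, 153, 39, 148, 62, 123, 133, 114, 160, 74, 120, 163, 45]

def sg4 : List ℕ := [0, 9, 10, 11, 12, 29, 32, 30, 31, 1, 2, 3, 4, 33, 36, 34, 35, 17, 18, 19, 20, 25, 26, 27, 28, 21, 22, 23,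
  24, 5, 7, 8, 6, 13, 15, 16, 14, 37, 53, 69, 85, 156, 76, 124, 44, 126, 46, 94, 142, 147, 163, 51, 67, 38, 54, 134,
  150, 155, 75, 59, 107, 61, 109, 93, 141, 84, 100, 52, 68, 39, 119, 71, 151, 90, 74, 58, 42, 128, 112, 96, 80, 81, 161, 113,
  65, 40, 120, 136, 88, 89, 73, 121, 105, 63, 47, 95, 79, 146, 98, 114, 66, 101, 117, 133, 149, 92, 140, 60, 108, 62, 110, 158,
  78, 83, 99, 115, 131, 102, 118, 70, 86, 91, 139, 123, 43, 125, 45, 157, 77, 148, 164, 116, 132, 103, 55, 135, 87, 154, 138, 122,
  106, 64, 48, 160, 144, 145, 97, 49, 129, 104, 56, 72, 152, 153, 137, 57, 41, 127, 111, 159, 143, 82, 162, 50, 130]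

/-- the action of the generators on the labels -/
def sg : List (List ℕ) := [sg0, sg1, sg2, sg3, sg4]

/-- the labels of the five generators -/
def gl : List ℕ := [0, 86, 1, 31, 17]

/-- the word takes the points of the first list to the points of the second list -/
noncomputable def act2 (w : List Net) : List ℕ → List ℕ → Bool
  | [], _ => true
  | p :: ps, qs => and (chkPt w p (qs.headD 0)) (act2 w ps qs.tail)

theorem act2_0 : act2 (nw (gw5.getD 0 []) false) P (sg0.map fun i => P.getD i 0) = true := by decide +kernel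
theorem act2_1 : act2 (nw (gw5.getD 1 []) false) P (sg1.map fun i => P.getD i 0) = true := by decide +kernel
theorem act2_2 : act2 (nw (gw5.getD 2 []) false) P (sg2.map fun i => P.getD i 0) = true := by decide +kernel
theorem act2_3 : act2 (nw (gw5.getD 3 []) false) P (sg3.map fun i => P.getD i 0) = true := by decide +kernel

theorem act2_join (w : List Net) : ∀ (n : ℕ) (ps qs : List ℕ), act2 w (ps.take n) qs = true →
    act2 w (ps.drop n) (qs.drop n) = true → act2 w ps qs = true
  | 0, _, _, _, h => h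
  | _ + 1, [], _, h, _ => h
  | n + 1, p :: ps, qs, h, h' => by
    have h1 : and (chkPt w p (qs.headD 0)) (act2 w (ps.take n) qs.tail) = true := h
    have h2 : act2 w (ps.drop n) (qs.tail.drop n) = true := by
      cases qs with
      | nil =>
        rw [List.tail_nil, List.drop_nil]
        rw [List.drop_nil] at h'
        exact h'
      | cons q qs => exact h'
    rw [Bool.and_eq_true] at h1
    show and (chkPt w p (qs.headD 0)) (act2 w ps qs.tail) = true
    rw [Bool.and_eq_true]
    exact ⟨h1.1, act2_join w n ps qs.tail h1.2 h2⟩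

theorem act2_4a : act2 (nw (gw5.getD 4 []) false) (P.take 42) (sg4.map fun i => P.getD i 0) = true := by decide +kernel
theorem act2_4b : act2 (nw (gw5.getD 4 []) false) ((P.drop 42).take 41) ((sg4.map fun i => P.getD i 0).drop 42) = true := by
  decide +kernel
theorem act2_4c : act2 (nw (gw5.getD 4 []) false) (((P.drop 42).drop 41).take 41)
    (((sg4.map fun i => P.getD i 0).drop 42).drop 41) = true := by decide +kernel
theorem act2_4d : act2 (nw (gw5.getD 4 []) false) (((P.drop 42).drop 41).drop 41)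
    ((((sg4.map fun i => P.getD i 0).drop 42).drop 41).drop 41) = true := by decide +kernel

theorem act2_4 : act2 (nw (gw5.getD 4 []) false) P (sg4.map fun i => P.getD i 0) = true :=
  act2_join _ 42 _ _ act2_4a (act2_join _ 41 _ _ act2_4b (act2_join _ 41 _ _ act2_4c act2_4d))

/-- the points left by the first six planes -/
def P5 : List ℕ := [0, 1, 192, 193, 818, 819, 917, 1814, 1815, 4326, 4327, 4420, 4421, 9106, 9107, 10288, 10289,
  11793, 11888, 12818, 12819, 12912, 12913, 13160, 13161, 13466, 13467, 13480, 13481, 18992, 18993, 19166, 19167,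
  19440, 19441, 19634, 19635, 21918, 21919, 22146, 22147, 26212, 26213, 27172, 27173, 33296, 33297, 33328, 33329,
  33872, 33873, 33904, 33905, 34696, 34697, 34728, 34729, 37848, 37849, 37880, 37881, 54992, 54993, 55004, 55024,
  55025, 55036, 61904, 61905, 61916, 61917, 61936, 61937, 61948, 61949, 63390, 63391, 63422, 63423, 67600, 67601,
  67632, 67633, 68562, 68563, 68594, 68595, 73502, 73503, 73534, 73535, 77514, 77515, 77546, 77547, 78748, 78749,
  78780, 78781, 80028, 80029, 80060, 80061, 80662, 80663, 80694, 80695, 82822, 82823, 82854, 82855, 83678, 83679,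
  83710, 83711, 86274, 86275, 86306, 86307, 86658, 86659, 86690, 86691, 87050, 87051, 87082, 87083, 88782, 88783,
  88814, 88815, 88976, 88977, 89008, 89009, 94228, 94229, 94260, 94261, 95234, 95235, 95266, 95267, 98190, 98191,
  98222, 98223, 100546, 100547, 100578, 100579, 105232, 105233, 105264, 105265, 189844, 189845, 189876, 189877,
  190020, 190021, 190052, 190053, 202772, 202773, 202804, 202805, 209420, 209421, 209452, 209453, 209608, 209609,
  209640, 209641, 229320, 229321, 229352, 229353, 229452, 229453, 229484, 229485, 251742, 251743, 251774, 251775,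
  251920, 251921, 251952, 251953, 252672, 252673, 252704, 252705, 266067, 266099, 266313, 266320, 266345, 266352,
  266523, 266555, 266888, 266920, 272144, 272176, 272351, 272383, 273305, 273337, 274071, 274103, 274187, 274219,
  275167, 275199, 285596, 285628, 290966, 290998, 291092, 291124, 293140, 293141, 293172, 293173, 293204, 293205,
  293236, 293237, 302154, 302186, 303382, 303414, 306116, 306148, 307840, 307841, 307872, 307873, 307968, 308000,
  308377, 308409]

theorem sv_app (w : List Net) (bs bs' : List ℕ) (A : ℕ) : sv w (bs ++ bs') A = sv w bs' (sv w bs A) := by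
  induction bs generalizing A with
  | nil => rfl
  | cons b bs ih =>
    rw [List.cons_append, Cfsg.Agent.KFacts.FiTF.FixMask.sv_cons, Cfsg.Agent.KFacts.FiTF.FixMask.sv_cons, ih]

theorem st_z1 : Nat.beq (sv (nw zw false) [0, 1, 2, 3, 4, 5] M3) (msk P5) = true := by decide +kernel
theorem st_z2 : Nat.beq (sv (nw zw false) [6, 7, 8, 9, 10, 11] (msk P5)) (msk P) = true := by decide +kernel
theorem st_z3 : Nat.beq (sv (nw zw false) [12, 13, 14, 15, 16, 17, 18] (msk P)) (msk P) = true := by decide +kernel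

theorem st_z : Nat.beq (sv (nw zw false) bl M3) (msk P) = true := by
  have h : sv (nw zw false) bl M3 = msk P := by
    have e : bl = [0, 1, 2, 3, 4, 5] ++ ([6, 7, 8, 9, 10, 11] ++ [12, 13, 14, 15, 16, 17, 18]) := rfl
    rw [e, sv_app, sv_app, Nat.eq_of_beq_eq_true st_z1, Nat.eq_of_beq_eq_true st_z2, Nat.eq_of_beq_eq_true st_z3]
  rw [h]
  exact Nat.beq_refl _

/-- the three transpositions with product `z` commute with the generators -/
theorem fix3 : (gw5.all fun w => [100, 680, 3522].all fun p => chkPt (nw w false) p p) = true := by decide +kernel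

/-- the generators commute with `x3` -/
theorem fixx : (gp5.all fun p => chkPt (nw wx3 false) p p) = true := by decide +kernel

/-- the fifth generator -/
theorem pt5 : chkPt (nw (g5u ++ Cfsg.Agent.Fischer.Fi24Spider.gword .a) false) 0 22146 = true := by decide +kernel

/-- labels and vectors -/
theorem lb_len : lb.length = 165 := by decide
theorem P_len : P.length = 165 := by decide

def u917 : List Gen := [.h, .d, .e, .b, .c, .d, .h, .f, .g, .e, .f, .d, .e, .c, .d, .h, .j, .g, .f, .e, .d, .c]
theorem pt917 : chkPt (nw (u917 ++ Cfsg.Agent.Fischer.Fi24Spider.gword .b) false) 0 917 = true := by decide +kernel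
def u11793 : List Gen := [.h, .i, .d, .h, .f, .g, .e, .f, .d, .e, .c, .d, .h, .i, .g, .f, .d, .e, .b, .c, .d, .h, .j, .g, .f, .e, .d, .c, .b]
theorem pt11793 : chkPt (nw (u11793 ++ Cfsg.Agent.Fischer.Fi24Spider.gword .a) false) 0 11793 = true := by decide +kernel
def u11888 : List Gen := [.h, .i, .d, .h, .f, .g, .e, .f, .d, .e, .c, .d, .h, .i, .h, .g, .f, .c, .d, .e, .b, .c, .d, .h, .j, .g, .f, .e, .d, .c, .b]
theorem pt11888 : chkPt (nw (u11888 ++ Cfsg.Agent.Fischer.Fi24Spider.gword .a) false) 0 11888 = true := by decide +kernel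

theorem eqz : eqB ([.l, .a] ++ ((u917 ++ .b :: u917.reverse) ++ ((u11793 ++ .a :: u11793.reverse) ++ (u11888 ++ .a :: u11888.reverse)))) zw = true := by
  decide +kernel

/-- the word of `(6 7 8)` -/
def cw : List Gen := .i :: (uw ++ Gen.c :: uw.reverse)

theorem nfix_c : chkPt (nw cw false) 22146 22146 = false := by decide +kernel

/-- the vector of a label up to a scalar -/
def prB (u v : V9) : Bool := or (u == v) (or (u == F4.w • v) (u == F4.v • v))

/-- the generator acts on the labels as a transvection -/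
def trB (l : L9) : List L9 → List ℕ → Bool
  | [], _ => true
  | m :: ms, s => and (prB (vec9 m + h9 (vec9 m) (vec9 l) • vec9 l) (vec9 (lb.getD (s.headD 0) .x))) (trB l ms s.tail)

theorem tr_0 : trB (lb.getD 0 .x) lb sg0 = true := by decide +kernel
theorem tr_1 : trB (lb.getD 86 .x) lb sg1 = true := by decide +kernel
theorem tr_2 : trB (lb.getD 1 .x) lb sg2 = true := by decide +kernel
theorem tr_3 : trB (lb.getD 31 .x) lb sg3 = true := by decide +kernel
theorem tr_4 : trB (lb.getD 17 .x) lb sg4 = true := by decide +kernel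

end Cfsg.Agent.H834.U5
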