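import Cfsg.Agent.H834.U5Chk

/-!
# `Fi24`: the 165 transpositions commuting with `x3` and `z`, checks on the labels (helper834)
-/

set_option autoImplicit false
set_option maxRecDepth 100000
set_option Elab.async false

namespace Cfsg.Agent.H834.U5

open Cfsg.Agent.SporadicStructure.FSolModel Cfsg.Agent.SporadicStructure.FSolEnd9
open Cfsg.Agent.Lib.FieldFour

/-- the generator `k` on labels -/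
def sgf (k i : ℕ) : ℕ := (sg.getD k []).getD i 0

/-- words in the generators taking the label `0` to the label `i` -/
def paths : List (List ℕ) := [[],
  [1, 2, 0, 1],
  [4, 3, 1, 4, 2, 0, 1, 4, 3, 2, 1],
  [3, 1, 2, 1, 4, 3, 2, 4, 1],
  [3, 2, 1, 4, 2, 3, 4, 2, 1],
  [2, 3, 1, 2, 4, 3, 1, 4, 2, 1],
  [1, 4, 1, 2, 3, 4, 2, 1],
  [4, 1, 2, 4, 3, 2, 4, 1],
  [3, 1, 4, 0, 1],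
  [4, 1, 2, 0, 1],
  [3, 1, 4, 2, 0, 1, 4, 3, 2, 1],
  [3, 1, 2, 4, 3, 1, 4, 3, 2, 1],
  [4, 3, 2, 1, 4, 2, 3, 4, 2, 1],
  [3, 1, 2, 4, 3, 1, 4, 2, 1],
  [2, 1, 4, 1, 2, 3, 4, 2, 1],
  [1, 4, 2, 3, 1, 2, 4, 1],
  [2, 3, 1, 4, 0, 1],
  [1, 4, 0, 1],
  [3, 1, 4, 1, 2, 3, 4, 2, 1],
  [2, 3, 1, 2, 4, 3, 1, 4, 3, 2, 1],
  [3, 4, 1, 2, 4, 3, 2, 4, 1],
  [3, 1, 4, 2, 3, 1, 2, 4, 1],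
  [1, 2, 4, 3, 1, 4, 2, 1],
  [4, 1, 2, 1, 4, 3, 2, 4, 1],
  [4, 3, 1, 2, 0, 1],
  [4, 3, 1, 4, 2, 3, 1, 2, 4, 1],
  [2, 1, 4, 2, 3, 4, 2, 1],
  [1, 2, 1, 4, 3, 2, 4, 1],
  [3, 1, 2, 0, 1],
  [4, 2, 3, 1, 2, 4, 3, 1, 4, 2, 1],
  [1, 2, 4, 3, 2, 4, 1],
  [2, 3, 1, 2, 0, 1],
  [1, 4, 2, 3, 4, 2, 1],
  [4, 3, 1, 2, 4, 3, 1, 4, 2, 1],
  [1, 4, 2, 0, 1, 4, 3, 2, 1],
  [3, 4, 1, 2, 0, 1],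
  [1, 2, 4, 3, 1, 4, 3, 2, 1],
  [1, 4, 2, 1],
  [3, 2, 1, 4, 3, 2, 4, 1],
  [3, 4, 1, 2, 4, 3, 2, 1],
  [4, 3, 2, 4, 1, 2, 3, 4, 1],
  [1, 4, 3, 2, 0, 1],
  [3, 1, 4, 3, 2, 1],
  [2, 4, 3, 2, 4, 1],
  [2, 4, 1, 2, 3, 4, 1],
  [3, 4, 2, 3, 4, 1],
  [2, 4, 1, 2, 3, 2, 4, 2, 1],
  [3, 1, 2, 4, 3, 2, 1],
  [3, 4, 2, 0, 1],
  [4, 3, 1, 2, 4, 1],
  [4, 2, 3, 1, 4, 2, 1],
  [2, 4, 3, 2, 1],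
  [3, 2, 0, 1],
  [4, 3, 2, 1, 4, 3, 2, 4, 1],
  [2, 3, 2, 1, 4, 2, 3, 4, 1],
  [4, 2, 0, 1],
  [4, 1],
  [3, 2, 4, 1],
  [1, 2, 4, 2, 3, 1, 4, 2, 1],
  [1, 4, 3, 2, 4, 2, 1],
  [3, 2, 4, 3, 2, 0, 1],
  [2, 1, 4, 2, 3, 4, 1],
  [2, 3, 4, 3, 2, 0, 1],
  [1, 4, 3, 1, 2, 4, 1],
  [2, 3, 4, 2, 1],
  [3, 2, 4, 2, 0, 1],
  [2, 3, 4, 0, 1],
  [4, 3, 2, 0, 1],
  [0, 1, 4, 2, 3, 1, 2, 4, 3, 1, 4, 2, 1],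
  [3, 4, 3, 1, 2, 4, 3, 2, 1],
  [2, 1],
  [2, 3, 4, 1, 2, 3, 4, 2, 1],
  [2, 4, 0, 1],
  [1, 2, 3, 4, 2, 1],
  [3, 2, 4, 3, 1, 2, 4, 1],
  [2, 3, 1, 4, 2, 3, 4, 1],
  [4, 3, 1, 4, 3, 2, 1],
  [4, 2, 3, 4, 2, 0, 1],
  [3, 4, 3, 2, 1],
  [4, 2, 0, 1, 4, 3, 2, 1],
  [1, 4, 3, 2, 1],
  [2, 3, 2, 4, 2, 1],
  [2, 4, 2, 3, 1, 2, 4, 1],
  [3, 1, 4, 2, 1],
  [4, 3, 2, 4, 2, 0, 1],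
  [3, 2, 4, 1, 2, 3, 4, 1],
  [0, 1],
  [2, 4, 2, 1],
  [3, 4, 2, 1, 4, 3, 2, 1],
  [1, 2, 1, 4, 3, 2, 1],
  [4, 1, 2, 3, 4, 2, 1],
  [4, 3, 2, 4, 0, 1],
  [4, 2, 3, 2, 4, 1],
  [1, 4, 3, 2, 4, 1],
  [4, 3, 1, 2, 4, 3, 2, 1],
  [3, 4, 2, 3, 1, 4, 2, 1],
  [2, 0, 1, 4, 3, 2, 1],
  [2, 4, 3, 1, 4, 2, 1],
  [3, 4, 1],
  [2, 3, 1, 2, 4, 1],
  [4, 2, 3, 4, 0, 1],
  [1, 2, 4, 1],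
  [3, 2, 1, 4, 2, 3, 4, 1],
  [3, 4, 1, 2, 3, 4, 2, 1],
  [2, 3, 4, 2, 1, 4, 3, 2, 1],
  [2, 3, 2, 4, 1],
  [1, 2, 3, 4, 1],
  [2, 4, 3, 2, 4, 0, 1],
  [2, 4, 3, 1, 4, 3, 2, 1],
  [3, 4, 2, 3, 4, 0, 1],
  [2, 4, 3, 1, 2, 4, 3, 2, 1],
  [1, 2, 3, 2, 4, 2, 1],
  [3, 4, 2, 1],
  [4, 3, 1, 4, 2, 1],
  [4, 2, 3, 1, 2, 4, 1],
  [2, 4, 3, 2, 0, 1],
  [3, 2, 1],
  [4, 3, 2, 1, 4, 2, 3, 4, 1],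
  [3, 2, 1, 4, 3, 2, 4, 2, 1],
  [4, 2, 1],
  [4, 0, 1],
  [3, 2, 4, 0, 1],
  [4, 2, 1, 4, 3, 2, 4, 2, 1],
  [3, 1, 4, 2, 3, 4, 1],
  [3, 2, 4, 3, 2, 1],
  [2, 1, 4, 3, 2, 4, 1],
  [2, 3, 4, 3, 2, 1],
  [1, 4, 1, 2, 3, 4, 1],
  [2, 3, 4, 2, 0, 1],
  [3, 2, 4, 2, 1],
  [2, 3, 4, 1],
  [4, 3, 2, 1],
  [1, 4, 2, 3, 1, 2, 4, 3, 1, 4, 2, 1],
  [3, 4, 1, 2, 3, 2, 4, 2, 1],
  [2, 0, 1],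
  [2, 3, 4, 1, 2, 4, 3, 2, 1],
  [2, 4, 1],
  [1, 2, 4, 3, 2, 1],
  [3, 2, 4, 3, 1, 4, 2, 1],
  [2, 1, 4, 3, 2, 4, 2, 1],
  [4, 1, 2, 3, 4, 1],
  [4, 2, 3, 4, 2, 1],
  [3, 4, 3, 2, 0, 1],
  [4, 2, 1, 4, 3, 2, 1],
  [0, 1, 4, 3, 2, 1],
  [2, 3, 2, 4, 2, 0, 1],
  [2, 4, 2, 3, 1, 4, 2, 1],
  [3, 1, 2, 4, 1],
  [4, 3, 2, 4, 2, 1],
  [3, 2, 4, 3, 1, 4, 3, 2, 1],
  [1],
  [2, 4, 2, 0, 1],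
  [3, 4, 2, 0, 1, 4, 3, 2, 1],
  [1, 2, 3, 1, 4, 2, 1],
  [4, 1, 2, 4, 3, 2, 1],
  [4, 3, 2, 4, 1],
  [1, 4, 3, 1, 2, 0, 1],
  [1, 4, 2, 3, 4, 1],
  [4, 1, 2, 3, 2, 4, 2, 1],
  [3, 4, 2, 3, 1, 2, 4, 1],
  [2, 1, 4, 3, 2, 1],
  [2, 4, 3, 1, 2, 4, 1],
  [3, 4, 0, 1],
  [2, 3, 1, 4, 2, 1],
  [4, 2, 3, 4, 1]]

/-- the value of a path -/
def ev (l : List ℕ) : ℕ := l.foldr sgf 0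

theorem chk_paths : ((List.range 165).all fun i => and (Nat.beq (ev (paths.getD i [])) i)
    ((paths.getD i []).all fun k => Nat.blt k 5)) = true := by decide +kernel

theorem chk_row : ((List.range 165).all fun j => Nat.beq (sgf 0 j) j ==
    (h9 (vec9 (lb.getD j .x)) (vec9 (lb.getD 0 .x)) == 0)) = true := by decide +kernel

theorem chk_lt : ((List.range 5).all fun k => (List.range 165).all fun j => Nat.blt (sgf k j) 165) = true := by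
  decide +kernel

theorem chk_inv : ((List.range 5).all fun k => (List.range 165).all fun j => Nat.beq (sgf k (sgf k j)) j) = true := by
  decide +kernel

theorem chk_nodup : P.Nodup := by decide +kernel

theorem chk_lb : lb.Nodup := by decide +kernel

theorem chk_gl : (List.range 5).all (fun k => Nat.beq (P.getD (gl.getD k 0) 0) (gp5.getD k 0)) = true := by
  decide +kernel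

theorem mem_lb (l : L9) : l ∈ lb := by
  cases l with
  | x => decide
  | e k g => revert k g; decide +kernel
  | a ε a b d => revert ε a b d; decide +kernel

end Cfsg.Agent.H834.U5

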