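import Cfsg.Agent.H834.U5Chk2
import Cfsg.Agent.LThreeFi24.CaseB

/-!
# `Fi24`: the transpositions commuting with `x3` and `z` and `PSU(5, 2)` (helper834)

`x3 = (0 1 2)(3 4 5)(6 7 8)`, `z0 = (0 3)(1 4)(2 5)` in `S₉`; `T0` the 165 transpositions commuting with both,
`S0 = ⟨T0⟩`.
* `exists_hom` : `f : S0 →* PSU 5 F4 2` onto, with kernel `{1, z0}`, injective on `T0`;
* `ncard_le_five` : at most five pairwise commuting members of `T0`.
-/

set_option autoImplicit false
set_option maxRecDepth 100000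

namespace Cfsg.Agent.H834.U5

open Cfsg Cfsg.Agent.Lib.PermNet Cfsg.Agent.Lib.PermNetPt Cfsg.Agent.Fischer.Fi24RepDef Cfsg.Agent.Fischer.Fi24Rep
open Cfsg.Agent.Fischer.Fi24RepOrb (UG orbG)
open Cfsg.Agent.Fischer.Fi24Spider (word_append word_cons word_nil gword gen_conj)
open Cfsg.Agent.KFacts.FiTF.Pts Cfsg.Agent.KFacts.FiTF.FixMask
open Cfsg.Agent.KFacts.FiTF.Defs (tr)
open Cfsg.Agent.LThreeFi24.SNine Cfsg.Agent.LThreeFi24.SNineK
open Cfsg.Agent.LThreeFi24.FiveConj (eq_of_eqB)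
open Cfsg.Agent.LThreeFi24.CaseB (mask3 word_x3)
open Cfsg.Agent.LThreeFi24.TwinK (M3 wx3)
open Cfsg.Agent.R08.FiTwentyFour (L)
open Cfsg.Agent.H841.Five
open Cfsg.Agent.SporadicStructure.FSolModel Cfsg.Agent.SporadicStructure.FSolEnd9
open Cfsg.Agent.SporadicStructure.FischerSpace
open Cfsg.Agent.Lib.FieldFour
open Cfsg.Spor (Fi24)
open Cfsg.Spor.Fi24 (Gen)
open Equiv

/-- `z = (0 3)(1 4)(2 5)` -/
noncomputable def z0 : Fi24 := word zw

/-- the transpositions commuting with `x3` and `z0` -/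
def T0 : Set Fi24 := {t | t ∈ L ∧ t * x3 = x3 * t ∧ t * z0 = z0 * t}

/-- the subgroup generated by them -/
def S0 : Subgroup Fi24 := Subgroup.closure T0

/-! ### The five generators -/

/-- the generators -/
noncomputable def ge (k : ℕ) : Fi24 := word (gw5.getD k [])

theorem isPt_ge {k : ℕ} (hk : k < 5) : IsPt (ge k) (gp5.getD k 0) := by
  have key : ∀ x : Gen, IsPt (word [x]) (pn x) := by
    intro x
    rw [word_cons, word_nil, mul_one]
    exact isPt_gen x
  interval_cases k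
  · exact key .l
  · exact key .k
  · exact key .a
  · exact key .b
  · exact IsPt.of_word (u := g5u) (x := .a) pt5

theorem act2_spec {w : List Net} : ∀ {ps qs : List ℕ}, act2 w ps qs = true → ∀ i < ps.length,
    chkPt w (ps.getD i 0) (qs.getD i 0) = true
  | [], _, _, i, hi => absurd hi (by simp)
  | p :: ps, qs, h, i, hi => by
    have h' : and (chkPt w p (qs.headD 0)) (act2 w ps qs.tail) = true := h
    rw [Bool.and_eq_true] at h'
    rcases i with _ | i
    · have e : qs.getD 0 0 = qs.headD 0 := by cases qs <;> rfl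
      rw [e]
      exact h'.1
    · have e : qs.getD (i + 1) 0 = qs.tail.getD i 0 := by cases qs <;> simp
      rw [e]
      exact act2_spec h'.2 i (by simpa using hi)

/-- the point of a label -/
def pt (i : ℕ) : ℕ := P.getD i 0

theorem rho_ge {k : ℕ} (hk : k < 5) {i : ℕ} (hi : i < 165) : rho (ge k) (pt i) = pt (sgf k i) := by
  have key : ∀ (w : List Gen) (s : List ℕ), s.length = 165 →
      act2 (nw w false) P (s.map fun i => P.getD i 0) = true → rho (word w) (pt i) = pt (s.getD i 0) := by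
    intro w s hs h
    have h1 := act2_spec h i (by rw [P_len]; exact hi)
    have h2 : (s.map fun i => P.getD i 0).getD i 0 = P.getD (s.getD i 0) 0 := by
      rw [List.getD_eq_getElem _ _ (by rw [List.length_map, hs]; exact hi), List.getElem_map,
        List.getD_eq_getElem s 0 (by rw [hs]; exact hi)]
    rw [h2] at h1
    exact rho_of_chkPt h1
  interval_cases k
  · exact key _ sg0 (by decide) act2_0
  · exact key _ sg1 (by decide) act2_1
  · exact key _ sg2 (by decide) act2_2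
  · exact key _ sg3 (by decide) act2_3
  · exact key _ sg4 (by decide) act2_4

theorem sgf_lt {k i : ℕ} (hk : k < 5) (hi : i < 165) : sgf k i < 165 := by
  have h := chk_lt
  rw [List.all_eq_true] at h
  have h1 := h k (List.mem_range.2 hk)
  rw [List.all_eq_true] at h1
  have h2 := h1 i (List.mem_range.2 hi)
  exact Nat.le_of_ble_eq_true h2

theorem sgf_inv {k i : ℕ} (hk : k < 5) (hi : i < 165) : sgf k (sgf k i) = i := by
  have h := chk_inv
  rw [List.all_eq_true] at h
  have h1 := h k (List.mem_range.2 hk)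
  rw [List.all_eq_true] at h1
  exact Nat.eq_of_beq_eq_true (h1 i (List.mem_range.2 hi))

theorem pt_inj {i j : ℕ} (hi : i < 165) (hj : j < 165) (h : pt i = pt j) : i = j := by
  have hi' : i < P.length := by rw [P_len]; exact hi
  have hj' : j < P.length := by rw [P_len]; exact hj
  unfold pt at h
  rw [List.getD_eq_getElem _ _ hi', List.getD_eq_getElem _ _ hj'] at h
  exact (chk_nodup.getElem_inj_iff).1 h

theorem pt_zero : pt 0 = 0 := by decide

/-! ### The transpositions of the labels -/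

/-- the product of a path -/
noncomputable def pr (l : List ℕ) : Fi24 := l.foldr (fun k g => ge k * g) 1

theorem pr_cons (k : ℕ) (l : List ℕ) : pr (k :: l) = ge k * pr l := rfl

theorem ev_cons (k : ℕ) (l : List ℕ) : ev (k :: l) = sgf k (ev l) := rfl

theorem rho_pr {l : List ℕ} (h : ∀ k ∈ l, k < 5) : ev l < 165 ∧ rho (pr l) 0 = pt (ev l) := by
  induction l with
  | nil =>
    refine ⟨by decide, ?_⟩
    show rho (1 : Fi24) 0 = pt 0
    rw [map_one, pt_zero]; rfl
  | cons k l ih =>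
    obtain ⟨h1, h2⟩ := ih fun x hx => h x (List.mem_cons_of_mem _ hx)
    have hk := h k List.mem_cons_self
    refine ⟨by rw [ev_cons]; exact sgf_lt hk h1, ?_⟩
    rw [pr_cons, map_mul, Equiv.Perm.mul_apply, h2, rho_ge hk h1, ev_cons]

theorem path_spec {i : ℕ} (hi : i < 165) : (∀ k ∈ paths.getD i [], k < 5) ∧ ev (paths.getD i []) = i := by
  have h := chk_paths
  rw [List.all_eq_true] at h
  have h1 := h i (List.mem_range.2 hi)
  rw [Bool.and_eq_true, List.all_eq_true] at h1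
  exact ⟨fun k hk => Nat.le_of_ble_eq_true (h1.2 k hk), Nat.eq_of_beq_eq_true h1.1⟩

/-- the transposition of a label -/
noncomputable def Ps (i : ℕ) : Fi24 := pr (paths.getD i []) * gen .l * (pr (paths.getD i []))⁻¹

theorem isPt_Ps {i : ℕ} (hi : i < 165) : IsPt (Ps i) (pt i) := by
  obtain ⟨h1, h2⟩ := path_spec hi
  refine (isPt_gen .l).conj' ?_
  have h3 := (rho_pr h1).2
  rw [h2] at h3
  exact h3

theorem Ps_zero : Ps 0 = gen .l := by
  have h : IsPt (Ps 0) 0 := by
    have := isPt_Ps (i := 0) (by norm_num)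
    rwa [pt_zero] at this
  exact h.inj (isPt_gen .l)

theorem conj_Ps {k i : ℕ} (hk : k < 5) (hi : i < 165) : ge k * Ps i * (ge k)⁻¹ = Ps (sgf k i) :=
  (isPt_Ps hi).conj_eq (isPt_Ps (sgf_lt hk hi)) (rho_ge hk hi)

theorem ge_eq {k : ℕ} (hk : k < 5) : ge k = Ps (gl.getD k 0) := by
  have h1 := chk_gl
  rw [List.all_eq_true] at h1
  have h2 := Nat.eq_of_beq_eq_true (h1 k (List.mem_range.2 hk))
  have h3 : gl.getD k 0 < 165 := by interval_cases k <;> decide
  have h4 := isPt_Ps h3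
  have h5 : pt (gl.getD k 0) = gp5.getD k 0 := h2
  rw [h5] at h4
  exact (isPt_ge hk).inj h4

/-! ### The commuting graph -/

/-- the vector of a label -/
def vc (i : ℕ) : V9 := vec9 (lb.getD i .x)

theorem prB_spec {u v : V9} (h : prB u v = true) : ∃ c : F4, c ≠ 0 ∧ u = c • v := by
  unfold prB at h
  rw [Bool.or_eq_true, Bool.or_eq_true, beq_iff_eq, beq_iff_eq, beq_iff_eq] at h
  rcases h with h | h | h
  · exact ⟨1, by decide, by rw [h, one_smul]⟩
  · exact ⟨F4.w, by decide, h⟩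
  · exact ⟨F4.v, by decide, h⟩

theorem trB_spec {l : L9} : ∀ {ms : List L9} {s : List ℕ}, trB l ms s = true → ∀ i < ms.length,
    prB (vec9 (ms.getD i .x) + h9 (vec9 (ms.getD i .x)) (vec9 l) • vec9 l) (vec9 (lb.getD (s.getD i 0) .x)) = true
  | [], _, _, i, hi => absurd hi (by simp)
  | m :: ms, s, h, i, hi => by
    have h' : and (prB (vec9 m + h9 (vec9 m) (vec9 l) • vec9 l) (vec9 (lb.getD (s.headD 0) .x)))
      (trB l ms s.tail) = true := h
    rw [Bool.and_eq_true] at h'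
    rcases i with _ | i
    · have e : s.getD 0 0 = s.headD 0 := by cases s <;> rfl
      rw [e]
      exact h'.1
    · have e : s.getD (i + 1) 0 = s.tail.getD i 0 := by cases s <;> simp
      rw [e]
      exact trB_spec h'.2 i (by simpa using hi)

theorem tr_spec {k i : ℕ} (hk : k < 5) (hi : i < 165) : ∃ (l : L9) (c : F4), c ≠ 0 ∧
    (l = lb.getD (gl.getD k 0) .x) ∧ vc i + h9 (vc i) (vec9 l) • vec9 l = c • vc (sgf k i) := by
  have hl : i < lb.length := by rw [lb_len]; exact hi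
  have key : ∀ (l : L9) (s : List ℕ), trB l lb s = true →
      ∃ c : F4, c ≠ 0 ∧ vc i + h9 (vc i) (vec9 l) • vec9 l = c • vec9 (lb.getD (s.getD i 0) .x) :=
    fun l s h => prB_spec (trB_spec h i hl)
  interval_cases k
  · obtain ⟨c, h1, h2⟩ := key _ _ tr_0; exact ⟨_, c, h1, rfl, h2⟩
  · obtain ⟨c, h1, h2⟩ := key _ _ tr_1; exact ⟨_, c, h1, rfl, h2⟩
  · obtain ⟨c, h1, h2⟩ := key _ _ tr_2; exact ⟨_, c, h1, rfl, h2⟩
  · obtain ⟨c, h1, h2⟩ := key _ _ tr_3; exact ⟨_, c, h1, rfl, h2⟩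
  · obtain ⟨c, h1, h2⟩ := key _ _ tr_4; exact ⟨_, c, h1, rfl, h2⟩

theorem h9_self (l : L9) : h9 (vec9 l) (vec9 l) = 0 := (adj9_iff l l).1 (adj9_refl l)

theorem h9_add_right (u v w : V9) : h9 u (v + w) = h9 u v + h9 u w := by
  rw [h9_swap, hermSp9.add_left, fr_add, ← h9_swap, ← h9_swap]

theorem h9_smul_right (c : F4) (u v : V9) : h9 u (c • v) = fr c * h9 u v := by
  rw [h9_swap, hermSp9.smul_left, fr_mul, ← h9_swap]

/-- the transvections preserve the form -/
theorem h9_tr (l : L9) (u v : V9) :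
    h9 (u + h9 u (vec9 l) • vec9 l) (v + h9 v (vec9 l) • vec9 l) = h9 u v := by
  have e1 : h9 (vec9 l) v = fr (h9 v (vec9 l)) := h9_swap _ _
  rw [hermSp9.add_left, hermSp9.smul_left, h9_add_right, h9_smul_right, h9_add_right, h9_smul_right, h9_self,
    mul_zero, add_zero, e1]
  have h2 : fr (h9 v (vec9 l)) * h9 u (vec9 l) + h9 u (vec9 l) * fr (h9 v (vec9 l)) = 0 := by
    rw [mul_comm]; exact add_self _
  rw [add_assoc, h2, add_zero]

theorem adj_inv {k i j : ℕ} (hk : k < 5) (hi : i < 165) (hj : j < 165) :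
    h9 (vc (sgf k i)) (vc (sgf k j)) = 0 ↔ h9 (vc i) (vc j) = 0 := by
  obtain ⟨l, c, hc, hl, h1⟩ := tr_spec hk hi
  obtain ⟨l', c', hc', hl', h2⟩ := tr_spec hk hj
  have e : l' = l := hl'.trans hl.symm
  subst e
  have h3 := h9_tr l' (vc i) (vc j)
  rw [h1, h2, hermSp9.smul_left, h9_smul_right] at h3
  rw [← h3]
  have hf : fr c' ≠ 0 := by
    intro h
    apply hc'
    apply fr_inj
    rw [h, fr_zero]
  constructor
  · intro h; rw [h, mul_zero, mul_zero]
  · intro h
    rcases mul_eq_zero.1 h with h | h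
    · exact absurd h hc
    · rcases mul_eq_zero.1 h with h | h
      · exact absurd h hf
      · exact h

theorem ge_zero : ge 0 = gen .l := by
  show word [.l] = _
  rw [word_cons, word_nil, mul_one]

theorem commute_zero {j : ℕ} (hj : j < 165) : Commute (Ps 0) (Ps j) ↔ h9 (vc 0) (vc j) = 0 := by
  rw [Ps_zero, ← ge_zero]
  have h1 : Commute (ge 0) (Ps j) ↔ rho (ge 0) (pt j) = pt j := (isPt_Ps hj).comm_iff _
  rw [h1, rho_ge (by norm_num) hj]
  have h2 := chk_row
  rw [List.all_eq_true] at h2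
  have h3 := h2 j (List.mem_range.2 hj)
  rw [beq_iff_eq] at h3
  have h4 : Nat.beq (sgf 0 j) j = true ↔ h9 (vc j) (vc 0) = 0 := by
    rw [h3]
    exact beq_iff_eq
  rw [h9_eq_zero_swap, ← h4]
  constructor
  · intro h
    rw [pt_inj (sgf_lt (by norm_num) hj) hj h]
    exact Nat.beq_refl j
  · intro h
    rw [Nat.eq_of_beq_eq_true h]

theorem commute_conj {g a b : Fi24} : Commute (g * a * g⁻¹) (g * b * g⁻¹) ↔ Commute a b := by
  constructor
  · intro h
    have h1 := h.eq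
    have e1 : g * a * g⁻¹ * (g * b * g⁻¹) = g * (a * b) * g⁻¹ := by group
    have e2 : g * b * g⁻¹ * (g * a * g⁻¹) = g * (b * a) * g⁻¹ := by group
    rw [e1, e2] at h1
    exact mul_left_cancel (mul_right_cancel h1)
  · intro h
    have e1 : g * a * g⁻¹ * (g * b * g⁻¹) = g * (a * b) * g⁻¹ := by group
    have e2 : g * b * g⁻¹ * (g * a * g⁻¹) = g * (b * a) * g⁻¹ := by group
    show g * a * g⁻¹ * (g * b * g⁻¹) = g * b * g⁻¹ * (g * a * g⁻¹)
    rw [e1, e2, h.eq]

theorem commute_ev {l : List ℕ} (h : ∀ k ∈ l, k < 5) : ∀ j < 165, Commute (Ps (ev l)) (Ps j) ↔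
    h9 (vc (ev l)) (vc j) = 0 := by
  induction l with
  | nil => intro j hj; exact commute_zero hj
  | cons k l ih =>
    intro j hj
    have hl : ∀ x ∈ l, x < 5 := fun x hx => h x (List.mem_cons_of_mem _ hx)
    have hk := h k List.mem_cons_self
    have h1 := (rho_pr hl).1
    have h2 := sgf_lt hk hj
    rw [ev_cons, ← sgf_inv hk hj, ← conj_Ps hk h1, ← conj_Ps hk h2, commute_conj, ih hl _ h2,
      sgf_inv hk hj, ← adj_inv hk h1 h2, sgf_inv hk hj]

theorem commute_Ps {i j : ℕ} (hi : i < 165) (hj : j < 165) : Commute (Ps i) (Ps j) ↔ h9 (vc i) (vc j) = 0 := by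
  obtain ⟨h1, h2⟩ := path_spec hi
  have := commute_ev h1 j hj
  rwa [h2] at this

/-! ### The set `T0` -/

theorem x3_ge {k : ℕ} (hk : k < 5) : x3 * ge k = ge k * x3 := by
  rw [(isPt_ge hk).comm_iff, word_x3]
  apply rho_of_chkPt
  have h := fixx
  rw [List.all_eq_true] at h
  apply h
  interval_cases k <;> decide

/-- the transposition `(0 3)` -/
noncomputable def ta : Fi24 := tr [.j, .g] .f
/-- the transposition `(1 4)` -/
noncomputable def tb' : Fi24 := tr [.g, .f] .e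
/-- the transposition `(2 5)` -/
noncomputable def tc : Fi24 := tr [.f, .e] .d

theorem isPt_ta : IsPt ta 100 := IsPt.of_word (by decide +kernel)
theorem isPt_tb : IsPt tb' 680 := IsPt.of_word (by decide +kernel)
theorem isPt_tc : IsPt tc 3522 := IsPt.of_word (by decide +kernel)

theorem z0_eq : z0 = ta * tb' * tc := by
  unfold z0 ta tb' tc tr
  rw [← word_append, ← word_append]
  rfl

theorem ge_three {k : ℕ} (hk : k < 5) : ge k * ta = ta * ge k ∧ ge k * tb' = tb' * ge k ∧ ge k * tc = tc * ge k := by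
  rw [isPt_ta.comm_iff, isPt_tb.comm_iff, isPt_tc.comm_iff]
  have h := fix3
  rw [List.all_eq_true] at h
  have h1 : gw5.getD k [] ∈ gw5 := by interval_cases k <;> decide
  have h2 := h _ h1
  rw [List.all_eq_true] at h2
  exact ⟨rho_of_chkPt (h2 100 (by simp)), rho_of_chkPt (h2 680 (by simp)), rho_of_chkPt (h2 3522 (by simp))⟩

/-- the subgroup of the five generators -/
def H5 : Subgroup Fi24 := Subgroup.closure {g | ∃ k < 5, g = ge k}

theorem ge_mem {k : ℕ} (hk : k < 5) : ge k ∈ H5 := Subgroup.subset_closure ⟨k, hk, rfl⟩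

theorem pr_mem {l : List ℕ} (h : ∀ k ∈ l, k < 5) : pr l ∈ H5 := by
  induction l with
  | nil => exact one_mem _
  | cons k l ih =>
    rw [pr_cons]
    exact mul_mem (ge_mem (h k List.mem_cons_self)) (ih fun x hx => h x (List.mem_cons_of_mem _ hx))

theorem Ps_mem {i : ℕ} (hi : i < 165) : Ps i ∈ H5 := by
  have h := pr_mem (path_spec hi).1
  have hl : gen .l ∈ H5 := by rw [← ge_zero]; exact ge_mem (by norm_num)
  exact mul_mem (mul_mem h hl) (inv_mem h)

theorem comm_H5 {c g : Fi24} (hc : ∀ k < 5, ge k * c = c * ge k) (hg : g ∈ H5) : g * c = c * g := by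
  have h : H5 ≤ Subgroup.centralizer ({c} : Set Fi24) := by
    unfold H5
    rw [Subgroup.closure_le]
    rintro _ ⟨k, hk, rfl⟩
    exact Subgroup.mem_centralizer_singleton_iff.2 (hc k hk)
  exact Subgroup.mem_centralizer_singleton_iff.1 (h hg)

theorem H5_x3 {g : Fi24} (hg : g ∈ H5) : g * x3 = x3 * g := comm_H5 (fun _ hk => (x3_ge hk).symm) hg
theorem H5_ta {g : Fi24} (hg : g ∈ H5) : g * ta = ta * g := comm_H5 (fun _ hk => (ge_three hk).1) hg
theorem H5_tb {g : Fi24} (hg : g ∈ H5) : g * tb' = tb' * g := comm_H5 (fun _ hk => (ge_three hk).2.1) hg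
theorem H5_tc {g : Fi24} (hg : g ∈ H5) : g * tc = tc * g := comm_H5 (fun _ hk => (ge_three hk).2.2) hg

theorem H5_z0 {g : Fi24} (hg : g ∈ H5) : g * z0 = z0 * g := by
  rw [z0_eq, ← mul_assoc, ← mul_assoc, H5_ta hg, mul_assoc ta, H5_tb hg, ← mul_assoc ta, mul_assoc (ta * tb'),
    H5_tc hg, ← mul_assoc]

theorem Ps_mem_T0 {i : ℕ} (hi : i < 165) : Ps i ∈ T0 :=
  ⟨(isPt_Ps hi).mem, H5_x3 (Ps_mem hi), H5_z0 (Ps_mem hi)⟩

theorem exists_index {p : ℕ} (hp : p ∈ P) : ∃ i < 165, pt i = p := by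
  obtain ⟨i, hi, h⟩ := List.getElem_of_mem hp
  rw [P_len] at hi
  refine ⟨i, hi, ?_⟩
  unfold pt
  rw [List.getD_eq_getElem _ _ (by rw [P_len]; exact hi)]
  exact h

theorem exists_Ps {t : Fi24} (ht : t ∈ T0) : ∃ i < 165, t = Ps i := by
  obtain ⟨hL, hx, hz⟩ := ht
  obtain ⟨p, hp⟩ := exists_pt hL
  have h1 : rho x3 p = p := (hp.comm_iff _).1 hx.symm
  have h2 : rho z0 p = p := (hp.comm_iff _).1 hz.symm
  have h3 := mask3 (bit hp) h1
  have h4 : wperm (nw zw false) p = p := by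
    rw [← rho_word]; exact h2
  have h5 := sv_spec (wok zw false) bl h3 h4
  rw [Nat.eq_of_beq_eq_true st_z, testBit_msk] at h5
  obtain ⟨i, hi, rfl⟩ := exists_index h5
  exact ⟨i, hi, hp.inj (isPt_Ps hi)⟩

theorem mem_T0_of_pt {d : Fi24} {p : ℕ} (h : IsPt d p) (hp : p ∈ P) : d ∈ T0 := by
  obtain ⟨i, hi, rfl⟩ := exists_index hp
  rw [h.inj (isPt_Ps hi)]
  exact Ps_mem_T0 hi

theorem ge_mem_T0 {k : ℕ} (hk : k < 5) : ge k ∈ T0 := by
  rw [ge_eq hk]
  apply Ps_mem_T0
  interval_cases k <;> decide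

theorem S0_eq : S0 = H5 := by
  apply le_antisymm
  · unfold S0
    rw [Subgroup.closure_le]
    intro t ht
    obtain ⟨i, hi, rfl⟩ := exists_Ps ht
    exact Ps_mem hi
  · unfold H5 S0
    rw [Subgroup.closure_le]
    rintro _ ⟨k, hk, rfl⟩
    exact Subgroup.subset_closure (ge_mem_T0 hk)

theorem T0_sub {t : Fi24} (ht : t ∈ T0) : t ∈ S0 := Subgroup.subset_closure ht

theorem S0_x3 {g : Fi24} (hg : g ∈ S0) : g * x3 = x3 * g := H5_x3 (S0_eq ▸ hg)
theorem S0_z0 {g : Fi24} (hg : g ∈ S0) : g * z0 = z0 * g := H5_z0 (S0_eq ▸ hg)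
theorem S0_ta {g : Fi24} (hg : g ∈ S0) : g * ta = ta * g := H5_ta (S0_eq ▸ hg)
theorem S0_tb {g : Fi24} (hg : g ∈ S0) : g * tb' = tb' * g := H5_tb (S0_eq ▸ hg)
theorem S0_tc {g : Fi24} (hg : g ∈ S0) : g * tc = tc * g := H5_tc (S0_eq ▸ hg)

/-- `T0` is stable under conjugation by elements commuting with `x3` and `z0`. -/
theorem T0_conj {g t : Fi24} (hx : g * x3 = x3 * g) (hz : g * z0 = z0 * g) (ht : t ∈ T0) : g * t * g⁻¹ ∈ T0 := by
  obtain ⟨h1, h2, h3⟩ := ht
  have key : ∀ c : Fi24, g * c = c * g → t * c = c * t → g * t * g⁻¹ * c = c * (g * t * g⁻¹) := by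
    intro c hc htc
    have hc' : g⁻¹ * c = c * g⁻¹ := by
      rw [inv_mul_eq_iff_eq_mul, ← mul_assoc, hc, mul_assoc, mul_inv_cancel, mul_one]
    calc g * t * g⁻¹ * c = g * t * (g⁻¹ * c) := by group
      _ = g * (t * c) * g⁻¹ := by rw [hc']; group
      _ = g * c * t * g⁻¹ := by rw [htc]; group
      _ = c * (g * t * g⁻¹) := by rw [hc]; group
  exact ⟨Cfsg.Agent.R08.FiTwentyFour.conj h1 g, key _ hx h2, key _ hz h3⟩

/-- All the members of `T0` are conjugate to `l` in `S0`. -/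
theorem exists_conj_l {t : Fi24} (ht : t ∈ T0) : ∃ g ∈ S0, t = g * gen .l * g⁻¹ := by
  obtain ⟨i, hi, rfl⟩ := exists_Ps ht
  exact ⟨_, by rw [S0_eq]; exact pr_mem (path_spec hi).1, rfl⟩

theorem l_mem : gen .l ∈ T0 := by rw [← ge_zero]; exact ge_mem_T0 (by norm_num)

/-! ### `z0 ∈ S0` -/

theorem word_z0 : z0 = gen .l * gen .a * (word (u917 ++ Gen.b :: u917.reverse) *
    (word (u11793 ++ Gen.a :: u11793.reverse) * word (u11888 ++ Gen.a :: u11888.reverse))) := by
  have h := eq_of_eqB eqz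
  have e0 : word [.l, .a] = gen .l * gen .a := by rw [word_cons, word_cons, word_nil, mul_one]
  rw [← e0, ← word_append (u11793 ++ Gen.a :: u11793.reverse) (u11888 ++ Gen.a :: u11888.reverse),
    ← word_append (u917 ++ Gen.b :: u917.reverse), ← word_append [.l, .a]]
  exact h.symm

theorem z0_mem : z0 ∈ S0 := by
  have h1 : word (u917 ++ Gen.b :: u917.reverse) ∈ T0 := mem_T0_of_pt (IsPt.of_word pt917) (by decide)
  have h2 : word (u11793 ++ Gen.a :: u11793.reverse) ∈ T0 := mem_T0_of_pt (IsPt.of_word pt11793) (by decide)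
  have h3 : word (u11888 ++ Gen.a :: u11888.reverse) ∈ T0 := mem_T0_of_pt (IsPt.of_word pt11888) (by decide)
  have h4 : gen .a ∈ T0 := mem_T0_of_pt (isPt_gen .a) (by decide)
  rw [word_z0]
  exact mul_mem (mul_mem (T0_sub l_mem) (T0_sub h4)) (mul_mem (T0_sub h1) (mul_mem (T0_sub h2) (T0_sub h3)))

/-! ### The elements commuting with `T0` -/

theorem comb_aux1 : ∀ a : Fin 9, swap (0 : Fin 9) 3 a = a ∨ a = 0 ∨ a = 3 := by decide +kernel

theorem comb_aux2 : ∀ c : Fin 9, (swap (0 : Fin 9) 3 c = c ∧ swap (1 : Fin 9) 4 c = c ∧ swap (2 : Fin 9) 5 c = c) →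
    (c = 6 ∨ c = 7 ∨ c = 8) := by decide +kernel

theorem comb_aux {a b c : Fin 9} (h1 : b = swap (0 : Fin 9) 3 a) (h2 : b ≠ a) (h3 : swap (0 : Fin 9) 3 c = c)
    (h4 : swap (1 : Fin 9) 4 c = c) (h5 : swap (2 : Fin 9) 5 c = c) :
    ((a = 0 ∧ b = 3) ∨ (a = 3 ∧ b = 0)) ∧ (c = 6 ∨ c = 7 ∨ c = 8) := by
  refine ⟨?_, comb_aux2 c ⟨h3, h4, h5⟩⟩
  rcases comb_aux1 a with h | h | h
  · exact absurd (h1.trans h) h2
  · subst h
    exact Or.inl ⟨rfl, h1.trans (swap_apply_left 0 3)⟩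
  · subst h
    exact Or.inr ⟨rfl, h1.trans (swap_apply_right 0 3)⟩

theorem p3_val : p3 0 = 1 ∧ p3 1 = 2 ∧ p3 2 = 0 ∧ p3 3 = 4 ∧ p3 4 = 5 ∧ p3 5 = 3 ∧ p3 6 = 7 ∧ p3 7 = 8 ∧ p3 8 = 6 := by
  decide +kernel

/-- the permutation of `z0` -/
def pz : Perm (Fin 9) := swap 0 3 * swap 1 4 * swap 2 5

/-- the permutation `(6 7 8)` -/
def pc : Perm (Fin 9) := swap 6 7 * swap 7 8

theorem comb {σ : Perm (Fin 9)} (h3 : σ * p3 = p3 * σ) (ha : σ * swap 0 3 = swap 0 3 * σ)
    (hb : σ * swap 1 4 = swap 1 4 * σ) (hc : σ * swap 2 5 = swap 2 5 * σ) :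
    ∃ i < 3, σ = pc ^ i ∨ σ = pz * pc ^ i := by
  obtain ⟨e0, e1, e2, e3, e4, e5, e6, e7, e8⟩ := p3_val
  have hp : ∀ x, σ (p3 x) = p3 (σ x) := fun x => by
    rw [← Perm.mul_apply, h3, Perm.mul_apply]
  have ha' : ∀ x, σ (swap 0 3 x) = swap 0 3 (σ x) := fun x => by
    rw [← Perm.mul_apply, ha, Perm.mul_apply]
  have hb' : ∀ x, σ (swap 1 4 x) = swap 1 4 (σ x) := fun x => by
    rw [← Perm.mul_apply, hb, Perm.mul_apply]
  have hc' : ∀ x, σ (swap 2 5 x) = swap 2 5 (σ x) := fun x => by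
    rw [← Perm.mul_apply, hc, Perm.mul_apply]
  have f3 : σ 3 = swap 0 3 (σ 0) := ha' 0
  have fne : σ 3 ≠ σ 0 := fun h => absurd (σ.injective h) (by decide)
  have f6a : swap 0 3 (σ 6) = σ 6 := (ha' 6).symm
  have f6b : swap 1 4 (σ 6) = σ 6 := (hb' 6).symm
  have f6c : swap 2 5 (σ 6) = σ 6 := (hc' 6).symm
  have hres := comb_aux f3 fne f6a f6b f6c
  have v1 : σ 1 = p3 (σ 0) := by rw [← hp, e0]
  have v2 : σ 2 = p3 (p3 (σ 0)) := by rw [← v1, ← hp, e1]
  have v4 : σ 4 = p3 (σ 3) := by rw [← hp, e3]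
  have v5 : σ 5 = p3 (p3 (σ 3)) := by rw [← v4, ← hp, e4]
  have v7 : σ 7 = p3 (σ 6) := by rw [← hp, e6]
  have v8 : σ 8 = p3 (p3 (σ 6)) := by rw [← v7, ← hp, e7]
  have ext9 : ∀ τ : Perm (Fin 9), σ 0 = τ 0 → σ 1 = τ 1 → σ 2 = τ 2 → σ 3 = τ 3 → σ 4 = τ 4 → σ 5 = τ 5 →
      σ 6 = τ 6 → σ 7 = τ 7 → σ 8 = τ 8 → σ = τ := by
    intro τ h0 h1 h2 h3 h4 h5 h6 h7 h8
    ext x
    fin_cases x
    · exact congrArg _ h0
    · exact congrArg _ h1
    · exact congrArg _ h2
    · exact congrArg _ h3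
    · exact congrArg _ h4
    · exact congrArg _ h5
    · exact congrArg _ h6
    · exact congrArg _ h7
    · exact congrArg _ h8
  obtain ⟨h1, h2⟩ := hres
  rcases h1 with ⟨g0, g3⟩ | ⟨g0, g3⟩ <;> rw [g0] at v1 v2 <;> rw [g3] at v4 v5 <;>
    rcases h2 with g6 | g6 | g6 <;> rw [g6] at v7 v8
  · exact ⟨0, by norm_num, Or.inl (ext9 _ (g0.trans (by decide +kernel)) (v1.trans (by decide +kernel))
      (v2.trans (by decide +kernel)) (g3.trans (by decide +kernel)) (v4.trans (by decide +kernel))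
      (v5.trans (by decide +kernel)) (g6.trans (by decide +kernel)) (v7.trans (by decide +kernel))
      (v8.trans (by decide +kernel)))⟩
  · exact ⟨1, by norm_num, Or.inl (ext9 _ (g0.trans (by decide +kernel)) (v1.trans (by decide +kernel))
      (v2.trans (by decide +kernel)) (g3.trans (by decide +kernel)) (v4.trans (by decide +kernel))
      (v5.trans (by decide +kernel)) (g6.trans (by decide +kernel)) (v7.trans (by decide +kernel))
      (v8.trans (by decide +kernel)))⟩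
  · exact ⟨2, by norm_num, Or.inl (ext9 _ (g0.trans (by decide +kernel)) (v1.trans (by decide +kernel))
      (v2.trans (by decide +kernel)) (g3.trans (by decide +kernel)) (v4.trans (by decide +kernel))
      (v5.trans (by decide +kernel)) (g6.trans (by decide +kernel)) (v7.trans (by decide +kernel))
      (v8.trans (by decide +kernel)))⟩
  · exact ⟨0, by norm_num, Or.inr (ext9 _ (g0.trans (by decide +kernel)) (v1.trans (by decide +kernel))
      (v2.trans (by decide +kernel)) (g3.trans (by decide +kernel)) (v4.trans (by decide +kernel))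
      (v5.trans (by decide +kernel)) (g6.trans (by decide +kernel)) (v7.trans (by decide +kernel))
      (v8.trans (by decide +kernel)))⟩
  · exact ⟨1, by norm_num, Or.inr (ext9 _ (g0.trans (by decide +kernel)) (v1.trans (by decide +kernel))
      (v2.trans (by decide +kernel)) (g3.trans (by decide +kernel)) (v4.trans (by decide +kernel))
      (v5.trans (by decide +kernel)) (g6.trans (by decide +kernel)) (v7.trans (by decide +kernel))
      (v8.trans (by decide +kernel)))⟩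
  · exact ⟨2, by norm_num, Or.inr (ext9 _ (g0.trans (by decide +kernel)) (v1.trans (by decide +kernel))
      (v2.trans (by decide +kernel)) (g3.trans (by decide +kernel)) (v4.trans (by decide +kernel))
      (v5.trans (by decide +kernel)) (g6.trans (by decide +kernel)) (v7.trans (by decide +kernel))
      (v8.trans (by decide +kernel)))⟩

end Cfsg.Agent.H834.U5
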