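import Cfsg.Agent.H834.ANorm

/-!
# Commuting quadruples of `Fi22` and the centralizer of an element of class `3B`: kernel checks (helper834)
-/

set_option autoImplicit false
set_option maxRecDepth 100000
set_option exponentiation.threshold 5000

namespace Cfsg.Agent.H834.XC

open Cfsg.Spor Cfsg.Spor.Fi22 Cfsg.Agent.Lib.PermNet Cfsg.Agent.Lib.PermNetOrbit Cfsg.Agent.Lib.PermNetFix
open Cfsg.Agent.Fischer Cfsg.Agent.Fischer.Fi22PtsRep
open Cfsg.Agent.Fischer.Fi22Order (nws nws_ok)
open AC

def d7 : List Gen × Gen := ([.d, .c], .b)
def d17 : List Gen × Gen := ([.e, .d], .c)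
def d41 : List Gen × Gen := ([.f, .e], .d)
def d92 : List Gen × Gen := ([], .i)
def d22 : List Gen × Gen := ([.g, .f, .e, .d, .c, .b], .a)
def d3084 : List Gen × Gen := ([.d, .h, .i, .e, .c, .d, .h, .e, .f, .c, .d, .e, .b, .c, .d, .h, .i, .f, .e, .b, .c, .d, .h, .g, .f, .e, .d, .c, .b], .a)
def d3308 : List Gen × Gen := ([.d, .h, .i, .c, .d, .h, .e, .f, .d, .e, .a, .b, .c, .d, .h, .i, .e, .f, .c, .d, .e, .b, .c, .d, .h, .g, .f, .e, .d, .c, .b], .a)

theorem p7 : Nat.beq (twp d7) 7 = true := by decide +kernel
theorem p17 : Nat.beq (twp d17) 17 = true := by decide +kernel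
theorem p41 : Nat.beq (twp d41) 41 = true := by decide +kernel
theorem p92 : Nat.beq (twp d92) 92 = true := by decide +kernel
theorem p22 : Nat.beq (twp d22) 22 = true := by decide +kernel
theorem p3084 : Nat.beq (twp d3084) 3084 = true := by decide +kernel
theorem p3308 : Nat.beq (twp d3308) 3308 = true := by decide +kernel

def S693 : ℕ := 0x1800000000000000000000000180189010200000c120000002083001000100000090000464008341800040041088a00000004002d0000000080014000e2000000c0010a8401000400404002cb1081808000054000000220010aa400548200000100022204400c024000164034d30050030000888020000380084a6001404000080048840008046c00034000210400000300014784600000701028e08100020500a00000242b480002000108000020000400441980480142054ac210650900010c40214c00014089500004200000003202000212479886460143143024041001140036a0004000002010a404311048a181252c980060400004044036000000000c8c240a3908e0840ad030598020081404000040c01000000b1c90810004041085044806280440000360c19008004203184081303208411008cca212240021001422830808c208a18c31004290a506c51108308041088602c08003087300b4920d08c020886000180174204305a02ec08c0c043e0000061c454d0861c43000663010224c999949868029030416a56161881444298c5044112f62f0456053749c513a931096550954ab2d55d56a34a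
def S180 : ℕ := 0x901000000000000000000000000000000000900004640000000000000010008000000000008000000000000400040000000400100040000000000000208000080000004400000000000022000000000000000000004000000000000401040001000000008000000000000020001000000000040040000000800000000010000000000000000000000000000000100000000a00000040040000000000000000000000000010000000000020000040100010040200000000000000000000000000200000200018080400102040004000000040002000000000000000004000000010000200000000000000000020000000008000402100040800200000000000010000000000000000001001000000404000004000000000000000041000000000000008110020001000080001000000000002202000000002080100000002404000000000001000400000001080100000000008000880000080100000104a02080800004100000001000090801041000040010220c81110000002100040680010000044400085044000a0210402010208811289300844108100028441542008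
def C48 : ℕ := 0x90000000000000000000000000000000000000000024000000000000000000800000000000800000000000040000000000000000000000000000000000800000000000040000000000000200000000000000000000000000000000000004000000000000000000000000000000000000000000000000000000000000001000000000000000000000000000000000000000000000004000000000000000000000000000000000000000000000000000000000000000000000000000000000000000000000000000000010200000000000000000000000000000000000000000000000000000000000000000000000000000000000000000000000000000000000000000000000000000000000000000000000000000000000000000000000000000000001000000000000000000000000000200000000000000000000000200000000000000000000000000008000000000000000008000008000000000000000080000000000000000009000000000000001022088000000000000004048000000000400008400000000210002000208010008300800000100008001000000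

theorem chk693 : Nat.beq (cmk d7) (Nat.lor S693 (Nat.pow 2 7)) = true := by decide +kernel
theorem pc693 : Nat.beq (pc 12 S693) 693 = true := by decide +kernel
theorem lt693 : Nat.beq (Nat.shiftRight S693 (Nat.pow 2 12)) 0 = true := by decide +kernel

theorem chk180 : Nat.beq (Nat.land (cmk d7) (cmk d17)) (Nat.lor S180 (Nat.lor (Nat.pow 2 7) (Nat.pow 2 17))) = true := by
  decide +kernel
theorem pc180 : Nat.beq (pc 12 S180) 180 = true := by decide +kernel
theorem lt180 : Nat.beq (Nat.shiftRight S180 (Nat.pow 2 12)) 0 = true := by decide +kernel

/-- the points commuting with `7`, `17`, `41` -/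
def L54 : ℕ := 0x90100000000000000000000000000000000000000024000000000000001000800000000000800000000000040000000000000000000000000000000000800000000000040000000000000200000000000000000000000000000000000004000000000000000000000000000000000000000000000000000000000000001000000000000000000000000000000000000000000000004000000000000000000000000000000000000000000000000000000000000000000000000000000000000000000000000000000010200000000000000000000000000000000000000000000000000000000000000000000000000000000000000000000000000000000000000000000000000000000000000000000000000000000000000000000000000000000001000000000000000000000000000200000000000000000000000200000000000000000000000000008000000000000000008000008000000000000000080000000000000000009000000000000001022088000000000000004048000000000400008400000000210002000208010008300800000100028001420080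

theorem chk54 : Nat.beq (Nat.land (cmk d7) (Nat.land (cmk d17) (cmk d41))) L54 = true := by decide +kernel
theorem chk48 : Nat.beq L54 (Nat.lor C48 (Nat.lor (Nat.lor (Nat.pow 2 22) (Nat.lor (Nat.pow 2 3084) (Nat.pow 2 3308)))
    (Nat.lor (Nat.pow 2 7) (Nat.lor (Nat.pow 2 17) (Nat.pow 2 41))))) = true := by decide +kernel
theorem pc48 : Nat.beq (pc 12 C48) 48 = true := by decide +kernel
theorem lt48 : Nat.beq (Nat.shiftRight C48 (Nat.pow 2 12)) 0 = true := by decide +kernel

theorem cnt92 : Nat.beq (pc 12 (Nat.land L54 (cmk d92))) 22 = true := by decide +kernel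
theorem cnt22 : Nat.beq (pc 12 (Nat.land L54 (cmk d22))) 54 = true := by decide +kernel
theorem cnt3084 : Nat.beq (pc 12 (Nat.land L54 (cmk d3084))) 54 = true := by decide +kernel
theorem cnt3308 : Nat.beq (pc 12 (Nat.land L54 (cmk d3308))) 54 = true := by decide +kernel
theorem lt54 : Nat.beq (Nat.shiftRight L54 (Nat.pow 2 12)) 0 = true := by decide +kernel
theorem com22_3084 : Nat.testBit (cmk d22) 3084 = true := by
  have h : tb (cmk d22) 3084 = true := by decide +kernel
  rwa [tb_eq] at h

def k7 : List (List Gen × Gen) := [([], .a), ([], .b), ([], .c), ([], .d), ([], .e), ([], .h), ([], .f), ([], .i), ([], .g)]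

theorem rcx7 : rcB [] (k7.map tw) 7 6 full = true := by decide +kernel

theorem lvx7 : lvB [] (k7.map tw) 7 6 3510 = true := by decide +kernel

def k17 : List (List Gen × Gen) := [([], .c), ([], .f), ([], .g), ([.b], .a), ([.e], .d), ([.i, .h], .d), ([.h, .e, .d, .c], .b)]

theorem rcx17 : rcB [7] (k17.map tw) 17 5 S693 = true := by decide +kernel

theorem lvx17 : lvB [7] (k17.map tw) 17 5 693 = true := by decide +kernel

def k41 : List (List Gen × Gen) := [([], .g), ([.c, .b], .a), ([.h, .d], .c), ([.f, .e], .d), ([.i, .h, .d], .c), ([.h, .e, .d, .c], .b)]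

theorem rcx41 : rcB [17, 7] (k41.map tw) 41 4 S180 = true := by decide +kernel

theorem lvx41 : lvB [17, 7] (k41.map tw) 41 4 180 = true := by decide +kernel

def k92 : List (List Gen × Gen) := [([.d, .h, .e, .d, .c, .b], .a), ([.d, .h, .g, .f, .e, .d], .c), ([.i, .d, .h, .e, .d, .c, .b], .a), ([.c, .d, .h, .f, .e, .d, .c, .b], .a), ([.e, .d, .h, .g, .f, .e, .d, .c], .b), ([.e, .b, .c, .d, .h, .f, .e, .d, .c, .b], .a)]

theorem rcx92 : rcB [41, 17, 7] (k92.map tw) 92 2 C48 = true := by decide +kernel

theorem lvx92 : lvB [41, 17, 7] (k92.map tw) 92 2 48 = true := by decide +kernel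

theorem fixw7 : Nat.beq (ptWord (nw (kwl [1, 0, 0, 1, 0])) 7) 7 = true := by decide +kernel

theorem fixw17 : Nat.beq (ptWord (nw (kwl [1, 0, 0, 1, 0])) 17) 17 = true := by decide +kernel

theorem fixw41 : Nat.beq (ptWord (nw (kwl [1, 0, 0, 1, 0])) 41) 41 = true := by decide +kernel

theorem fixw92 : Nat.beq (ptWord (nw (kwl [1, 0, 0, 1, 0])) 92) 92 = true := by decide +kernel

/-- the points fixed by the element of norm `2` -/
def F36 : ℕ := 0x7000000000000000000000000000e000000000000000000001c00000000000000000800000000000180000000006040000008100003009800180500150a0020221080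

theorem chkF36 : Nat.beq (fixm (kwl [1, 0, 0, 1, 0])) F36 = true := by decide +kernel

theorem chkF36M : Nat.beq (Nat.land F36 FM) F36 = true := by decide +kernel

def kf : List (List Gen × Gen) := [([], .i), ([.i], .h), ([.d, .c], .b), ([.e, .d], .c), ([.f, .e], .d)]

theorem inkf : inB F36 kf = true := by decide +kernel

theorem rckf : rcB [] (kf.map tw) 43 3 F36 = true := by decide +kernel

def pf : List ((List Gen × Gen) × Bool) := [(([.i, .h, .d, .c], .b), true),
  (([.i, .h, .e, .d], .c), true),
  (([.d, .h, .f, .e, .d, .c], .b), true),
  (([.c, .d, .h, .e, .d, .c], .b), true),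
  (([.i, .h, .f, .e], .d), true),
  (([.e, .d, .h, .f, .e, .d], .c), true),
  (([.b, .c, .d, .h, .i, .h, .d, .e, .c, .d, .h, .f, .e, .d, .c], .b), true),
  (([.e, .c, .d, .h, .i, .h, .d, .e, .c, .d, .h, .f, .e, .d, .c], .b), true),
  (([.f, .e, .d, .h, .i, .h, .d, .e, .c, .d, .h, .f, .e, .d, .c], .b), true)]

theorem chkpf : Nat.beq (pat pf F36) (Nat.lor (Nat.pow 2 43) (Nat.lor (Nat.pow 2 166) (Nat.pow 2 208))) = true := by
  decide +kernel

theorem inpf : inB F36 (pf.map Prod.fst) = true := by decide +kernel

theorem lvM2 : lvB [] (m2.map tw) 2 4 108 = true := by decide +kernel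

theorem lvM16 : lvB [2] (m16.map tw) 16 3 45 = true := by decide +kernel

theorem lvM6 : lvB [16, 2] (m6.map tw) 6 2 36 = true := by decide +kernel

theorem lvM88 : lvB [6, 16, 2] (m88.map tw ++ [swp]) 88 1 6 = true := by decide +kernel

theorem lvM92 : lvB [88, 6, 16, 2] (m92.map tw) 92 1 3 = true := by decide +kernel

theorem lvM165 : lvB [92, 88, 6, 16, 2] (m165.map tw) 165 1 2 = true := by decide +kernel

theorem lvM170 : lvB [165, 92, 88, 6, 16, 2] (m170.map tw) 170 1 2 = true := by decide +kernel

theorem rcU43 : rcB [] [kwl [0, 0, 0, 0, 1]] 43 2 (Nat.lor (Nat.pow 2 43) (Nat.lor (Nat.pow 2 166) (Nat.pow 2 208))) = true := by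
  decide +kernel

theorem rcU92 : rcB [43] [kwl [0, 0, 1, 0, 2]] 92 2 (Nat.lor (Nat.pow 2 92) (Nat.lor (Nat.pow 2 165) (Nat.pow 2 207))) = true := by
  decide +kernel

theorem rcU7 : rcB [92, 43] [kwl [0, 0, 0, 1, 0]] 7 2 (Nat.lor (Nat.pow 2 7) (Nat.lor (Nat.pow 2 158) (Nat.pow 2 330))) = true := by
  decide +kernel

theorem rcU17 : rcB [7, 92, 43] [kwl [0, 1, 0, 0, 0]] 17 2 (Nat.lor (Nat.pow 2 17) (Nat.lor (Nat.pow 2 104) (Nat.pow 2 331))) = true := by
  decide +kernel

theorem lvu92 : lvB [] ([([], .h), ([], .i), ([.d], .c), ([.e], .d), ([.f], .e), ([.g], .f), ([.c, .b], .a), ([.d, .c], .b)].map tw) 92 5 3510 = true := by decide +kernel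

theorem lvu43 : lvB [92] ([([], .d), ([], .e), ([], .f), ([], .g), ([.c], .b), ([.c, .b], .a), ([.h, .i, .d, .h, .e, .d], .c)].map tw) 43 5 2816 = true := by decide +kernel

theorem lvu17 : lvB [43, 92] ([([], .c), ([], .e), ([], .f), ([], .g), ([.b], .a), ([.d, .h, .i, .c, .d, .h, .e, .d, .c], .b)].map tw) 17 5 567 = true := by decide +kernel

theorem lvu7 : lvB [17, 43, 92] ([([], .a), ([.c], .b), ([.g, .f], .e), ([.d, .h, .i, .c, .d, .h, .e, .d, .c], .b), ([.d, .h, .i, .e, .d, .h, .f, .e, .d], .c)].map tw) 7 3 120 = true := by decide +kernel

theorem lvu165 : lvB [7, 17, 43, 92] ([([], .g), ([.c, .b], .a), ([.d, .h, .i, .c, .d, .h, .e, .d, .c, .b], .a), ([.e, .d, .h, .i, .b, .c, .d, .h, .e, .d, .c, .b], .a), ([.c, .d, .h, .i, .f, .e, .d, .h, .g, .f, .e, .d, .c], .b)].map tw) 165 1 32 = true := by decide +kernel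

def g92 : List Gen × Gen := ([.h, .d, .e, .c, .d, .h, .f, .e, .d, .c], .b)

theorem pg92 : Nat.beq (twp g92) 165 = true := by decide +kernel

theorem eqg92 : eqB (tw d92 ++ tw g92) (kwl [1, 2, 0, 0, 1]) = true := by decide +kernel

theorem thg92 : Nat.beq (ptWord (nw (tw d92)) 165) 207 = true := by decide +kernel

def g7 : List Gen × Gen := ([.h, .i, .e, .d, .h, .f, .e, .d], .c)

theorem pg7 : Nat.beq (twp g7) 158 = true := by decide +kernel

theorem eqg7 : eqB (tw d7 ++ tw g7) (kwl [1, 1, 1, 0, 0]) = true := by decide +kernel

theorem thg7 : Nat.beq (ptWord (nw (tw d7)) 158) 330 = true := by decide +kernel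

def g17 : List Gen × Gen := ([.h, .i, .d, .h, .f, .e, .d, .c], .b)

theorem pg17 : Nat.beq (twp g17) 104 = true := by decide +kernel

theorem eqg17 : eqB (tw d17 ++ tw g17) (kwl [0, 1, 1, 1, 0]) = true := by decide +kernel

theorem thg17 : Nat.beq (ptWord (nw (tw d17)) 104) 331 = true := by decide +kernel

end Cfsg.Agent.H834.XC
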