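import Cfsg.Agent.H834.Rank

/-!
# Three commuting families of nine transpositions in `Fi22`: kernel checks (helper834)
-/

set_option autoImplicit false
set_option maxRecDepth 100000
set_option exponentiation.threshold 5000

namespace Cfsg.Agent.H834.ZC

open Cfsg.Spor Cfsg.Spor.Fi22 Cfsg.Agent.Lib.PermNet Cfsg.Agent.Lib.PermNetOrbit Cfsg.Agent.Lib.PermNetFix
open Cfsg.Agent.Fischer Cfsg.Agent.Fischer.Fi22PtsRep
open Cfsg.Agent.Fischer.Fi22Order (nws nws_ok)

/-- the element `z` -/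
def zw : List Gen := [.b, .c, .d, .h, .i, .e, .d, .h, .f, .e, .d, .c, .b, .c, .d, .e, .f, .h, .d, .e, .i, .h, .d, .c, .d, .h, .i, .e, .d, .h, .f, .e, .d, .c, .d, .e, .f, .h, .d, .e, .i, .h, .d, .c]

/-- the twenty-seven transpositions -/
def tl : List (List Gen × Gen) := [
  ([], .b),
  ([], .c),
  ([.c], .b),
  ([.c, .d, .h, .i, .e, .d, .h, .f, .e, .d], .c),
  ([.d, .h, .i, .e, .d, .h, .f, .e, .d, .c], .b),
  ([.b, .c, .d, .h, .i, .e, .d, .h, .f, .e, .d, .c], .b),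
  ([.b, .c, .d, .h, .i, .e, .d, .h, .f, .e, .d], .c),
  ([.c, .d, .h, .i, .e, .d, .h, .f, .e, .d, .c], .b),
  ([.d, .h, .i, .e, .d, .h, .f, .e, .d], .c),
  ([], .h),
  ([], .i),
  ([.i], .h),
  ([.i, .d, .e, .c, .d, .h, .f, .e, .d, .c], .b),
  ([.h, .d, .e, .c, .d, .h, .f, .e, .d, .c], .b),
  ([.h, .i, .h, .d, .e, .c, .d, .h, .f, .e, .d, .c], .b),
  ([.h, .i, .d, .e, .c, .d, .h, .f, .e, .d, .c], .b),
  ([.i, .h, .d, .e, .c, .d, .h, .f, .e, .d, .c], .b),
  ([.d, .e, .c, .d, .h, .f, .e, .d, .c], .b),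
  ([], .e),
  ([], .f),
  ([.f], .e),
  ([.d, .h, .i, .c, .d, .h, .f, .e, .d, .c], .b),
  ([.e, .d, .h, .i, .c, .d, .h, .e, .d, .c], .b),
  ([.f, .e, .d, .h, .i, .c, .d, .h, .f, .e, .d, .c], .b),
  ([.e, .d, .h, .i, .c, .d, .h, .f, .e, .d, .c], .b),
  ([.f, .e, .d, .h, .i, .c, .d, .h, .e, .d, .c], .b),
  ([.d, .h, .i, .c, .d, .h, .e, .d, .c], .b)]

/-- their points -/
def pl : List ℕ := [2, 6, 4, 248, 169, 264, 313, 211, 198, 43, 92, 66, 166, 165, 259, 208, 207, 131, 40, 88, 62, 168, 170, 263, 210, 212, 135]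

theorem chkpl : tl.map twp = pl := by
  have h : (tl.map twp == pl) = true := by decide +kernel
  exact LawfulBEq.eq_of_beq h

/-- the mask of a list of points -/
noncomputable def msk (l : List ℕ) : ℕ :=
  List.rec (motive := fun _ => ℕ) 0 (fun p _ ih => Nat.lor (Nat.pow 2 p) ih) l

/-- the mask of the twenty-seven points -/
def FZ : ℕ := 0x20000000000018801000000001d8040000007600000008800000000110000044000090000000054

theorem chkFZ : Nat.beq (msk pl) FZ = true := by decide +kernel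

theorem chkz : Nat.beq (fixm zw) FZ = true := by decide +kernel

theorem chkz3 : Nat.beq (fixm (zw ++ (zw ++ zw))) full = true := by decide +kernel

/-- the index -/
def ix (i a : ℕ) : ℕ := Nat.add (Nat.mul 9 i) a

/-- `-(a + b)` on indices -/
def ng (a b : ℕ) : ℕ :=
  Nat.add (Nat.mod (Nat.sub 6 (Nat.add (Nat.mod a 3) (Nat.mod b 3))) 3)
    (Nat.mul 3 (Nat.mod (Nat.sub 6 (Nat.add (Nat.div a 3) (Nat.div b 3))) 3))

/-- rotation on indices -/
def rt (a : ℕ) : ℕ := Nat.add (Nat.mod (Nat.sub 3 (Nat.div a 3)) 3) (Nat.mul 3 (Nat.mod a 3))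

/-- `a + b` on indices -/
def ad (a b : ℕ) : ℕ :=
  Nat.add (Nat.mod (Nat.add (Nat.mod a 3) (Nat.mod b 3)) 3)
    (Nat.mul 3 (Nat.mod (Nat.add (Nat.div a 3) (Nat.div b 3)) 3))

/-- point of an index -/
def pt (n : ℕ) : ℕ := pl.getD n 0

/-- word of an index -/
def cw (n : ℕ) : List Gen × Gen := tl.getD n ([], .a)

def r9 : List ℕ := [0, 1, 2, 3, 4, 5, 6, 7, 8]

def r3 : List ℕ := [0, 1, 2]

theorem chkR : (r3.all fun i => r9.all fun a => r9.all fun b =>
    Nat.beq (ptWord (nw (tw (cw (ix i a)))) (pt (ix i b))) (pt (ix i (ng a b)))) = true := by decide +kernel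

theorem chkC : (r3.all fun i => r3.all fun j => r9.all fun a => r9.all fun b =>
    or (Nat.beq i j) (Nat.beq (ptWord (nw (tw (cw (ix i a)))) (pt (ix j b))) (pt (ix j b)))) = true := by decide +kernel

theorem chkN : (r3.all fun i => r9.all fun a => or (Nat.beq a 0)
    (not (Nat.beq (ptWord (nw (tw (cw (ix i 0)) ++ tw (cw (ix i (rt a))))) 0)
      (ptWord (nw (tw (cw (ix i a)) ++ tw (cw (ix i (ad (rt a) a))))) 0)))) = true := by decide +kernel

/-- the elements `s i` -/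
def sw : List (List Gen) := [
  [.c, .b, .a, .b, .c, .d, .h, .i, .e, .d, .h, .f, .e, .d, .c, .b, .a, .b, .c, .d, .e, .f, .h, .d, .e, .c, .d, .h, .g, .f, .e, .d, .c, .b, .c, .d, .e, .f, .g, .h, .d, .c, .i, .h, .d, .e, .f, .g],
  [.a, .b, .c, .i, .h, .d, .h, .i, .e, .h, .f, .d, .h, .e, .d, .c, .d, .e, .h, .d, .b, .c, .a, .b, .d, .h, .e, .d, .c, .d, .e, .h, .d, .a, .b, .c, .d, .h, .i, .e, .d, .h, .f, .e, .d, .c, .b, .a, .b, .c, .d, .e, .f, .h, .d, .e, .i, .h, .d],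
  [.a, .b, .c, .f, .e, .d, .e, .f, .h, .i, .d, .h, .e, .d, .c, .d, .e, .h, .d, .e, .b, .c, .a, .b, .d, .h, .e, .d, .c, .d, .e, .h, .d, .a, .b, .c, .d, .h, .i, .e, .d, .h, .f, .e, .d, .c, .b, .a, .b, .c, .d, .e, .f, .h, .d, .e, .i, .h, .d]]

theorem chkS : (r3.all fun i => r9.all fun a =>
    Nat.beq (ptWord (nw (sw.getD i [])) (pt (ix i a))) (pt (ix i (rt a)))) = true := by decide +kernel

theorem chkSM : (r3.all fun i => pl.all fun p => tb FZ (ptWord (nw (sw.getD i [])) p)) = true := by decide +kernel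

theorem chkDup : pl.Nodup := by decide

def k2 : List (List Gen × Gen) := [([], .a), ([], .b), ([], .c), ([], .d), ([], .e), ([], .h), ([], .f), ([], .i), ([], .g)]

theorem lv2 : lvB [] (k2.map tw) 2 6 3510 = true := by decide +kernel

def k6 : List (List Gen × Gen) := [([], .d), ([], .e), ([], .h), ([], .f), ([], .i), ([], .g), ([.c, .b], .a), ([.c, .d, .h, .e, .d, .c], .b)]

theorem lv6 : lvB [2] (k6.map tw) 6 5 2816 = true := by decide +kernel

def k43 : List (List Gen × Gen) := [([], .i), ([.i], .h), ([.d, .c, .b], .a), ([.e, .d, .c, .b], .a), ([.g, .f, .e, .d, .c, .b], .a), ([.d, .e, .c, .d, .h, .f, .e, .d, .c], .b)]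

theorem lv43 : lvB [6, 2] (k43.map tw) 43 4 126 = true := by decide +kernel

def k40 : List (List Gen × Gen) := [([], .f), ([], .g), ([.f], .e), ([.i, .h, .d, .c, .b], .a), ([.d, .h, .i, .c, .d, .h, .e, .d, .c], .b)]

theorem lv40 : lvB [43, 6, 2] (k40.map tw) 40 3 45 = true := by decide +kernel

def k88 : List (List Gen × Gen) := [([], .g), ([.i, .h, .f, .e, .d, .c, .b], .a), ([.f, .e, .d, .h, .i, .c, .d, .h, .g, .f, .e, .d, .c], .b), ([.d, .e, .f, .c, .d, .e, .b, .c, .d, .h, .g, .f, .e, .d, .c, .b], .a)]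

theorem lv88 : lvB [40, 43, 6, 2] (k88.map tw) 88 2 32 = true := by decide +kernel

def k92 : List (List Gen × Gen) := [([], .h), ([.i, .h, .g, .f, .e, .d, .c, .b], .a), ([.d, .e, .f, .c, .d, .e, .b, .c, .d, .h, .g, .f, .e, .d, .c, .b], .a)]

theorem lv92 : lvB [88, 40, 43, 6, 2] (k92.map tw) 92 2 12 = true := by decide +kernel

end Cfsg.Agent.H834.ZC
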