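import Cfsg.Agent.H834.ZChk
import Cfsg.Agent.H834.ExtMain

/-!
# The normalizer of a `3`-central subgroup of `Fi22` (helper834)
-/

set_option autoImplicit false
set_option maxRecDepth 100000
set_option exponentiation.threshold 5000

namespace Cfsg.Agent.H834

open Cfsg.Spor Cfsg.Spor.Fi22 Cfsg.Agent.Lib.PermNet Cfsg.Agent.Lib.PermNetOrbit Cfsg.Agent.Lib.PermNetFix
open Cfsg.Agent.Fischer Cfsg.Agent.Fischer.Fi22PtsRep
open Cfsg.Agent.Fischer.Fi22Order (nws nws_ok)
open Ext (V)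

namespace ZC

/-- the index of a vector -/
def va (a : V) : ℕ := a.1.val + 3 * a.2.val

theorem va_mem (a : V) : va a ∈ r9 := by revert a; decide

theorem fin_mem (i : Fin 3) : (i : ℕ) ∈ r3 := by revert i; decide

theorem va_ng (a b : V) : ng (va a) (va b) = va (-(a + b)) := by revert a b; decide

theorem va_ad (a b : V) : ad (va a) (va b) = va (a + b) := by revert a b; decide

theorem va_rt (a : V) : rt (va a) = va (-a.2, a.1) := by revert a; decide

theorem va_zero : va 0 = 0 := by decide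

theorem va_inj' (i j : Fin 3) (a b : V) (h : ix i (va a) = ix j (va b)) : i = j ∧ a = b := by
  revert i j a b
  decide

theorem ix_lt (i : Fin 3) (a : V) : ix i (va a) < 27 := by revert i a; decide

theorem ix_surj (n : Fin 27) : ∃ (i : Fin 3) (a : V), ix i (va a) = n := by revert n; decide

theorem pl_length : pl.length = 27 := by decide

theorem testBit_msk (l : List ℕ) (p : ℕ) : (msk l).testBit p = true ↔ p ∈ l := by
  induction l with
  | nil => simp [msk]
  | cons q l ih =>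
    have e : msk (q :: l) = 2 ^ q ||| msk l := rfl
    rw [e, Nat.testBit_or, Bool.or_eq_true, ih, Nat.testBit_two_pow, decide_eq_true_eq, List.mem_cons]
    constructor
    · rintro (h | h)
      · exact Or.inl h.symm
      · exact Or.inr h
    · rintro (h | h)
      · exact Or.inl h.symm
      · exact Or.inr h

theorem FZ_iff (p : ℕ) : FZ.testBit p = true ↔ p ∈ pl := by
  have h : msk pl = FZ := Nat.eq_of_beq_eq_true chkFZ
  rw [← h, testBit_msk]

theorem twp_cw (n : ℕ) : twp (cw n) = pt n := by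
  have h1 : twp ([], .a) = 0 := rfl
  have h2 : (tl.map twp).getD n (twp ([], .a)) = twp (tl.getD n ([], .a)) := List.getD_map ..
  unfold cw pt
  rw [← h2, h1, chkpl]

theorem pt_mem {n : ℕ} (hn : n < 27) : pt n ∈ pl := by
  unfold pt
  rw [List.getD_eq_getElem _ _ (by rw [pl_length]; exact hn)]
  exact List.getElem_mem _

theorem pt_inj {n k : ℕ} (hn : n < 27) (hk : k < 27) (h : pt n = pt k) : n = k := by
  unfold pt at h
  rw [List.getD_eq_getElem _ _ (by rw [pl_length]; exact hn), List.getD_eq_getElem _ _ (by rw [pl_length]; exact hk)] at h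
  exact (chkDup.getElem_inj_iff).1 h

theorem exists_pt {p : ℕ} (hp : p ∈ pl) : ∃ (i : Fin 3) (a : V), pt (ix i (va a)) = p := by
  obtain ⟨n, hn, rfl⟩ := List.mem_iff_getElem.1 hp
  have hn' : n < 27 := by rw [← pl_length]; exact hn
  obtain ⟨i, a, h⟩ := ix_surj ⟨n, hn'⟩
  refine ⟨i, a, ?_⟩
  rw [h]
  exact List.getD_eq_getElem _ _ hn

theorem R_spec (i : Fin 3) (a b : V) :
    ptWord (nw (tw (cw (ix i (va a))))) (pt (ix i (va b))) = pt (ix i (va (-(a + b)))) := by
  have h := chkR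
  rw [List.all_eq_true] at h
  have h1 := h _ (fin_mem i)
  rw [List.all_eq_true] at h1
  have h2 := h1 _ (va_mem a)
  rw [List.all_eq_true] at h2
  have h3 := Nat.eq_of_beq_eq_true (h2 _ (va_mem b))
  rw [h3, va_ng]

theorem C_spec {i j : Fin 3} (hij : i ≠ j) (a b : V) :
    ptWord (nw (tw (cw (ix i (va a))))) (pt (ix j (va b))) = pt (ix j (va b)) := by
  have h := chkC
  rw [List.all_eq_true] at h
  have h1 := h _ (fin_mem i)
  rw [List.all_eq_true] at h1
  have h1 := h1 _ (fin_mem j)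
  rw [List.all_eq_true] at h1
  have h2 := h1 _ (va_mem a)
  rw [List.all_eq_true] at h2
  have h3 := h2 _ (va_mem b)
  rw [Bool.or_eq_true] at h3
  rcases h3 with h3 | h3
  · exact absurd (Fin.ext (Nat.eq_of_beq_eq_true h3)) hij
  · exact Nat.eq_of_beq_eq_true h3

theorem N_spec (i : Fin 3) {a : V} (ha : a ≠ 0) :
    ptWord (nw (tw (cw (ix i (va 0))) ++ tw (cw (ix i (va (-a.2, a.1)))))) 0 ≠
      ptWord (nw (tw (cw (ix i (va a))) ++ tw (cw (ix i (va ((-a.2, a.1) + a)))))) 0 := by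
  have h := chkN
  rw [List.all_eq_true] at h
  have h1 := h _ (fin_mem i)
  rw [List.all_eq_true] at h1
  have h2 := h1 _ (va_mem a)
  rw [Bool.or_eq_true] at h2
  rcases h2 with h2 | h2
  · have h3 := Nat.eq_of_beq_eq_true h2
    exfalso
    apply ha
    revert h3
    clear h h1 h2 ha
    revert a
    decide
  · rw [Bool.not_eq_true'] at h2
    have h3 := Nat.ne_of_beq_eq_false h2
    rw [va_rt, va_ad] at h3
    rw [va_zero]
    exact h3

theorem S_spec (i : Fin 3) (a : V) :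
    ptWord (nw (sw.getD i [])) (pt (ix i (va a))) = pt (ix i (va (-a.2, a.1))) := by
  have h := chkS
  rw [List.all_eq_true] at h
  have h1 := h _ (fin_mem i)
  rw [List.all_eq_true] at h1
  have h2 := Nat.eq_of_beq_eq_true (h1 _ (va_mem a))
  rw [h2, va_rt]

theorem SM_spec (i : Fin 3) {p : ℕ} (hp : p ∈ pl) : ptWord (nw (sw.getD i [])) p ∈ pl := by
  have h := chkSM
  rw [List.all_eq_true] at h
  have h1 := h _ (fin_mem i)
  rw [List.all_eq_true] at h1
  have h2 := h1 _ hp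
  rw [tb_eq, FZ_iff] at h2
  exact h2

end ZC

open ZC

namespace Model

variable {G : Type*} [Group G] {D : Set G} (m : Model G D)

include m in
theorem pt_lt {n : ℕ} (_hn : n < 27) : pt n < 3510 := by
  rw [← twp_cw n]; exact m.twp_lt _

theorem t_pt {n : ℕ} (_hn : n < 27) : m.t (pt n) = m.wd (tw (cw n)) := by
  rw [← twp_cw n, m.t_tw]

theorem φ_t_pt {n : ℕ} (hn : n < 27) (q : ℕ) : m.φ (m.t (pt n)) q = ptWord (nw (tw (cw n))) q := by
  rw [m.t_pt hn, φ_wd_apply]

theorem fixz {p : ℕ} (hp : p < 3510) : m.φ (m.wd zw) p = p ↔ p ∈ pl := by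
  rw [← m.testBit_fixm hp, Nat.eq_of_beq_eq_true chkz, FZ_iff]

theorem z_cube : m.wd zw * m.wd zw * m.wd zw = 1 := by
  apply m.eq_one_of_fix
  intro p hp
  have h : fixm (zw ++ (zw ++ zw)) = full := Nat.eq_of_beq_eq_true chkz3
  have h1 : (fixm (zw ++ (zw ++ zw))).testBit p = true := by rw [h, testBit_full]; simp [hp]
  rw [m.testBit_fixm hp, wd_append, wd_append, ← mul_assoc] at h1
  exact h1

theorem z_ne : m.wd zw ≠ 1 := by
  intro h
  have h1 : (0 : ℕ) ∈ pl := by
    rw [← m.fixz (by norm_num), h, map_one, Equiv.Perm.one_apply]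
  exact absurd h1 (by decide)

theorem card_stab_Z : Nat.card (stabL m.φ [92, 88, 40, 43, 6, 2]) ≤ 3 := by
  have s1 := m.lv_le_top lv2
  have s2 := m.lv_le_top lv6
  have s3 := m.lv_le_top lv43
  have s4 := m.lv_le_top lv40
  have s5 := m.lv_le_top lv88
  have s6 := m.lv_le_top lv92
  have s0 := m.card_stabL_nil
  omega

theorem cent_z {g : G} (h : ∀ p ∈ pl, m.φ g p = p) : g = 1 ∨ g = m.wd zw ∨ g = m.wd zw * m.wd zw := by
  have hfin := m.finite
  have hmem : ∀ p ∈ [92, 88, 40, 43, 6, 2], p ∈ pl := by decide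
  have hlt : ∀ p ∈ [92, 88, 40, 43, 6, 2], p < 3510 := by decide
  have h1 : g ∈ stabL m.φ [92, 88, 40, 43, 6, 2] := fun q hq => h q (hmem q hq)
  have h2 : Subgroup.zpowers (m.wd zw) ≤ stabL m.φ [92, 88, 40, 43, 6, 2] := by
    rw [Subgroup.zpowers_le]
    exact fun q hq => (m.fixz (hlt q hq)).2 (hmem q hq)
  have h3 : orderOf (m.wd zw) = 3 := by
    have : Fact (Nat.Prime 3) := ⟨Nat.prime_three⟩
    exact orderOf_eq_prime (by rw [pow_succ, pow_two]; exact m.z_cube) m.z_ne
  have h4 : Subgroup.zpowers (m.wd zw) = stabL m.φ [92, 88, 40, 43, 6, 2] := by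
    apply Subgroup.eq_of_le_of_card_ge h2
    rw [Nat.card_zpowers, h3]
    exact m.card_stab_Z
  rw [← h4] at h1
  obtain ⟨k, hk⟩ := h1
  have h5 : (m.wd zw) ^ (3 : ℤ) = 1 := by
    rw [show (3 : ℤ) = 1 + 1 + 1 by norm_num, zpow_add, zpow_add, zpow_one, m.z_cube]
  have h6 : (m.wd zw) ^ k = (m.wd zw) ^ (k % 3) := by
    conv_lhs => rw [← Int.emod_add_mul_ediv k 3, zpow_add, zpow_mul, h5, one_zpow, mul_one]
  have h7 : k % 3 = 0 ∨ k % 3 = 1 ∨ k % 3 = 2 := by omega
  have hk' : (m.wd zw) ^ k = g := hk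
  rw [← hk', h6]
  rcases h7 with h7 | h7 | h7 <;> rw [h7]
  · left; simp
  · right; left; simp
  · right; right
    rw [show (2 : ℤ) = 1 + 1 by norm_num, zpow_add, zpow_one]

/-- **The three families of nine transpositions of `Fi22`.** -/
noncomputable def zdata : Ext.ZData G D where
  z := m.wd zw
  T i a := m.t (pt (ix i (va a)))
  s i := m.wd (sw.getD i [])
  z3 := m.z_cube
  z1 := m.z_ne
  conj_mem := by
    intro g d hd
    obtain ⟨p, hp, rfl⟩ := m.mem_iff.1 hd
    rw [m.conj_t g hp]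
    exact m.t_mem (m.φ_lt g hp)
  mem i a := m.t_mem (m.pt_lt (ix_lt i a))
  sq i a := m.t_sq (m.pt_lt (ix_lt i a))
  inj := by
    intro i a j b h
    exact va_inj' i j a b (pt_inj (ix_lt i a) (ix_lt j b) (m.t_inj (m.pt_lt (ix_lt i a)) (m.pt_lt (ix_lt j b)) h))
  refl := by
    intro i a b
    have h1 := m.conj_t (m.t (pt (ix i (va a)))) (m.pt_lt (ix_lt i b))
    rw [m.t_inv (m.pt_lt (ix_lt i a)), m.φ_t_pt (ix_lt i a), R_spec] at h1
    exact h1
  comm := by
    intro i j hij a b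
    rw [m.comm_iff _ (m.pt_lt (ix_lt j b)), m.φ_t_pt (ix_lt i a)]
    exact C_spec hij a b
  zc := by
    intro i a
    rw [m.comm_iff _ (m.pt_lt (ix_lt i a)), m.fixz (m.pt_lt (ix_lt i a))]
    exact pt_mem (ix_lt i a)
  fix := by
    intro d hd h
    obtain ⟨p, hp, rfl⟩ := m.mem_iff.1 hd
    rw [m.comm_iff _ hp, m.fixz hp] at h
    obtain ⟨i, a, hia⟩ := exists_pt h
    exact ⟨i, a, by rw [hia]⟩
  cent := by
    intro g h
    apply m.cent_z
    intro p hp
    obtain ⟨i, a, rfl⟩ := exists_pt hp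
    exact (m.comm_iff g (m.pt_lt (ix_lt i a))).1 (h i a)
  nonab := by
    intro i a ha
    refine ⟨(-a.2, a.1), fun h => N_spec i ha ?_⟩
    rw [m.t_pt (ix_lt _ _), m.t_pt (ix_lt _ _), m.t_pt (ix_lt _ _), m.t_pt (ix_lt _ _), ← wd_append, ← wd_append] at h
    have h1 := congrArg (fun x => m.φ x 0) h
    simp only [φ_wd_apply] at h1
    exact h1
  sm := by
    intro i j a
    rw [m.conj_t _ (m.pt_lt (ix_lt j a)), φ_wd_apply]
    obtain ⟨k, b, hkb⟩ := exists_pt (SM_spec i (pt_mem (ix_lt j a)))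
    exact ⟨k, b, by rw [hkb]⟩
  s0 := by
    intro i
    rw [m.conj_t _ (m.pt_lt (ix_lt i 0)), φ_wd_apply, S_spec]
    congr 3
  sr := by
    intro i a
    rw [m.conj_t _ (m.pt_lt (ix_lt i a)), φ_wd_apply, S_spec]

include m in
/-- **S5478.** -/
theorem main5478 (Z : Subgroup G) (hZ : Nat.card Z = 3)
    (hc : ∃ P : Sylow 3 G, Z ≤ (Subgroup.center ↥(P : Subgroup G)).map (P : Subgroup G).subtype) :
    Cfsg.IsExtraspecial 3 ↥(Cfsg.generalizedFittingSubgroup ↥(Subgroup.normalizer ((Z : Subgroup G) : Set G))) ∧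
    Nat.card ↥(Cfsg.generalizedFittingSubgroup ↥(Subgroup.normalizer ((Z : Subgroup G) : Set G))) = 3 ^ 7 ∧
    Cfsg.commutingWidth (D ∩ (Subgroup.centralizer ((Z : Subgroup G) : Set G) : Set G)) = 3 := by
  have hfin := m.finite
  obtain ⟨g, hg⟩ := m.zdata.exists_conj hZ hc
  exact (m.conj g).zdata.main hg

end Model

end Cfsg.Agent.H834
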